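import Cfsg.Agent.Lib.Recog.JOneSquare.Act
import Cfsg.Agent.Lib.Spor.J1.Mult
import Cfsg.Agent.Lib.Transfer.SubThree.Twelve
import Cfsg.Agent.Lib.Recog.PSLTwoSpectrum
import Cfsg.Agent.Lib.Classical.SLNormal
import Cfsg.Agent.Lib.Invol.GW.Consumers.Dihedral

/-!
# Facts about `J₁`, `A₅` and `L₂(11)`
-/

set_option autoImplicit false
set_option linter.style.haveILetI false

open Subgroup
open scoped MatrixGroups commutatorElement

namespace Cfsg.Agent.Recog.JOneSquare

/-- `J₁`. -/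
abbrev J := ↥Cfsg.Spor.J1

/-- `A₅`. -/
abbrev A5 := ↥(alternatingGroup (Fin 5))

instance fact_eleven : Fact (Nat.Prime 11) := ⟨by norm_num⟩

/-- `SL₂(11)`. -/
abbrev SL11 := Matrix.SpecialLinearGroup (Fin 2) (ZMod 11)

/-- `L₂(11)`. -/
abbrev L11 := Matrix.ProjectiveSpecialLinearGroup (Fin 2) (ZMod 11)

theorem jCard : Nat.card J = 175560 := J1Cert.card_J1

instance finite_J : Finite J := Nat.finite_of_card_ne_zero (by rw [jCard]; norm_num)

theorem jSimple : IsSimpleGroup J := J1Cert.simple_J1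

theorem jOrd (x : J) : orderOf x ∈ jOrds := by
  have h : orderOf x ∈ Set.range (orderOf : J → ℕ) := Set.mem_range_self x
  rw [J1Cert.range_orderOf] at h
  simpa [jOrds] using h

theorem jOrd_exists {n : ℕ} (h : n ∈ jOrds) : ∃ x : J, orderOf x = n := by
  have h2 : n ∈ Set.range (orderOf : J → ℕ) := by
    rw [J1Cert.range_orderOf]; simpa [jOrds] using h
  exact h2

theorem jBound : Bound J := fun x => ⟨orderOf x, jOrd x, 1, by decide, Nat.dvd_lcm_left _ _⟩

theorem jNotComm : ¬ IsMulCommutative J := fun h => by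
  haveI := jSimple
  letI : CommGroup J := { (inferInstance : Group J) with mul_comm := h.is_comm.comm }
  have hp : (Nat.card J).Prime := IsSimpleGroup.prime_card
  rw [jCard] at hp
  exact absurd hp (by norm_num)

theorem jA4 : ∃ e g : J, A4El e g := by
  obtain ⟨E⟩ := J1Cert.centralizer_equiv
  have h5 : ∃ e g : A5, A4El e g := by
    refine ⟨⟨Equiv.swap 0 1 * Equiv.swap 2 3, by rw [Equiv.Perm.mem_alternatingGroup]; decide⟩, ⟨Equiv.swap 0 1 * Equiv.swap 1 2, by rw [Equiv.Perm.mem_alternatingGroup]; decide⟩, ?_⟩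
    constructor <;> decide
  obtain ⟨e, g, h⟩ := h5
  exact ⟨_, _, (h.map (MonoidHom.inr (Multiplicative (ZMod 2)) A5) fun a b hab => (Prod.ext_iff.1 hab).2).map
    ((Subgroup.subtype _).comp E.symm.toMonoidHom) (Subtype.val_injective.comp E.symm.injective)⟩

theorem a5A4 : ∃ e g : A5, A4El e g := by
  refine ⟨⟨Equiv.swap 0 1 * Equiv.swap 2 3, by rw [Equiv.Perm.mem_alternatingGroup]; decide⟩, ⟨Equiv.swap 0 1 * Equiv.swap 1 2, by rw [Equiv.Perm.mem_alternatingGroup]; decide⟩, ?_⟩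
  constructor <;> decide

theorem a5Card : Nat.card A5 = 60 := by
  rw [Nat.card_eq_fintype_card]; rfl

theorem a5Aut {p : ℕ} (hp : Big p) (φ : MulAut A5) (h : φ ^ p = 1) : φ = 1 := by
  obtain ⟨E⟩ := Transfer.SubThree.perm_five_mulAut
  have hc : Nat.card (MulAut A5) = 120 := by
    rw [← Nat.card_congr E.toEquiv, Nat.card_perm, Nat.card_fin]; rfl
  haveI : Finite (MulAut A5) := Nat.finite_of_card_ne_zero (by rw [hc]; norm_num)
  rcases (Nat.dvd_prime hp.prime).1 (orderOf_dvd_of_pow_eq_one h) with e | e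
  · exact orderOf_eq_one_iff.1 e
  · have := orderOf_dvd_natCard φ
    rw [e, hc] at this
    rcases hp with rfl | rfl | rfl <;> omega

/-- The generator degrees of the Sylow normalisers. -/
def jDeg (c : ℕ) : ℕ := if c = 11 then 10 else 6

theorem jDeg_arith : ∀ c ∈ [7, 11, 19], ∀ d : ℕ, d ≤ 19 → d ∣ c - 1 → (c * d) ∣ 175560 →
    175560 / (c * d) % c = 1 → d = jDeg c := by decide +kernel

theorem jCard_centralizer {c : ℕ} (hc : Big c) {y : J} (hy : orderOf y = c) :
    centralizer ({y} : Set J) = zpowers y := by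
  haveI := Fact.mk hc.prime
  set C := centralizer ({y} : Set J)
  have hle : zpowers y ≤ C := zpowers_le.2 (mem_centralizer_singleton_iff.2 rfl)
  have hp : IsPGroup c ↥C := by
    refine PiSub.to_pGroup fun q hq hd => ?_
    haveI := Fact.mk hq
    obtain ⟨⟨x, hx⟩, hxq⟩ := exists_prime_orderOf_dvd_card' q hd
    rw [Subgroup.orderOf_mk] at hxq
    by_contra hne
    have hne' : q ≠ c := by simpa using hne
    have hcomm : Commute x y := mem_centralizer_singleton_iff.1 hx
    have ho := hcomm.orderOf_mul_eq_mul_orderOf_of_coprime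
      (by rw [hxq, hy]; exact (Nat.coprime_primes hq hc.prime).2 hne')
    rw [hxq, hy] at ho
    exact (show ∀ m ∈ jOrds, ∀ c ∈ [7, 11, 19], c ∣ m → m = c by decide) _ (jOrd (x * y)) c (big_list c hc)
      (ho ▸ dvd_mul_left c q) |> fun e => by
        rw [ho] at e
        exact hq.ne_one ((Nat.mul_eq_right hc.prime.ne_zero).1 e)
  obtain ⟨n, hn⟩ := IsPGroup.iff_card.1 hp
  have hd := hn ▸ jCard ▸ card_subgroup_dvd_card C
  refine (eq_of_le_of_card_ge hle ?_).symm
  rw [Nat.card_zpowers, hy, hn]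
  have hn1 : n ≤ 1 := by
    by_contra h2
    have h3 : c ^ 2 ∣ 175560 := (pow_dvd_pow c (by omega)).trans hd
    rcases hc with rfl | rfl | rfl <;> norm_num at h3
  exact (pow_le_pow_right₀ hc.prime.one_lt.le hn1).trans (by rw [pow_one])

/-- The normalisers of the large Sylow subgroups of `J₁`. -/
theorem jFrob {c : ℕ} (hc : Big c) : ∃ (y h : J) (k : ℕ), orderOf h = jDeg c ∧ Frob y h c (jDeg c) k := by
  haveI := Fact.mk hc.prime
  have hcm : c ∈ jOrds := by rcases hc with rfl | rfl | rfl <;> decide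
  obtain ⟨y, hy⟩ := jOrd_exists hcm
  set Y := zpowers y
  have hcY : Nat.card Y = c := by rw [Nat.card_zpowers, hy]
  haveI : IsCyclic ↥Y := inferInstance
  set f := Y.normalizerMonoidHom
  have hkerle : ∀ x : ↥(normalizer (Y : Set J)), f x = 1 → (x : J) ∈ Y := fun x hx => by
    show (x : J) ∈ zpowers y
    rw [← jCard_centralizer hc hy, mem_centralizer_singleton_iff]
    have := congrArg Subtype.val (DFunLike.congr_fun hx ⟨y, mem_zpowers y⟩)
    exact mul_inv_eq_iff_eq_mul.1 this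
  have hker : f.ker = Y.subgroupOf (normalizer (Y : Set J)) := by
    refine le_antisymm (fun x hx => hkerle x hx) fun x hx => MulEquiv.ext fun w => Subtype.ext ?_
    show (x : J) * w * (x : J)⁻¹ = w
    rw [mul_inv_eq_iff_eq_mul]
    exact congrArg Subtype.val (mul_comm' (⟨(x : J), hx⟩ : ↥Y) w)
  haveI : IsCyclic (MulAut ↥Y) := by
    haveI : IsCyclic (ZMod (Nat.card ↥Y))ˣ := by rw [hcY]; infer_instance
    exact isCyclic_of_surjective (IsCyclic.mulAutMulEquiv ↥Y).symm.toMonoidHom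
      (IsCyclic.mulAutMulEquiv ↥Y).symm.surjective
  set d := Nat.card f.range
  have hd1 : d ∣ c - 1 := by
    have h1 := card_subgroup_dvd_card f.range
    rwa [Nat.card_congr (IsCyclic.mulAutMulEquiv ↥Y).toEquiv, hcY, Nat.card_eq_fintype_card (α := (ZMod c)ˣ),
      ZMod.card_units c] at h1
  have hN : Nat.card ↥(normalizer (Y : Set J)) = c * d := by
    rw [← card_mul_index f.ker, hker, Nat.card_congr (subgroupOfEquivOfLe le_normalizer).toEquiv, hcY, ← hker,
      index_ker]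
  obtain ⟨P, hP⟩ := (IsPGroup.of_card (p := c) (n := 1) (G := ↥Y) (by rw [hcY, pow_one])).exists_le_sylow
  have hPY : Y = (P : Subgroup J) := by
    refine le_antisymm hP fun x hx => ?_
    have hxy : x ^ c = 1 := jBound.p_group_pow P.isPGroup' hx
    have hcomm : ∀ z ∈ (P : Subgroup J), z * y = y * z := by
      obtain ⟨n, hn⟩ := IsPGroup.iff_card.1 P.isPGroup'
      have hd := hn ▸ jCard ▸ card_subgroup_dvd_card (P : Subgroup J)
      have hn2 : n ≤ 1 := by
        by_contra h2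
        have h3 : c ^ 2 ∣ 175560 := (pow_dvd_pow c (by omega)).trans hd
        rcases hc with rfl | rfl | rfl <;> norm_num at h3
      have e := eq_of_le_of_card_ge hP
        (by rw [hcY, hn]; exact (pow_le_pow_right₀ hc.prime.one_lt.le hn2).trans (pow_one c).le)
      intro z hz
      rw [← e] at hz
      exact congrArg Subtype.val (mul_comm' (⟨z, hz⟩ : ↥Y) ⟨y, mem_zpowers y⟩)
    rw [show Y = centralizer ({y} : Set J) from (jCard_centralizer hc hy).symm]
    exact mem_centralizer_singleton_iff.2 (hcomm x hx)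
  have hsyl := Sylow.card_eq_index_normalizer P
  rw [show ((P : Sylow c J) : Set J) = (Y : Set J) from by rw [hPY]; rfl] at hsyl
  have hmod := card_sylow_modEq_one c J
  have htot : c * d * (normalizer (Y : Set J)).index = 175560 := by rw [← hN, card_mul_index, jCard]
  have hd2 : d = jDeg c := by
    refine jDeg_arith c (big_list c hc) d ?_ hd1 ⟨_, htot.symm⟩ ?_
    · have hc19 : c ≤ 19 := by rcases hc with rfl | rfl | rfl <;> norm_num
      have := Nat.le_of_dvd (by have := hc.prime.two_le; omega) hd1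
      omega
    · rw [← htot, Nat.mul_div_cancel_left _ (Nat.mul_pos hc.prime.pos Nat.card_pos), ← hsyl]
      exact (show _ % c = 1 % c from hmod).trans (Nat.mod_eq_of_lt hc.prime.one_lt)
  obtain ⟨⟨_, x, rfl⟩, hgen⟩ := IsCyclic.exists_ofOrder_eq_natCard (α := ↥f.range)
  have hgen : orderOf (f x) = jDeg c := by
    rw [← hd2]; exact (Subgroup.orderOf_coe _).trans hgen
  obtain ⟨i, hi, hfi⟩ := exact_pow f (jBound.subgroup _) x
  set h' := x ^ i
  rw [hgen] at hi
  have hh : orderOf (h' : J) = jDeg c := (Subgroup.orderOf_coe h').trans hi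
  obtain ⟨k, hk⟩ : ∃ k : ℕ, (h' : J) * y * (h' : J)⁻¹ = y ^ k := by
    have := (Submonoid.mem_powers_iff _ _).1
      (mem_powers_iff_mem_zpowers.2 (conj_mem_of_normalizer h'.2 (mem_zpowers y)))
    exact this.imp fun k hk => hk.symm
  have hpos : 0 < jDeg c := by unfold jDeg; split <;> norm_num
  refine ⟨y, h', k, hh, ⟨hc.prime, hpos, hy, by rw [← hh, pow_orderOf_eq_one], hk, ?_⟩⟩
  have hcp : ∀ l : ℕ, (h' : J) ^ l * y * ((h' : J) ^ l)⁻¹ = y ^ (k ^ l) := by
    intro l
    induction l with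
    | zero => simp
    | succ l ih =>
      rw [pow_succ', pow_succ k, mul_comm (k ^ l) k, mul_inv_rev,
        show (h' : J) * h' ^ l * y * (((h' : J) ^ l)⁻¹ * (h' : J)⁻¹) =
          h' * ((h' : J) ^ l * y * ((h' : J) ^ l)⁻¹) * (h' : J)⁻¹ by group, ih, ← _root_.conj_pow, hk, ← pow_mul]
  have key : ∀ l, y ^ (k ^ l) = y → jDeg c ∣ l := fun l e => by
    have hf1 : f (h' ^ l) = 1 := by
      refine MulEquiv.ext fun w => Subtype.ext ?_
      obtain ⟨j, hj⟩ := mem_zpowers_iff.1 w.2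
      show ((h' : J) ^ l) * (w : J) * ((h' : J) ^ l)⁻¹ = w
      rw [← hj, ← conj_zpow, hcp, e]
    rw [← hgen, ← hfi]
    exact orderOf_dvd_of_pow_eq_one (by rw [← map_pow]; exact hf1)
  intro a ha b hb hab e
  rcases Nat.lt_or_ge a b with hlt | hge
  · have : y ^ (k ^ (b - a)) = y := by
      have e2 := e
      rw [← hcp, ← hcp, ← Nat.add_sub_cancel' hlt.le, pow_add, mul_inv_rev,
        show (h' : J) ^ a * (h' : J) ^ (b - a) * y * (((h' : J) ^ (b - a))⁻¹ * ((h' : J) ^ a)⁻¹) =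
          (h' : J) ^ a * ((h' : J) ^ (b - a) * y * ((h' : J) ^ (b - a))⁻¹) * ((h' : J) ^ a)⁻¹ by group,
        mul_left_inj, mul_right_inj] at e2
      rw [← hcp]; exact e2.symm
    have := Nat.le_of_dvd (by omega) (key _ this)
    omega
  · have : y ^ (k ^ (a - b)) = y := by
      have e2 := e
      rw [← hcp, ← hcp, ← Nat.add_sub_cancel' hge, pow_add, mul_inv_rev,
        show (h' : J) ^ b * (h' : J) ^ (a - b) * y * (((h' : J) ^ (a - b))⁻¹ * ((h' : J) ^ b)⁻¹) =
          (h' : J) ^ b * ((h' : J) ^ (a - b) * y * ((h' : J) ^ (a - b))⁻¹) * ((h' : J) ^ b)⁻¹ by group,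
        mul_left_inj, mul_right_inj] at e2
      rw [← hcp]; exact e2
    have := Nat.le_of_dvd (by omega) (key _ this)
    omega

/-- Every element of order three commutes with one of order five. -/
theorem jFive {x : J} (hx : orderOf x = 3) : ∃ f : J, orderOf f = 5 ∧ x * f = f * x := by
  haveI : Fact (Nat.Prime 3) := ⟨Nat.prime_three⟩
  obtain ⟨w, hw⟩ := jOrd_exists (show 15 ∈ jOrds by decide)
  have h5 : orderOf (w ^ 5) = 3 := by rw [orderOf_pow_of_dvd (by norm_num) (by rw [hw]; norm_num), hw]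
  obtain ⟨T, hT⟩ := exists_sylowIn 3 (⊤ : Subgroup J)
  have hT3 : Nat.card T ≤ 3 := by
    obtain ⟨n, hn⟩ := IsPGroup.iff_card.1 hT.pi.to_pGroup
    have hd := hn ▸ jCard ▸ card_subgroup_dvd_card T
    have hn1 : n ≤ 1 := by
      by_contra h2
      have h3 : 3 ^ 2 ∣ 175560 := (pow_dvd_pow 3 (by omega)).trans hd
      norm_num at h3
    rw [hn]; exact (pow_le_pow_right₀ (by norm_num) hn1).trans (by norm_num)
  obtain ⟨a, -, ha⟩ := hT.exists_conj_mem (mem_top x) Nat.prime_three hx (by simp)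
  obtain ⟨b, -, hb⟩ := hT.exists_conj_mem (mem_top (w ^ 5)) Nat.prime_three h5 (by simp)
  have hz : zpowers (b * w ^ 5 * b⁻¹) = T := eq_of_le_of_card_ge (zpowers_le.2 hb)
    (by rw [Nat.card_zpowers, SzSquare.orderOf_conj, h5]; exact hT3)
  obtain ⟨i, hi⟩ := mem_zpowers_iff.1 (hz ▸ ha : a * x * a⁻¹ ∈ zpowers (b * w ^ 5 * b⁻¹))
  refine ⟨a⁻¹ * (b * w ^ 3 * b⁻¹) * a, ?_, ?_⟩
  · have e : a⁻¹ * (b * w ^ 3 * b⁻¹) * a = a⁻¹ * (b * w ^ 3 * b⁻¹) * a⁻¹⁻¹ := by rw [inv_inv]
    rw [e, SzSquare.orderOf_conj, SzSquare.orderOf_conj, orderOf_pow_of_dvd (by norm_num) (by rw [hw]; norm_num), hw]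
  · have hc : Commute ((b * w ^ 5 * b⁻¹) ^ i) (b * w ^ 3 * b⁻¹) :=
      Commute.zpow_left (SzSquare.conj_commute b ((Commute.refl w).pow_pow 5 3).eq) i
    rw [hi] at hc
    have := SzSquare.conj_commute a⁻¹ hc.eq
    simpa [mul_assoc] using this

/-! ### `L₂(11)` -/

/-- A matrix of determinant one. -/
def mat (a b c d : ZMod 11) (h : a * d - b * c = 1 := by decide) : SL11 :=
  ⟨!![a, b; c, d], by rw [Matrix.det_fin_two_of]; exact h⟩

/-- The image in `L₂(11)`. -/
def pm : SL11 →* L11 := PSL2Spec.proj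

theorem pm_one {A : SL11}
    (h : (A : Matrix (Fin 2) (Fin 2) (ZMod 11)) = 1 ∨ (A : Matrix (Fin 2) (Fin 2) (ZMod 11)) = -1) : pm A = 1 := by
  rw [pm, PSL2Spec.proj_eq_one_iff]
  rcases h with h | h
  · exact ⟨1, by norm_num, by rw [h, one_smul]⟩
  · exact ⟨-1, by norm_num, by rw [h, neg_smul, one_smul]⟩

theorem pm_eq {A B : SL11}
    (h : ((A * B⁻¹ : SL11) : Matrix (Fin 2) (Fin 2) (ZMod 11)) = 1 ∨
      ((A * B⁻¹ : SL11) : Matrix (Fin 2) (Fin 2) (ZMod 11)) = -1) : pm A = pm B := by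
  rw [← mul_inv_eq_one, ← map_inv, ← map_mul]
  exact pm_one h

theorem pm_ne_one {A : SL11}
    (h : ∀ c : ZMod 11, (A : Matrix (Fin 2) (Fin 2) (ZMod 11)) ≠ c • 1) : pm A ≠ 1 := by
  rw [pm, ne_eq, PSL2Spec.proj_eq_one_iff]
  rintro ⟨c, -, hc⟩
  exact h c hc

theorem lA4 : ∃ e g : L11, A4El e g := by
  refine ⟨pm (mat 0 1 10 0), pm (mat 7 7 6 3), pm_ne_one (by decide +kernel), ?_, ?_, ?_, ?_⟩
  · rw [← map_mul]; exact pm_one (by decide +kernel)
  · rw [← map_mul, ← map_mul]; exact pm_one (by decide +kernel)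
  · simp only [← map_inv, ← map_mul]; exact pm_eq (by decide +kernel)
  · simp only [← map_inv, ← map_mul]; exact pm_one (by decide +kernel)

theorem lFrob : ∃ (y h : L11) (k : ℕ), orderOf h = 5 ∧ Frob y h 11 5 k := by
  have ho : orderOf (pm (mat 1 1 0 1)) = 11 := orderOf_eq_prime
    (by rw [← map_pow]; exact pm_one (by decide +kernel)) (pm_ne_one (by decide +kernel))
  haveI : Fact (Nat.Prime 5) := ⟨by norm_num⟩
  refine ⟨pm (mat 1 1 0 1), pm (mat 3 0 0 4), 9, orderOf_eq_prime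
    (by rw [← map_pow]; exact pm_one (by decide +kernel)) (pm_ne_one (by decide +kernel)),
    by norm_num, by norm_num, ho, by rw [← map_pow]; exact pm_one (by decide +kernel),
    by simp only [← map_inv, ← map_mul, ← map_pow]; exact pm_eq (by decide +kernel), ?_⟩
  intro i hi j hj hij e
  rw [pow_eq_pow_iff_modEq, ho] at e
  exact hij ((show ∀ i < 5, ∀ j < 5, 9 ^ i % 11 = 9 ^ j % 11 → i = j by decide) i hi j hj e)

theorem lCard : Nat.card L11 = 660 := by
  have h := Invol.GW.card_PSLTwo (F := ZMod 11) (by rw [ZMod.card]; decide)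
  rw [ZMod.card] at h
  show Nat.card (Matrix.ProjectiveSpecialLinearGroup (Fin 2) (ZMod 11)) = 660
  omega

theorem lSimple : IsSimpleGroup L11 :=
  Classical.PSL_isSimple (F := ZMod 11) (n := 2) le_rfl fun _ => by rw [ZMod.card]; norm_num

/-- A subgroup of `L₂(11)` with two subgroups of order eleven is everything. -/
theorem lTwoSylow {C : Subgroup L11} {P R : Subgroup L11} (hP : Nat.card P = 11) (hR : Nat.card R = 11) (hne : P ≠ R)
    (hPC : P ≤ C) (hRC : R ≤ C) : C = ⊤ := by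
  classical
  haveI : IsSimpleGroup L11 := lSimple
  haveI : Finite L11 := Nat.finite_of_card_ne_zero (by rw [lCard]; norm_num)
  have hC : Nat.card C ∣ 660 := lCard ▸ card_subgroup_dvd_card C
  have h11 : ∀ T : Sylow 11 ↥C, Nat.card (T : Subgroup ↥C) ≤ 11 := fun T => by
    obtain ⟨n, hn⟩ := IsPGroup.iff_card.1 T.isPGroup'
    have hd : 11 ^ n ∣ 660 := (hn ▸ card_subgroup_dvd_card (T : Subgroup ↥C)).trans hC
    have hn1 : n ≤ 1 := by
      by_contra h2
      exact absurd ((pow_dvd_pow 11 (show 2 ≤ n by omega)).trans hd) (by norm_num)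
    rw [hn]; exact (pow_le_pow_right₀ (by norm_num) hn1).trans (by norm_num)
  have hsyl : ∀ X : Subgroup L11, X ≤ C → Nat.card X = 11 →
      ∃ T : Sylow 11 ↥C, (T : Subgroup ↥C) = X.subgroupOf C := fun X hX hc => by
    obtain ⟨T, hT⟩ := (IsPGroup.of_card (p := 11) (n := 1) (G := ↥(X.subgroupOf C))
      (by rw [Nat.card_congr (subgroupOfEquivOfLe hX).toEquiv, hc, pow_one])).exists_le_sylow
    exact ⟨T, (eq_of_le_of_card_ge hT
      (by rw [Nat.card_congr (subgroupOfEquivOfLe hX).toEquiv, hc]; exact h11 T)).symm⟩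
  obtain ⟨TP, hTP⟩ := hsyl P hPC hP
  obtain ⟨TR, hTR⟩ := hsyl R hRC hR
  have hne' : TP ≠ TR := fun e => hne (by
    rw [← map_subgroupOf_eq_of_le hPC, ← map_subgroupOf_eq_of_le hRC, ← hTP, ← hTR, e])
  have hn1 : Nat.card (Sylow 11 ↥C) ≠ 1 := fun e => hne' ((Nat.card_eq_one_iff_unique.1 e).1.elim _ _)
  have hmod : Nat.card (Sylow 11 ↥C) % 11 = 1 := card_sylow_modEq_one 11 ↥C
  have hn0 : Nat.card (Sylow 11 ↥C) ∣ (TP : Subgroup ↥C).index := TP.card_dvd_index
  have hTP11 : Nat.card (TP : Subgroup ↥C) = 11 := by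
    rw [hTP, Nat.card_congr (subgroupOfEquivOfLe hPC).toEquiv, hP]
  have hidx := card_mul_index (TP : Subgroup ↥C)
  rw [hTP11] at hidx
  have hd60 : (TP : Subgroup ↥C).index ∣ 60 := (Nat.mul_dvd_mul_iff_left (by norm_num : 0 < 11)).1
    (hidx.symm ▸ hC)
  have h12 : Nat.card (Sylow 11 ↥C) = 12 :=
    (show ∀ m < 61, m ∣ 60 → m % 11 = 1 → m ≠ 1 → m = 12 by decide) _
      (Nat.lt_succ_of_le (Nat.le_of_dvd (by norm_num) (hn0.trans hd60))) (hn0.trans hd60) hmod hn1
  have h132 : 132 ∣ Nat.card C := by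
    rw [← hidx, show (132 : ℕ) = 11 * 12 by norm_num]
    exact Nat.mul_dvd_mul_left _ (h12 ▸ hn0)
  by_contra hCt
  have hind : C.index ∣ 5 := by
    have := card_mul_index C
    rw [lCard] at this
    obtain ⟨m, hm⟩ := h132
    exact ⟨m, by rw [hm] at this; nlinarith⟩
  -- the action on the cosets would be faithful
  let f : L11 →* Equiv.Perm (L11 ⧸ C) := MulAction.toPermHom L11 (L11 ⧸ C)
  have hker : f.ker = ⊥ := by
    refine (IsSimpleGroup.eq_bot_or_eq_top_of_normal f.ker inferInstance).resolve_right fun e => hCt ?_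
    refine eq_top_iff.2 fun x _ => ?_
    have hx : f x = 1 := MonoidHom.mem_ker.1 (e ▸ mem_top x)
    have := congrArg (fun σ : Equiv.Perm (L11 ⧸ C) => σ ((1 : L11) : L11 ⧸ C)) hx
    simpa [f, MulAction.Quotient.smul_coe, QuotientGroup.eq] using this
  have hcard : Nat.card L11 ∣ Nat.card (Equiv.Perm (L11 ⧸ C)) :=
    Subgroup.card_dvd_of_injective f ((MonoidHom.ker_eq_bot_iff f).1 hker)
  rw [lCard, Nat.card_perm, ← index_eq_card] at hcard
  have h5 : C.index.factorial ∣ Nat.factorial 5 := Nat.factorial_dvd_factorial (Nat.le_of_dvd (by norm_num) hind)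
  exact absurd (hcard.trans h5) (by decide)

theorem lAut {p : ℕ} (hp : p = 7 ∨ p = 19) (φ : MulAut L11) (h : φ ^ p = 1) : φ = 1 := by
  classical
  haveI : IsSimpleGroup L11 := lSimple
  haveI : Fact p.Prime := ⟨by rcases hp with rfl | rfl <;> norm_num⟩
  haveI : Finite L11 := Nat.finite_of_card_ne_zero (by rw [lCard]; norm_num)
  have hP11 : ∀ R : Sylow 11 L11, Nat.card (R : Subgroup L11) = 11 := fun R => by
    rw [Sylow.card_eq_multiplicity, lCard, show (660 : ℕ) = 11 ^ 1 * 60 by norm_num,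
      Nat.factorization_mul (by norm_num) (by norm_num), Finsupp.add_apply,
      Nat.Prime.factorization_pow (by norm_num : Nat.Prime 11), Finsupp.single_eq_same,
      Nat.factorization_eq_zero_of_not_dvd (by norm_num)]
    rfl
  obtain ⟨P⟩ : Nonempty (Sylow 11 L11) := inferInstance
  have hn : Nat.card (Sylow 11 L11) % 11 = 1 ∧ Nat.card (Sylow 11 L11) ∣ 60 := by
    refine ⟨card_sylow_modEq_one 11 L11, P.card_dvd_index.trans ?_⟩
    have := card_mul_index (P : Subgroup L11)
    rw [hP11, lCard] at this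
    rw [show (P : Subgroup L11).index = 60 by omega]
  have hn12 : Nat.card (Sylow 11 L11) = 12 := by
    refine (show ∀ m < 61, m ∣ 60 → m % 11 = 1 → m ≠ 1 → m = 12 by decide) _
      (Nat.lt_succ_of_le (Nat.le_of_dvd (by norm_num) hn.2)) hn.2 hn.1 fun e1 => ?_
    haveI : Subsingleton (Sylow 11 L11) := (Nat.card_eq_one_iff_unique.1 e1).1
    rcases (P.normal_of_subsingleton).eq_bot_or_eq_top with e | e
    · have := hP11 P
      rw [e, Subgroup.card_bot] at this
      norm_num at this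
    · have := hP11 P
      rw [e, Subgroup.card_top, lCard] at this
      norm_num at this
  -- the fixed points of the automorphism
  let C : Subgroup L11 :=
    { carrier := {z | φ z = z}
      one_mem' := map_one φ
      mul_mem' := fun {a b} ha hb => by show φ (a * b) = a * b; rw [map_mul, ha, hb]
      inv_mem' := fun {a} ha => by show φ a⁻¹ = a⁻¹; rw [map_inv, ha] }
  have hP : IsPGroup p ↥(zpowers φ) := by
    rintro ⟨x, hx⟩
    obtain ⟨i, rfl⟩ := mem_zpowers_iff.1 hx
    refine ⟨1, Subtype.ext ?_⟩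
    show (φ ^ i) ^ (p ^ 1) = 1
    rw [pow_one, ← zpow_natCast, ← zpow_mul, mul_comm, zpow_mul, zpow_natCast, h, one_zpow]
  have hmod := hP.card_modEq_card_fixedPoints (α := Sylow 11 L11)
  rw [hn12] at hmod
  have h2 : 1 < Nat.card (MulAction.fixedPoints ↥(zpowers φ) (Sylow 11 L11)) := by
    by_contra hle
    generalize hf : Nat.card (MulAction.fixedPoints ↥(zpowers φ) (Sylow 11 L11)) = f at hmod hle
    have : f ≤ 1 := by omega
    rcases hp with rfl | rfl <;> interval_cases f <;> exact absurd hmod (by decide)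
  haveI := Finite.one_lt_card_iff_nontrivial.1 h2
  obtain ⟨⟨R, hR⟩, ⟨S, hS⟩, hRS⟩ :=
    exists_pair_ne (MulAction.fixedPoints ↥(zpowers φ) (Sylow 11 L11))
  have hle : ∀ T : Sylow 11 L11, T ∈ MulAction.fixedPoints ↥(zpowers φ) (Sylow 11 L11) → (T : Subgroup L11) ≤ C := by
    intro T hT y hy
    have hmem : φ y ∈ (T : Subgroup L11) := by
      have e : φ • T = T := hT ⟨φ, mem_zpowers φ⟩
      have h' : φ y ∈ ((φ • T : Sylow 11 L11) : Subgroup L11) := ⟨y, hy, rfl⟩
      rwa [e] at h'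
    rcases eq_or_ne y 1 with rfl | hy1
    · exact map_one φ
    have hy11 : orderOf y = 11 := orderOf_eq_prime (by
      have := (T : Subgroup L11).orderOf_dvd_natCard hy
      rw [hP11] at this
      exact orderOf_dvd_iff_pow_eq_one.1 this) hy1
    have hzy : zpowers y = (T : Subgroup L11) := eq_of_le_of_card_ge (zpowers_le.2 hy)
      (by rw [hP11, Nat.card_zpowers, hy11])
    rw [← hzy] at hmem
    obtain ⟨k, hk⟩ := (Submonoid.mem_powers_iff _ _).1 (mem_powers_iff_mem_zpowers.2 hmem)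
    have hit : ∀ n : ℕ, (φ ^ n) y = y ^ (k ^ n) := fun n => by
      induction n with
      | zero => simp
      | succ n ih => rw [pow_succ', MulAut.mul_apply, ih, map_pow, ← hk, ← pow_mul, ← pow_succ']
    have h1 := hit p
    rw [h, MulAut.one_apply] at h1
    nth_rewrite 1 [← pow_one y] at h1
    rw [pow_eq_pow_iff_modEq, hy11] at h1
    show φ y = y
    rw [← hk]
    nth_rewrite 2 [← pow_one y]
    rw [pow_eq_pow_iff_modEq, hy11]
    have h3 : (k % 11) ^ p % 11 = 1 := by rw [← Nat.pow_mod]; exact h1.symm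
    exact (show ∀ r < 11, ∀ p ∈ [7, 19], r ^ p % 11 = 1 → r = 1 by decide) (k % 11) (Nat.mod_lt k (by norm_num)) p
      (by rcases hp with rfl | rfl <;> simp) h3
  have htop := lTwoSylow (hP11 R) (hP11 S) (fun e => hRS (Subtype.ext (Sylow.ext e))) (hle R hR) (hle S hS)
  refine MulEquiv.ext fun z => ?_
  have hz : z ∈ C := htop ▸ mem_top z
  exact hz

end Cfsg.Agent.Recog.JOneSquare
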