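import Cfsg.Agent.Lib.Recog.JOneSquare.Lifts
import Cfsg.Agent.Lib.Recog.SzSquare.Module
import Cfsg.Agent.Lib.Recog.SzSquare.Faithful

/-!
# Fixed points of Frobenius groups and of `A₄` on abelian and solvable subgroups
-/

set_option autoImplicit false
set_option linter.style.haveILetI false

open Subgroup Finset
open scoped commutatorElement

namespace Cfsg.Agent.Recog.JOneSquare

open SzSquare (fixd mem_fixd pres mem_pres_top FrobAut norm_fixed)

universe u v

/-- The relations of a Frobenius group with kernel of prime order and cyclic complement. -/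
structure Frob {Γ : Type u} [Group Γ] (y h : Γ) (c n k : ℕ) : Prop where
  prime : c.Prime
  pos : 0 < n
  oy : orderOf y = c
  hh : h ^ n = 1
  conj : h * y * h⁻¹ = y ^ k
  dist : ∀ i < n, ∀ j < n, i ≠ j → y ^ (k ^ i) ≠ y ^ (k ^ j)

section Frob

variable {Γ : Type u} [Group Γ] {y h : Γ} {c n k : ℕ}

theorem Frob.map {Δ : Type v} [Group Δ] (hF : Frob y h c n k) (f : Γ →* Δ) (hy : f y ≠ 1) :
    Frob (f y) (f h) c n k := by
  haveI := Fact.mk hF.prime
  have ho : orderOf (f y) = c := orderOf_eq_prime (by rw [← map_pow, ← hF.oy, pow_orderOf_eq_one, map_one]) hy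
  refine ⟨hF.prime, hF.pos, ho, by rw [← map_pow, hF.hh, map_one],
    by rw [← map_inv, ← map_mul, ← map_mul, hF.conj, map_pow], fun i hi j hj hij e => hF.dist i hi j hj hij ?_⟩
  rw [pow_eq_pow_iff_modEq, hF.oy, ← ho, ← pow_eq_pow_iff_modEq]
  exact e

theorem Frob.conj_pow (hF : Frob y h c n k) : ∀ l : ℕ, h ^ l * y * (h ^ l)⁻¹ = y ^ (k ^ l) := by
  intro l
  induction l with
  | zero => simp
  | succ l ih =>
    rw [pow_succ', pow_succ k, mul_comm (k ^ l) k, mul_inv_rev,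
      show h * h ^ l * y * ((h ^ l)⁻¹ * h⁻¹) = h * (h ^ l * y * (h ^ l)⁻¹) * h⁻¹ by group, ih, ← _root_.conj_pow,
      hF.conj, ← pow_mul]

theorem Frob.sub {m l : ℕ} (hF : Frob y h c n k) (hn : n = m * l) : Frob y (h ^ l) c m (k ^ l) := by
  have hl : 0 < l := Nat.pos_of_mul_pos_left (hn ▸ hF.pos)
  have hm : 0 < m := Nat.pos_of_mul_pos_right (hn ▸ hF.pos)
  refine ⟨hF.prime, hm, hF.oy, by rw [← pow_mul, mul_comm l m, ← hn, hF.hh], hF.conj_pow l,
    fun i hi j hj hij e => hF.dist (l * i) ?_ (l * j) ?_ (fun e2 => hij (Nat.eq_of_mul_eq_mul_left hl e2)) ?_⟩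
  · rw [hn, mul_comm m l]; exact Nat.mul_lt_mul_of_pos_left hi hl
  · rw [hn, mul_comm m l]; exact Nat.mul_lt_mul_of_pos_left hj hl
  · rwa [pow_mul, pow_mul]

variable {W : Type v} [CommGroup W] [Finite W] (ρ : Γ →* MulAut W)

theorem Frob.frobAut (hF : Frob y h c n k) (hy : ρ y ≠ 1) : FrobAut c n k (ρ y) (ρ h) :=
  let H := hF.map ρ hy
  ⟨H.prime, H.pos, by rw [← H.oy, pow_orderOf_eq_one], H.hh, H.conj, H.dist⟩

/-- A fixed-point-free kernel gives a fixed point of the complement. -/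
theorem Frob.fix (hF : Frob y h c n k) {S : Subgroup W} (hcS : ¬ c ∣ Nat.card S) (hyS : ρ y ∈ pres S)
    (hhS : ρ h ∈ pres S) (hfpf : S ⊓ fixd (ρ y) = ⊥) (hS : S ≠ ⊥) : S ⊓ fixd (ρ h) ≠ ⊥ := by
  intro hbot
  have hy : ρ y ≠ 1 := fun e => hS (by
    rw [← le_bot_iff, ← hfpf]
    exact le_inf le_rfl fun v _ => by rw [mem_fixd, e]; rfl)
  have h1 := (hF.frobAut ρ hy).card_le hcS hyS hhS hfpf
  rw [hbot, Subgroup.card_bot, one_pow] at h1
  exact hS (Subgroup.eq_bot_of_card_le _ h1)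

/-- Trivial norms of the complement force a trivial kernel. -/
theorem Frob.act_trivial (hF : Frob y h c n k) (hcW : ¬ c ∣ Nat.card W)
    (hN : ∀ w : W, ∏ j ∈ range n, ((ρ h) ^ j) w = 1) : ρ y = 1 := by
  by_contra hy
  refine hy (MulEquiv.ext fun v => ?_)
  exact (hF.frobAut ρ hy).norm_zero (S := ⊤) (by rwa [Subgroup.card_top]) (mem_pres_top _) (mem_pres_top _)
    trivial fun i _ => hN _

end Frob

section Klein

variable {W : Type v} [CommGroup W]

theorem sq_eq_one_odd [Finite W] (hodd : Odd (Nat.card W)) {v : W} (hv : v * v = 1) : v = 1 := by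
  rcases (Nat.dvd_prime Nat.prime_two).1 (orderOf_dvd_of_pow_eq_one ((pow_two v).trans hv)) with e | e
  · exact orderOf_eq_one_iff.1 e
  · exact absurd (e ▸ orderOf_dvd_natCard v) hodd.not_two_dvd_nat

/-- Some involution of a four group has a nontrivial norm. -/
theorem klein_norm [Finite W] (hodd : Odd (Nat.card W)) {a b : MulAut W} {v : W} (h1 : v * a v = 1)
    (h2 : v * b v = 1) (h3 : v * (a * b) v = 1) : v = 1 := by
  rw [MulAut.mul_apply, ← eq_inv_of_mul_eq_one_right h2 |>.symm, map_inv, ← eq_inv_of_mul_eq_one_right h1 |>.symm,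
    inv_inv] at h3
  exact sq_eq_one_odd hodd h3

theorem mul_apply_fixed {a : MulAut W} (ha : a * a = 1) (v : W) : a (v * a v) = v * a v := by
  rw [map_mul, ← MulAut.mul_apply, ha, MulAut.one_apply, mul_comm]

/-- An involution without fixed points inverts. -/
theorem inverts [Finite W] {S : Subgroup W} (hodd : Odd (Nat.card S)) {s : MulAut W} (hs : s * s = 1)
    (hsS : s ∈ pres S) (hf : S ⊓ fixd s = ⊥) {v : W} (hv : v ∈ S) : s v = v⁻¹ := by
  refine eq_inv_of_mul_eq_one_right ((Subgroup.eq_bot_iff_forall _).1 hf _ ⟨mul_mem hv ((hsS v).2 hv),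
    mul_apply_fixed hs v⟩)

/-- An operator of prime order on a small group. -/
theorem card_modEq_fixd [Finite W] {a : MulAut W} {c : ℕ} [hc : Fact c.Prime] (ha : a ^ c = 1) :
    Nat.card W ≡ Nat.card (fixd a) [MOD c] := by
  have hP : IsPGroup c ↥(zpowers a) := by
    rintro ⟨x, hx⟩
    obtain ⟨i, rfl⟩ := mem_zpowers_iff.1 hx
    refine ⟨1, Subtype.ext ?_⟩
    show (a ^ i) ^ (c ^ 1) = 1
    rw [pow_one, ← zpow_natCast, ← zpow_mul, mul_comm, zpow_mul, zpow_natCast, ha, one_zpow]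
  have h1 := hP.card_modEq_card_fixedPoints (α := W)
  have e : MulAction.fixedPoints ↥(zpowers a) W = (fixd a : Set W) := by
    ext v
    refine ⟨fun hv => hv ⟨a, mem_zpowers a⟩, ?_⟩
    rintro hv ⟨x, hx⟩
    obtain ⟨i, rfl⟩ := mem_zpowers_iff.1 hx
    exact SzSquare.zpow_fix hv i
  rwa [Nat.card_congr (Equiv.setCongr e)] at h1

end Klein

section A4

variable {Γ : Type u} [Group Γ] {e g : Γ} {W : Type v} [CommGroup W] [Finite W] (ρ : Γ →* MulAut W)

/-- A group of odd order is at most the cube of the fixed points of an involution of an `A₄`. -/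
theorem A4El.card_le (h : A4El e g) (hodd : Odd (Nat.card W)) {S : Subgroup W} (heS : ρ e ∈ pres S)
    (hgS : ρ g ∈ pres S) : Nat.card S ≤ Nat.card ↥(S ⊓ fixd (ρ e)) ^ 3 := by
  have hee : ρ e * ρ e = 1 := by rw [← map_mul, h.sq, map_one]
  have hgi : ∀ i : ℕ, ∀ v ∈ S, ((ρ g)⁻¹ ^ i) v ∈ S := fun i v hv => ((pow_mem (inv_mem hgS) i) v).2 hv
  let N : ℕ → W → W := fun i v => ((ρ g)⁻¹ ^ i) v * ρ e (((ρ g)⁻¹ ^ i) v)
  let f : ↥S → Fin 3 → ↥(S ⊓ fixd (ρ e)) := fun v i =>
    ⟨N i v, mul_mem (hgi _ _ v.2) ((heS _).2 (hgi _ _ v.2)), mul_apply_fixed hee _⟩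
  have hf : Function.Injective f := by
    intro v w hvw
    have e1 : ∀ i : Fin 3, N i v = N i w := fun i => congrArg Subtype.val (congrFun hvw i)
    have e2 : ∀ i : ℕ, i < 3 → N i ((v : W) / w) = 1 := fun i hi => by
      have := e1 ⟨i, hi⟩
      simp only [N, map_div] at this ⊢
      rw [div_mul_div_comm, this, div_self']
    set u := (v : W) / w
    have c1 : ∀ i : ℕ, i < 3 → u * ((ρ g) ^ i * ρ e * ((ρ g) ^ i)⁻¹) u = 1 := fun i hi => by
      have h0 := congrArg ((ρ g) ^ i) (e2 i hi)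
      simp only [N, map_mul, map_one, inv_pow] at h0
      rw [MulAut.apply_inv_self] at h0
      simpa [MulAut.mul_apply] using h0
    have hu : u = 1 := by
      refine klein_norm hodd (a := ρ e) (b := ρ (g * e * g⁻¹)) (by simpa using c1 0 (by omega)) ?_ ?_
      · simpa [map_mul] using c1 1 (by omega)
      · have := c1 2 (by omega)
        rw [pow_two, ← map_mul, ← map_mul, ← map_inv, ← map_mul,
          show g * g * e * (g * g)⁻¹ = g * (g * e * g⁻¹) * g⁻¹ by group, h.third, map_mul] at this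
        exact this
    exact Subtype.ext (div_eq_one.1 hu)
  have := Nat.card_le_card_of_injective f hf
  rwa [Nat.card_fun, Nat.card_fin] at this

theorem A4El.fix_ne_bot (h : A4El e g) (hodd : Odd (Nat.card W)) {S : Subgroup W} (heS : ρ e ∈ pres S)
    (hgS : ρ g ∈ pres S) (hS : S ≠ ⊥) : S ⊓ fixd (ρ e) ≠ ⊥ := by
  intro hb
  have := h.card_le ρ hodd heS hgS
  rw [hb, Subgroup.card_bot, one_pow] at this
  exact hS (Subgroup.eq_bot_of_card_le _ this)

end A4

section InGroup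

variable {G : Type u} [Group G]

/-- Conjugation on a subgroup by its normaliser. -/
def conjW (W : Subgroup G) : ↥(normalizer (W : Set G)) →* MulAut ↥W := W.normalizerMonoidHom

theorem conjW_apply (W : Subgroup G) (x : ↥(normalizer (W : Set G))) (w : ↥W) :
    ((conjW W x w : ↥W) : G) = x * w * (x : G)⁻¹ := rfl

theorem mem_fixd_conjW {W : Subgroup G} [IsMulCommutative ↥W] {x : G} (hx : x ∈ normalizer (W : Set G)) {w : ↥W} :
    open scoped IsMulCommutative in w ∈ fixd (conjW W ⟨x, hx⟩) ↔ x * (w : G) = (w : G) * x := by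
  open scoped IsMulCommutative in
  rw [mem_fixd, Subtype.ext_iff, conjW_apply, mul_inv_eq_iff_eq_mul]

/-- An element with fixed points gives an element of the product order. -/
theorem no_fix (hB : Bound G) {a : ℕ} [ha : Fact a.Prime] {x w : G} (hw : orderOf w = a) (hxw : x * w = w * x)
    (hcop : (orderOf x).Coprime a) : Ok (orderOf x * a) := by
  have h1 : Commute x w := hxw
  rw [← hw, ← h1.orderOf_mul_eq_mul_orderOf_of_coprime (hw ▸ hcop)]
  exact hB _

theorem no_fix_false (hB : Bound G) {a : ℕ} [ha : Fact a.Prime] {x w : G} (hw : orderOf w = a)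
    (hxw : x * w = w * x) (hcop : (orderOf x).Coprime a) (hno : ¬ Ok (orderOf x * a)) : False :=
  hno (no_fix hB hw hxw hcop)

open scoped IsMulCommutative in
theorem fpf_of_not_ok [Finite G] (hB : Bound G) {a : ℕ} [ha : Fact a.Prime] {W : Subgroup G} [IsMulCommutative ↥W]
    (hW : IsPGroup a ↥W) {x : G} (hx : x ∈ normalizer (W : Set G)) (hcop : (orderOf x).Coprime a)
    (hno : ¬ Ok (orderOf x * a)) : fixd (conjW W ⟨x, hx⟩) = ⊥ := by
  by_contra hne
  obtain ⟨w, hw, hwa⟩ := SzSquare.exists_order_mem (hW.to_subgroup _) hne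
  exact no_fix_false hB (w := (w : G)) ((Subgroup.orderOf_coe w).trans hwa) ((mem_fixd_conjW hx).1 hw) hcop hno

/-- An `A₄` normalising a solvable group of odd order: its involution centralises elements of every order. -/
theorem A4El.dvd_fix [Finite G] {e g : G} (h : A4El e g) {X : Subgroup G} [Group.IsSolvable ↥X]
    (he : e ∈ normalizer (X : Set G)) (hg : g ∈ normalizer (X : Set G)) (hodd : Odd (Nat.card X)) {a : ℕ}
    (ha : a.Prime) (hd : a ∣ Nat.card X) : ∃ w ∈ X, orderOf w = a ∧ e * w = w * e := by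
  haveI := Fact.mk ha
  haveI : Fact (Nat.Prime 2) := ⟨Nat.prime_two⟩
  set e2 := g * e * g⁻¹
  have he2 : e2 ∈ normalizer (X : Set G) := mul_mem (mul_mem hg he) (inv_mem hg)
  set E := closure ({e, e2} : Set G)
  have hE := isMulCommutative_closure (k := ({e, e2} : Set G)) (by
    rintro s (rfl | rfl) t (rfl | rfl) <;> first | rfl | exact h.comm | exact h.comm.symm)
  have hE2 : ∀ x ∈ E, x * x = 1 := by
    intro x hx
    induction hx using Subgroup.closure_induction with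
    | mem s hs =>
      rcases hs with rfl | rfl
      · exact h.sq
      · show g * e * g⁻¹ * (g * e * g⁻¹) = 1
        rw [show g * e * g⁻¹ * (g * e * g⁻¹) = g * (e * e) * g⁻¹ by group, h.sq, mul_one, mul_inv_cancel]
    | one => exact one_mul 1
    | mul s t hs ht ihs iht =>
      have hst : Commute s t := congrArg Subtype.val (hE.is_comm.comm ⟨s, hs⟩ ⟨t, ht⟩)
      rw [← pow_two, hst.mul_pow, pow_two, pow_two, ihs, iht, one_mul]
    | inv s hs ihs => rw [← mul_inv_rev, ihs, inv_one]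
  have hEp : IsPGroup 2 ↥E := fun x => ⟨1, Subtype.ext (by simpa [pow_two] using hE2 x x.2)⟩
  obtain ⟨m, hm⟩ := IsPGroup.iff_card.1 hEp
  have hEX : E ≤ normalizer (X : Set G) := (closure_le _).2 (by
    rintro s (rfl | rfl); exacts [he, he2])
  obtain ⟨P, hP, hPE⟩ := Grp.exists_invariant_sylow E X hEX
    (hm ▸ Nat.Coprime.pow_left m hodd.coprime_two_left) (Or.inr inferInstance) a
  have hP1 : P ≠ ⊥ := fun e0 => hP.2.2 (by
    rw [e0, Subgroup.relIndex_bot_left]; exact hd)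
  set Z := SzSquare.zc P
  haveI : IsMulCommutative ↥Z := SzSquare.zc_isMulCommutative P
  have hZ1 : Z ≠ ⊥ := SzSquare.zc_ne_bot hP.2.1 hP1
  have hZE : E ≤ normalizer (Z : Set G) := hPE.trans (SzSquare.normalizer_le_zc P)
  have hZX : Z ≤ X := (SzSquare.zc_le P).trans hP.1
  open scoped IsMulCommutative in
  have hZodd : Odd (Nat.card ↥Z) := hodd.of_dvd_nat (Subgroup.card_dvd_of_le hZX)
  obtain ⟨v, hv, hv1⟩ := (bot_or_exists_ne_one Z).resolve_left hZ1
  have heZ : e ∈ normalizer (Z : Set G) := hZE (subset_closure (Set.mem_insert _ _))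
  have he2Z : e2 ∈ normalizer (Z : Set G) := hZE (subset_closure (Set.mem_insert_of_mem _ rfl))
  -- some norm is nontrivial
  have key : ∀ s : G, s ∈ normalizer (Z : Set G) → s * s = 1 → v * (s * v * s⁻¹) ∈ X ∧
      s * (v * (s * v * s⁻¹)) = v * (s * v * s⁻¹) * s := fun s hs hss => by
    refine ⟨hZX (mul_mem hv (conj_mem_of_normalizer hs hv)), ?_⟩
    have hc : v * (s * v * s⁻¹) = s * v * s⁻¹ * v :=
      congrArg Subtype.val ((zc_comm' P) ⟨v, hv⟩ ⟨_, conj_mem_of_normalizer hs hv⟩)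
    have hsi : s⁻¹ = s := inv_eq_of_mul_eq_one_right hss
    calc s * (v * (s * v * s⁻¹)) = s * v * s⁻¹ * ((s * s) * v * s⁻¹) := by group
      _ = s * v * s⁻¹ * v * s := by rw [hss, one_mul, hsi]; group
      _ = v * (s * v * s⁻¹) * s := by rw [← hc]
  have hex : ∃ i : ℕ, v * ((g ^ i * e * (g ^ i)⁻¹) * v * (g ^ i * e * (g ^ i)⁻¹)⁻¹) ≠ 1 ∧
      g ^ i * e * (g ^ i)⁻¹ ∈ normalizer (Z : Set G) := by
    by_contra hcon
    push Not at hcon
    have c0 := fun hh => hcon 0 hh
    have c1 := fun hh => hcon 1 hh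
    have c2 := fun hh => hcon 2 hh
    simp only [pow_zero, one_mul, inv_one, mul_one, pow_one, pow_two] at c0 c1 c2
    have e3eq : g * g * e * (g * g)⁻¹ = e * e2 := by
      rw [show g * g * e * (g * g)⁻¹ = g * (g * e * g⁻¹) * g⁻¹ by group, h.third]
    rw [e3eq] at c2
    open scoped IsMulCommutative in
    refine hv1 (congrArg Subtype.val (klein_norm hZodd (a := conjW Z ⟨e, heZ⟩) (b := conjW Z ⟨e2, he2Z⟩)
      (v := (⟨v, hv⟩ : ↥Z)) ?_ ?_ ?_))
    · exact Subtype.ext (Classical.not_not.1 fun hh => c0 hh heZ)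
    · exact Subtype.ext (Classical.not_not.1 fun hh => c1 hh he2Z)
    · refine Subtype.ext (Classical.not_not.1 fun hh => c2 ?_ (mul_mem heZ he2Z))
      intro h0
      apply hh
      show v * ((conjW Z ⟨e, heZ⟩ * conjW Z ⟨e2, he2Z⟩) ⟨v, hv⟩ : ↥Z) = 1
      rw [← map_mul]
      exact h0
  obtain ⟨i, hne, hn⟩ := hex
  obtain ⟨hwX, hwc⟩ := key _ hn (by
    rw [show g ^ i * e * (g ^ i)⁻¹ * (g ^ i * e * (g ^ i)⁻¹) = g ^ i * (e * e) * (g ^ i)⁻¹ by group, h.sq, mul_one,
      mul_inv_cancel])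
  set w := v * ((g ^ i * e * (g ^ i)⁻¹) * v * (g ^ i * e * (g ^ i)⁻¹)⁻¹)
  have hwP : w ∈ Z := mul_mem hv (conj_mem_of_normalizer hn hv)
  obtain ⟨j, hj⟩ := hP.2.1 ⟨w, SzSquare.zc_le P hwP⟩
  have hwa : a ∣ orderOf w := by
    obtain ⟨l, -, hl⟩ := (Nat.dvd_prime_pow ha).1
      (orderOf_dvd_of_pow_eq_one (by simpa using congrArg Subtype.val hj : w ^ a ^ j = 1))
    rw [hl]
    refine dvd_pow_self a fun e0 => hne ?_
    rw [e0, pow_zero] at hl
    exact orderOf_eq_one_iff.1 hl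
  obtain ⟨l, hl⟩ := SzSquare.exists_pow_orderOf (orderOf_pos w) hwa
  have hgx : (g ^ i)⁻¹ ∈ normalizer (X : Set G) := inv_mem (pow_mem hg i)
  refine ⟨(g ^ i)⁻¹ * w ^ l * g ^ i, ?_, ?_, ?_⟩
  · simpa using conj_mem_of_normalizer hgx (pow_mem hwX l)
  · rw [show (g ^ i)⁻¹ * w ^ l * g ^ i = (g ^ i)⁻¹ * w ^ l * ((g ^ i)⁻¹)⁻¹ by rw [inv_inv], SzSquare.orderOf_conj, hl]
  · have hc : Commute (g ^ i * e * (g ^ i)⁻¹) (w ^ l) := (show Commute _ w from hwc).pow_right l
    have := SzSquare.conj_commute (g ^ i)⁻¹ hc.eq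
    simpa [mul_assoc] using this
where
  zc_comm' (P : Subgroup G) (x y : ↥(SzSquare.zc P)) : x * y = y * x :=
    Subtype.ext (SzSquare.zc_comm x.2 (SzSquare.zc_le P y.2))

end InGroup

end Cfsg.Agent.Recog.JOneSquare
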