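import Cfsg.Agent.Lib.Recog.SzSquare.Triple

/-!
# The element orders of `J₁ × J₁` (S3531)
-/

set_option autoImplicit false

namespace Cfsg.Agent.Recog.JOneSquare

universe u v

/-- The element orders of `J₁`. -/
def jOrds : List ℕ := [1, 2, 3, 5, 6, 7, 10, 11, 15, 19]

/-- A divisor of the order of an element of `J₁ × J₁`. -/
def Ok (n : ℕ) : Prop := ∃ a ∈ jOrds, ∃ b ∈ jOrds, n ∣ Nat.lcm a b

instance (n : ℕ) : Decidable (Ok n) := by unfold Ok; infer_instance

theorem Ok.of_dvd {m n : ℕ} (h : Ok n) (hd : m ∣ n) : Ok m :=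
  let ⟨a, ha, b, hb, e⟩ := h
  ⟨a, ha, b, hb, hd.trans e⟩

theorem jOrds_lcm : ∀ a ∈ jOrds, ∀ b ∈ jOrds, 0 < Nat.lcm a b ∧ Nat.lcm a b ∣ 2 * 3 * 5 * 7 * 11 * 19 ∧
    Nat.lcm a b ≤ 285 := by decide +kernel

theorem Ok.pos {n : ℕ} (h : Ok n) : 0 < n := by
  obtain ⟨a, ha, b, hb, e⟩ := h
  exact Nat.pos_of_dvd_of_pos e (jOrds_lcm a ha b hb).1

theorem Ok.le {n : ℕ} (h : Ok n) : n ≤ 285 := by
  obtain ⟨a, ha, b, hb, e⟩ := h
  exact (Nat.le_of_dvd (jOrds_lcm a ha b hb).1 e).trans (jOrds_lcm a ha b hb).2.2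

theorem Ok.dvd {n : ℕ} (h : Ok n) : n ∣ 2 * 3 * 5 * 7 * 11 * 19 := by
  obtain ⟨a, ha, b, hb, e⟩ := h
  exact e.trans (jOrds_lcm a ha b hb).2.1

theorem Ok.squarefree {n : ℕ} (h : Ok n) : Squarefree n :=
  Squarefree.squarefree_of_dvd h.dvd (by
    rw [Nat.squarefree_mul_iff, Nat.squarefree_mul_iff, Nat.squarefree_mul_iff, Nat.squarefree_mul_iff,
      Nat.squarefree_mul_iff]
    exact ⟨by norm_num, ⟨by norm_num, ⟨by norm_num, ⟨by norm_num, ⟨by norm_num, Nat.prime_two.squarefree,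
      Nat.prime_three.squarefree⟩, (by norm_num : Nat.Prime 5).squarefree⟩, (by norm_num : Nat.Prime 7).squarefree⟩,
      (by norm_num : Nat.Prime 11).squarefree⟩, (by norm_num : Nat.Prime 19).squarefree⟩)

/-- The three large primes. -/
def Big (p : ℕ) : Prop := p = 7 ∨ p = 11 ∨ p = 19

instance (p : ℕ) : Decidable (Big p) := by unfold Big; infer_instance

theorem Big.prime {p : ℕ} (h : Big p) : p.Prime := by
  rcases h with rfl | rfl | rfl <;> norm_num

theorem prime_cases {p : ℕ} (hp : p.Prime) (h : Ok p) : p = 2 ∨ p = 3 ∨ p = 5 ∨ Big p := by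
  have hd := h.dvd
  have key : ∀ {q : ℕ}, q.Prime → p ∣ q → p = q := fun hq hd' => (Nat.prime_dvd_prime_iff_eq hp hq).1 hd'
  rcases (Nat.Prime.dvd_mul hp).1 hd with hd | hd
  · rcases (Nat.Prime.dvd_mul hp).1 hd with hd | hd
    · rcases (Nat.Prime.dvd_mul hp).1 hd with hd | hd
      · rcases (Nat.Prime.dvd_mul hp).1 hd with hd | hd
        · rcases (Nat.Prime.dvd_mul hp).1 hd with hd | hd
          · exact .inl (key Nat.prime_two hd)
          · exact .inr (.inl (key Nat.prime_three hd))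
        · exact .inr (.inr (.inl (key (by norm_num) hd)))
      · exact .inr (.inr (.inr (.inl (key (by norm_num) hd))))
    · exact .inr (.inr (.inr (.inr (.inl (key (by norm_num) hd)))))
  · exact .inr (.inr (.inr (.inr (.inr (key (by norm_num) hd)))))

/-- Every element order divides an element order of `J₁ × J₁`. -/
def Bound (G : Type u) [Group G] : Prop := ∀ g : G, Ok (orderOf g)

/-- The element orders that are needed to exist. -/
structure Spec (G : Type u) [Group G] : Prop where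
  bound : Bound G
  occ : ∀ a ∈ jOrds, ∀ b ∈ jOrds, ∃ g : G, orderOf g = Nat.lcm a b

variable {G : Type u} [Group G]

theorem Bound.of_injective {H : Type v} [Group H] (h : Bound G) (f : H →* G) (hf : Function.Injective f) : Bound H :=
  fun x => by rw [← orderOf_injective f hf x]; exact h _

theorem Bound.of_surjective {H : Type v} [Group H] (h : Bound G) (f : G →* H) (hf : Function.Surjective f) :
    Bound H := fun x => by
  obtain ⟨g, rfl⟩ := hf x
  exact (h g).of_dvd (orderOf_map_dvd f g)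

theorem Bound.subgroup (h : Bound G) (K : Subgroup G) : Bound ↥K := h.of_injective K.subtype K.subtype_injective

theorem Bound.quotient (h : Bound G) (N : Subgroup G) [N.Normal] : Bound (G ⧸ N) :=
  h.of_surjective (QuotientGroup.mk' N) (QuotientGroup.mk'_surjective N)

theorem Bound.pos (h : Bound G) (g : G) : 0 < orderOf g := (h g).pos

theorem Bound.squarefree (h : Bound G) (g : G) : Squarefree (orderOf g) := (h g).squarefree

theorem Bound.not_dvd (h : Bound G) {g : G} {n : ℕ} (hn : ¬ Ok n) : ¬ n ∣ orderOf g := fun hd =>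
  hn ((h g).of_dvd hd)

/-- No element of order `p ^ 2`. -/
theorem Bound.pow_prime (h : Bound G) {p : ℕ} (hp : p.Prime) {g : G} {k : ℕ} (hg : g ^ p ^ k = 1) : g ^ p = 1 := by
  obtain ⟨j, -, hj⟩ := (Nat.dvd_prime_pow hp).1 (orderOf_dvd_of_pow_eq_one hg)
  refine orderOf_dvd_iff_pow_eq_one.1 ?_
  rw [hj]
  have hj1 : j ≤ 1 := by
    by_contra h2
    have hsq := h.squarefree g
    rw [hj, Nat.squarefree_pow_iff hp.ne_one (by omega)] at hsq
    omega
  exact (pow_dvd_pow p hj1).trans (by rw [pow_one])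

theorem Bound.p_group_pow (h : Bound G) {p : ℕ} [hp : Fact p.Prime] {P : Subgroup G} (hP : IsPGroup p ↥P) {x : G}
    (hx : x ∈ P) : x ^ p = 1 := by
  obtain ⟨k, hk⟩ := hP ⟨x, hx⟩
  exact h.pow_prime hp.out (k := k) (by simpa using congrArg Subtype.val hk)

theorem Bound.prime_dvd_card (h : Bound G) [Finite G] {p : ℕ} (hp : p.Prime) (hd : p ∣ Nat.card G) :
    p = 2 ∨ p = 3 ∨ p = 5 ∨ Big p := by
  haveI := Fact.mk hp
  obtain ⟨g, hg⟩ := exists_prime_orderOf_dvd_card' p hd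
  exact prime_cases hp (hg ▸ h g)

theorem big_list : ∀ p, Big p → p ∈ [7, 11, 19] := fun p h => by
  rcases h with rfl | rfl | rfl <;> simp

theorem small_list : ∀ p, p = 2 ∨ p = 3 ∨ p = 5 → p ∈ [2, 3, 5] := fun p h => by
  rcases h with rfl | rfl | rfl <;> simp

theorem not_ok_facts : (∀ a ∈ [7, 11, 19], ∀ b ∈ [7, 11, 19], ∀ r ∈ [2, 3, 5], a ≠ b → ¬ Ok (a * b * r)) ∧
    (∀ a ∈ [7, 11, 19], ¬ Ok (30 * a)) ∧ (¬ Ok (7 * 11 * 19)) ∧
    (∀ a ∈ [7, 11, 19], ∀ b ∈ [7, 11, 19], ∀ c ∈ [7, 11, 19], a ≠ b → a ≠ c → b ≠ c → ¬ Ok (a * b * c)) := by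
  decide +kernel

/-- Two large primes and a small one. -/
theorem not_ok_two_big {a b r : ℕ} (ha : Big a) (hb : Big b) (hab : a ≠ b) (hr : r = 2 ∨ r = 3 ∨ r = 5) :
    ¬ Ok (a * b * r) :=
  not_ok_facts.1 a (big_list a ha) b (big_list b hb) r (small_list r hr) hab

theorem not_ok_thirty {a : ℕ} (ha : Big a) : ¬ Ok (30 * a) := not_ok_facts.2.1 a (big_list a ha)

theorem not_ok_three_big {a b c : ℕ} (ha : Big a) (hb : Big b) (hc : Big c) (hab : a ≠ b) (hac : a ≠ c)
    (hbc : b ≠ c) : ¬ Ok (a * b * c) :=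
  not_ok_facts.2.2.2 a (big_list a ha) b (big_list b hb) c (big_list c hc) hab hac hbc

end Cfsg.Agent.Recog.JOneSquare
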