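import Cfsg.Agent.Lib.Recog.JOneSquare.JSquare

/-!
# A component isomorphic to `J₁`
-/

set_option autoImplicit false
set_option linter.style.haveILetI false

open Subgroup
open scoped IsMulCommutative

namespace Cfsg.Agent.Recog.JOneSquare

open SzSquare (zc fixd mem_fixd pres mem_pres_top)

universe u v

variable {Q : Type v} [Group Q]

theorem j_order {L : Subgroup Q} (E : J ≃* ↥L) {n : ℕ} (hn : n ∈ jOrds) : ∃ x ∈ L, orderOf x = n := by
  obtain ⟨g, hg⟩ := jOrd_exists hn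
  exact ⟨_, (E g).2, by rw [Subgroup.orderOf_coe, E.orderOf_eq, hg]⟩

theorem big_mem_jOrds {b : ℕ} (hb : Big b) : b ∈ jOrds := by
  rcases hb with rfl | rfl | rfl <;> decide

theorem three_j (hB : Bound Q) {A B C : Subgroup Q} (EA : J ≃* ↥A) (EB : J ≃* ↥B) (EC : J ≃* ↥C)
    (h1 : Commuting A B) (h2 : Commuting A C) (h3 : Commuting B C) : False := by
  obtain ⟨x, hx, hxo⟩ := j_order EA (show 7 ∈ jOrds by decide)
  obtain ⟨y, hy, hyo⟩ := j_order EB (show 11 ∈ jOrds by decide)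
  obtain ⟨z, hz, hzo⟩ := j_order EC (show 19 ∈ jOrds by decide)
  exact SzSquare.T3.false (fun _ => hB.not_dvd (not_ok_three_big (.inl rfl) (.inr (.inl rfl)) (.inr (.inr rfl))
    (by omega) (by omega) (by omega))) (by norm_num) (by norm_num) (by norm_num) (by omega) (by omega) (by omega)
    hxo hyo hzo (h1 x hx y hy) (h2 x hx z hz) (h3 y hy z hz)

/-- A copy of `J₁` among the components is normal. -/
theorem j_normal [Finite Q] (hB : Bound Q) {L : Subgroup Q} (hL : Comp L) (E : J ≃* ↥L) : L.Normal := by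
  suffices ∀ g, conjSub g L = L from ⟨fun x hx g => this g ▸ ⟨x, hx, rfl⟩⟩
  intro g
  by_contra hg
  have comm1 : Commuting L (conjSub g L) := by
    have := (hL.pair 1 g).resolve_left (by rw [conjSub_one]; exact Ne.symm hg)
    rwa [conjSub_one] at this
  have Ec : ∀ h, J ≃* ↥(conjSub h L) := fun h =>
    E.trans (equivMapOfInjective L (MulAut.conj h).toMonoidHom (MulAut.conj h).injective)
  by_cases hgg : conjSub (g * g) L = L
  · -- an involution swapping the two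
    have hper : ∀ n : ℕ, conjSub ((g * g) ^ n) L = L := fun n => by
      induction n with
      | zero => rw [pow_zero, conjSub_one]
      | succ n ih => rw [pow_succ, conjSub_mul, hgg, ih]
    obtain ⟨m, hm⟩ : Even (orderOf g) := by
      by_contra hodd
      obtain ⟨m, hm⟩ := Nat.not_even_iff_odd.1 hodd
      refine hg ?_
      have e : g = (g * g) ^ (m + 1) := by
        rw [← pow_two, ← pow_mul, show 2 * (m + 1) = orderOf g + 1 by omega, pow_succ, pow_orderOf_eq_one, one_mul]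
      rw [e]; exact hper _
    obtain ⟨l, hl⟩ : Odd m := by
      rw [← Nat.not_even_iff_odd, even_iff_two_dvd]
      rintro ⟨k, hk⟩
      have h4 : 2 * 2 ∣ orderOf g := ⟨k, by omega⟩
      exact absurd (Nat.squarefree_iff_prime_squarefree.1 (hB.squarefree g) 2 Nat.prime_two h4) id
    set t := g ^ m
    have ht2 : t * t = 1 := by rw [← pow_add, ← hm, pow_orderOf_eq_one]
    have htL : conjSub t L = conjSub g L := by
      rw [show t = g * (g * g) ^ l by rw [← pow_two, ← pow_mul, ← pow_succ', ← hl], conjSub_mul, hper]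
    obtain ⟨u, hu, huo⟩ := j_order E (show 2 ∈ jOrds by decide)
    have hu2 : u * u = 1 := by rw [← pow_two, ← huo, pow_orderOf_eq_one]
    set w := t * u * t⁻¹
    have hw : w ∈ conjSub g L := htL ▸ ⟨u, hu, rfl⟩
    have huw : u * w = w * u := comm1 u hu w hw
    have hne : u * w ≠ 1 := fun e => by
      have hwL : u ∈ conjSub g L := by
        have h := eq_inv_of_mul_eq_one_left e
        rw [h]; exact inv_mem hw
      have := hL.center_free hu (mem_centralizer_iff.2 fun y hy => comm1 y hy u hwL)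
      rw [this, orderOf_one] at huo
      omega
    have htt : t⁻¹ = t := inv_eq_of_mul_eq_one_right ht2
    have hsq : (u * t) * (u * t) = u * w := by simp only [w, htt, mul_assoc]
    have h4 : (u * t) ^ (2 ^ 2) = 1 := by
      rw [show (2 : ℕ) ^ 2 = 2 + 2 by norm_num, pow_add, pow_two, hsq]
      calc u * w * (u * w) = u * (w * u) * w := by group
        _ = u * u * (w * w) := by rw [← huw]; group
        _ = 1 := by
          rw [hu2, one_mul, show w * w = t * (u * u) * t⁻¹ by simp only [w]; group, hu2]; group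
    have := hB.pow_prime Nat.prime_two h4
    rw [pow_two, hsq] at this
    exact hne this
  · refine three_j hB E (Ec g) (Ec (g * g)) comm1 ?_ ?_
    · have := (hL.pair 1 (g * g)).resolve_left (by rw [conjSub_one]; exact Ne.symm hgg)
      rwa [conjSub_one] at this
    · refine (hL.pair g (g * g)).resolve_left fun e => hg ?_
      have := congrArg (conjSub g⁻¹) e
      rw [← conjSub_mul, ← conjSub_mul, inv_mul_cancel, conjSub_one, inv_mul_cancel_left] at this
      exact this.symm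

theorem cent_normal {L : Subgroup Q} (hL : L.Normal) : (centralizer (L : Set Q)).Normal :=
  ⟨fun x hx g => mem_centralizer_iff.2 fun y hy => by
    have h := mem_centralizer_iff.1 hx (g⁻¹ * y * g) (by simpa using hL.conj_mem y hy g⁻¹)
    calc y * (g * x * g⁻¹) = g * (g⁻¹ * y * g * x) * g⁻¹ := by group
      _ = g * (x * (g⁻¹ * y * g)) * g⁻¹ := by rw [h]
      _ = g * x * g⁻¹ * y := by group⟩

theorem decomp [Finite Q] {L : Subgroup Q} (E : J ≃* ↥L) (hn : L.Normal) (z : Q) :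
    ∃ x ∈ L, ∃ d ∈ centralizer (L : Set Q), z = x * d := by
  obtain ⟨x, hx, hd⟩ := inner_of_j E (z := z) (by rw [normalizer_eq_top_iff.2 hn]; trivial)
  exact ⟨x, hx, _, hd, (mul_inv_cancel_left x z).symm⟩

theorem cent_comm {L : Subgroup Q} {x d : Q} (hx : x ∈ L) (hd : d ∈ centralizer (L : Set Q)) : x * d = d * x :=
  mem_centralizer_iff.1 hd x hx

theorem Comp.a4_inv [Finite Q] (hB : Bound Q) {L : Subgroup Q} (hL : Comp L) : ∃ e ∈ L, orderOf e = 2 := by
  obtain ⟨e, g, he, -, h⟩ := hL.exists_a4 hB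
  exact ⟨e, he, h.orderOf_eq⟩

/-- Two copies of `J₁` make up everything. -/
theorem two_j [Finite Q] (hB : Bound Q) (hrad : RadFree Q) {L0 L1 : Subgroup Q} (h0 : Comp L0) (E0 : J ≃* ↥L0)
    (h1 : Comp L1) (E1 : J ≃* ↥L1) (hle : L1 ≤ centralizer (L0 : Set Q)) : Nonempty (J × J ≃* Q) := by
  haveI := j_normal hB h0 E0
  haveI := j_normal hB h1 E1
  haveI := cent_normal (L := L0) inferInstance
  haveI := cent_normal (L := L1) inferInstance
  set D := centralizer (L0 : Set Q) ⊓ centralizer (L1 : Set Q) with hD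
  have hDbot : D = ⊥ := by
    by_contra hne
    obtain ⟨L2, hL2, h2⟩ := exists_comp hrad (N := D) hne
    obtain ⟨x, hx, hxo⟩ := j_order E0 (show 7 ∈ jOrds by decide)
    obtain ⟨y, hy, hyo⟩ := j_order E1 (show 11 ∈ jOrds by decide)
    obtain ⟨z, hz, hzo⟩ := h2.a4_inv hB
    exact no_tri hB (.inl rfl) (.inr (.inl rfl)) (by omega) (.inl rfl) hxo hyo hzo
      (cent_comm hx (hle hy)) (cent_comm hx (hL2 hz).1) (cent_comm hy (hL2 hz).2)
  let i0 : J →* Q := L0.subtype.comp E0.toMonoidHom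
  let i1 : J →* Q := L1.subtype.comp E1.toMonoidHom
  have hc : ∀ a b, Commute (i0 a) (i1 b) := fun a b => cent_comm (E0 a).2 (hle (E1 b).2)
  refine ⟨MulEquiv.ofBijective (i0.noncommCoprod i1 hc) ⟨(injective_iff_map_eq_one _).2 ?_, fun z => ?_⟩⟩
  · rintro ⟨a, b⟩ he
    change (E0 a : Q) * (E1 b : Q) = 1 at he
    have ha : (E0 a : Q) = 1 := by
      refine h0.center_free (E0 a).2 ?_
      rw [eq_inv_of_mul_eq_one_left he]
      exact inv_mem (hle (E1 b).2)
    rw [ha, one_mul] at he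
    exact Prod.ext (E0.map_eq_one_iff.1 (Subtype.ext ha)) (E1.map_eq_one_iff.1 (Subtype.ext he))
  · obtain ⟨x, hx, d, hd, rfl⟩ := decomp E0 inferInstance z
    obtain ⟨x1, hx1, d1, hd1, rfl⟩ := decomp E1 inferInstance d
    have hd10 : d1 ∈ D := ⟨by
      have := mul_mem (inv_mem (hle hx1)) hd
      rwa [inv_mul_cancel_left] at this, hd1⟩
    rw [hDbot, mem_bot] at hd10
    refine ⟨(E0.symm ⟨x, hx⟩, E1.symm ⟨x1, hx1⟩), ?_⟩
    show (E0 (E0.symm ⟨x, hx⟩) : Q) * (E1 (E1.symm ⟨x1, hx1⟩) : Q) = x * (x1 * d1)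
    rw [E0.apply_symm_apply, E1.apply_symm_apply, hd10, mul_one]

variable {G : Type u} [Group G] [Finite G] {φ : G →* Q}

theorem Setup.two_j_iso (S : Setup φ) [Group.IsSolvable φ.ker] {L0 L1 : Subgroup Q} (h0 : Comp L0) (E0 : J ≃* ↥L0)
    (h1 : Comp L1) (E1 : J ≃* ↥L1) (hle : L1 ≤ centralizer (L0 : Set Q)) : Nonempty (G ≃* J × J) := by
  haveI := Finite.of_surjective φ S.surj
  obtain ⟨e⟩ := two_j S.bound_img S.rad h0 E0 h1 E1 hle
  have hs : Function.Surjective (e.symm.toMonoidHom.comp φ) := e.symm.surjective.comp S.surj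
  have hk : (e.symm.toMonoidHom.comp φ).ker = φ.ker := by
    ext x; simp [MonoidHom.mem_ker]
  have hi := jsquare_injective (Nat.card G) G le_rfl S.bound (e.symm.toMonoidHom.comp φ) hs
    (Grp.isSolvable_of_le hk.le inferInstance)
  exact ⟨MulEquiv.ofBijective _ ⟨hi, hs⟩⟩

/-- The image keeps the part of the order prime to the kernel. -/
theorem dvd_image {p : ℕ} (hp : p.Prime) (hpK : ¬ p ∣ Nat.card φ.ker) {g : G} (hd : p ∣ orderOf g) :
    p ∣ orderOf (φ g) := by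
  have h1 : φ (g ^ orderOf (φ g)) = 1 := by rw [map_pow, pow_orderOf_eq_one]
  by_contra hn
  have h2 : orderOf (g ^ orderOf (φ g)) ∣ Nat.card φ.ker := φ.ker.orderOf_dvd_natCard (MonoidHom.mem_ker.2 h1)
  rw [orderOf_pow] at h2
  refine hpK ((Nat.dvd_div_of_mul_dvd ?_).trans h2)
  exact Nat.Coprime.mul_dvd_of_dvd_of_dvd
    (Nat.Coprime.symm (Nat.Coprime.coprime_dvd_right (Nat.gcd_dvd_right _ _) (hp.coprime_iff_not_dvd.2 hn)))
    (Nat.gcd_dvd_left _ _) hd

/-- Orders in a direct product. -/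
theorem orderOf_split {L : Subgroup Q} (hL : Comp L) {x d : Q} (hx : x ∈ L) (hd : d ∈ centralizer (L : Set Q))
    {p : ℕ} (hp : p.Prime) (h : p ∣ orderOf (x * d)) : p ∣ orderOf x ∨ p ∣ orderOf d := by
  have h1 := h.trans (Commute.orderOf_mul_dvd_lcm (cent_comm hx hd))
  exact (hp.dvd_mul).1 (h1.trans (Nat.lcm_dvd_mul _ _))

theorem lift_frob {N : Subgroup G} {y h : G} {c n k : ℕ} (hF : Frob (φ y) (φ h) c n k) (hy : orderOf y = c)
    (hn : h ^ n = 1) (hh : h ∈ normalizer (zpowers y : Set G)) (hyN : y ∈ N) (hhN : h ∈ N) :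
    Frob (⟨y, hyN⟩ : ↥N) ⟨h, hhN⟩ c n k := by
  obtain ⟨l, hl⟩ : ∃ l : ℕ, h * y * h⁻¹ = y ^ l := by
    have := (Submonoid.mem_powers_iff _ _).1
      (mem_powers_iff_mem_zpowers.2 (conj_mem_of_normalizer hh (mem_zpowers y)))
    exact this.imp fun k hk => hk.symm
  have hlk : φ y ^ l = φ y ^ k := by rw [← map_pow, ← hl, map_mul, map_mul, map_inv, hF.conj]
  rw [pow_eq_pow_iff_modEq, hF.oy, ← hy, ← pow_eq_pow_iff_modEq] at hlk
  refine ⟨hF.prime, hF.pos, by rw [Subgroup.orderOf_mk, hy], Subtype.ext (by simpa using hn),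
    Subtype.ext (by simpa [hlk] using hl), fun i hi j hj hij e => hF.dist i hi j hj hij ?_⟩
  rw [← map_pow, ← map_pow]
  exact congrArg φ (congrArg Subtype.val e)

/-- An element over a central image centralises. -/
theorem comm_of_img {y h : G} {c : ℕ} (hy : orderOf y = c) (hφy : orderOf (φ y) = c)
    (hh : h ∈ normalizer (zpowers y : Set G)) (hc : φ h * φ y = φ y * φ h) : h * y = y * h := by
  obtain ⟨l, hl⟩ := mem_zpowers_iff.1 (conj_mem_of_normalizer hh (mem_zpowers y))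
  have hlk : φ y ^ l = φ y ^ (1 : ℤ) := by
    rw [← map_zpow, hl, map_mul, map_mul, map_inv, hc, mul_inv_cancel_right, zpow_one]
  rw [zpow_eq_zpow_iff_modEq, hφy, ← hy, ← zpow_eq_zpow_iff_modEq, zpow_one, hl] at hlk
  exact mul_inv_eq_iff_eq_mul.1 hlk

theorem j_no_prod : ∀ n ∈ jOrds, ∀ a ∈ ([7, 11, 19] : List ℕ), ∀ b ∈ ([7, 11, 19] : List ℕ), a ≠ b →
    a ∣ n → ¬ b ∣ n := by decide

/-- An `L₂(11)` centralising `J₁`, one large prime in the radical. -/
theorem Setup.l11_false (S : Setup φ) [Group.IsSolvable φ.ker] {L T : Subgroup Q} (E : J ≃* ↥L) (ET : L11 ≃* ↥T)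
    (hTL : T ≤ centralizer (L : Set Q)) {a b : ℕ} (ha : a = 7 ∧ b = 19 ∨ a = 19 ∧ b = 7)
    (da : a ∣ Nat.card φ.ker) (hb : ¬ b ∣ Nat.card φ.ker) (h11 : ¬ 11 ∣ Nat.card φ.ker) : False := by
  have hB := S.bound
  have hbig : Big a ∧ Big b ∧ a ≠ b ∧ a ≠ 11 ∧ jDeg b = 6 := by
    rcases ha with ⟨rfl, rfl⟩ | ⟨rfl, rfl⟩
    · exact ⟨.inl rfl, .inr (.inr rfl), by omega, by omega, rfl⟩
    · exact ⟨.inr (.inr rfl), .inl rfl, by omega, by omega, rfl⟩
  obtain ⟨hba, hbb, hab, ha11, hdeg⟩ := hbig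
  haveI := Fact.mk hba.prime
  obtain ⟨P, hP⟩ := exists_sylowIn a φ.ker
  set N := normalizer (P : Set G)
  have hN : N.map φ = ⊤ := hP.covers S.surj
  have hPp := hP.pi.to_pGroup
  have hP1 : P ≠ ⊥ := fun e => by
    have h := hP.dvd_card hba.prime (by simp) da
    rw [e, Subgroup.card_bot] at h
    exact hba.prime.ne_one (Nat.dvd_one.1 h)
  set W := zc P
  haveI : IsMulCommutative ↥W := SzSquare.zc_isMulCommutative P
  haveI : Group.IsSolvable ↥W := inferInstance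
  have hW1 : W ≠ ⊥ := SzSquare.zc_ne_bot hPp hP1
  have hWp : IsPGroup a ↥W := hPp.to_le (SzSquare.zc_le P)
  have hNW : N ≤ normalizer (W : Set G) := SzSquare.normalizer_le_zc P
  have hWodd : Odd (Nat.card ↥W) := by
    rw [← Nat.not_even_iff_odd, even_iff_two_dvd]
    obtain ⟨i, hi⟩ := IsPGroup.iff_card.1 hWp
    rw [hi]
    exact fun hd => hba.ne_small (.inl rfl)
      ((Nat.prime_dvd_prime_iff_eq Nat.prime_two hba.prime).1 (Nat.prime_two.dvd_of_dvd_pow hd)).symm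
  obtain ⟨yb0, hb0, kb, hhb, hFb⟩ := jFrob hbb
  rw [hdeg] at hhb hFb
  obtain ⟨ys0, hs0, ks, hhs, hFs⟩ := lFrob
  let i0 : J →* Q := L.subtype.comp E.toMonoidHom
  let i1 : L11 →* Q := T.subtype.comp ET.toMonoidHom
  have i0inj : Function.Injective i0 := L.subtype_injective.comp E.injective
  have i1inj : Function.Injective i1 := T.subtype_injective.comp ET.injective
  have hcq : ∀ x y, Commute (i0 x) (i1 y) := fun x y => cent_comm (E x).2 (hTL (ET y).2)
  have hyb1 : i0 yb0 ≠ 1 := fun e => hbb.prime.ne_one (by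
    rw [← hFb.oy, i0inj (e.trans (map_one i0).symm), orderOf_one])
  have hys1 : i1 ys0 ≠ 1 := fun e => by
    have := hFs.oy
    rw [i1inj (e.trans (map_one i1).symm), orderOf_one] at this
    omega
  have hFb' := hFb.map i0 hyb1
  have hFs' := hFs.map i1 hys1
  -- lifts
  obtain ⟨yS, hyS, hySi, hySo⟩ := exists_lift φ hB (N := N) (q := i1 ys0) (by rw [hN]; trivial)
  rw [hFs'.oy] at hySo
  obtain ⟨yB, hyB, hyBi, hyBo⟩ := exists_lift φ hB (N := N ⊓ centralizer ({yS} : Set G)) (q := i0 yb0)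
    (cent_covers φ hyS (by norm_num) hySo h11 (by rw [hN]; trivial) (by rw [hySi]; exact (hcq _ _).eq))
  rw [hFb'.oy] at hyBo
  -- no fixed points
  have pure : ∀ {y : G} {c : ℕ}, y ∈ N → Big c → c ≠ a → ¬ c ∣ Nat.card φ.ker → orderOf y = c → ∀ {e g : Q},
      A4El e g → φ y * e = e * φ y → φ y * g = g * φ y →
      ∀ hy : y ∈ normalizer (W : Set G), fixd (conjW W ⟨y, hy⟩) = ⊥ := by
    intro y c hyN hc hca hcK hy e g h4 hye hyg hy'
    by_contra hne
    have hcv : ∀ d : Q, φ y * d = d * φ y → d ∈ (N ⊓ centralizer ({y} : Set G)).map φ := fun d hd =>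
      cent_covers φ hyN hc.prime hy hcK (by rw [hN]; trivial) hd.symm
    obtain ⟨e', g', he, hg, h4', -, -⟩ := h4.lift hB (hcv e hye) (hcv g hyg)
    have hcomm : ∀ {d : G} (hd : d ∈ N ⊓ centralizer ({y} : Set G)),
        conjW W ⟨d, hNW hd.1⟩ ∈ pres (fixd (conjW W ⟨y, hy'⟩)) := fun {d} hd =>
      pres_fixd_comm (by
        rw [← map_mul, ← map_mul]
        exact congrArg (conjW W) (Subtype.ext (mem_centralizer_singleton_iff.1 hd.2)))
    have hf := (h4'.sub (hNW he.1) (hNW hg.1)).fix_ne_bot (conjW W) hWodd (hcomm he) (hcomm hg) hne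
    obtain ⟨w, hw, hwa⟩ := SzSquare.exists_order_mem (hWp.to_subgroup _) hf
    exact no_tri hB hc hba hca (.inl rfl) hy ((Subgroup.orderOf_coe w).trans hwa) h4'.orderOf_eq
      ((mem_fixd_conjW hy').1 hw.1) (mem_centralizer_singleton_iff.1 he.2).symm
      ((mem_fixd_conjW (hNW he.1)).1 hw.2).symm
  obtain ⟨eT, gT, hT4⟩ := lA4
  obtain ⟨eJ, gJ, hJ4⟩ := jA4
  have hyBn : yB ∈ normalizer (W : Set G) := hNW hyB.1
  have hySn : yS ∈ normalizer (W : Set G) := hNW hyS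
  have fB : fixd (conjW W ⟨yB, hyBn⟩) = ⊥ := pure hyB.1 hbb hab.symm hb hyBo (hT4.map i1 i1inj)
    (by rw [hyBi]; exact (hcq _ _).eq) (by rw [hyBi]; exact (hcq _ _).eq) hyBn
  have fS : fixd (conjW W ⟨yS, hySn⟩) = ⊥ := pure hyS (.inr (.inl rfl)) ha11.symm h11 hySo (hJ4.map i0 i0inj)
    (by rw [hySi]; exact (hcq _ _).eq.symm) (by rw [hySi]; exact (hcq _ _).eq.symm) hySn
  -- an element of order thirty
  set z0 := i0 hb0 * i1 hs0 with hz0
  have hz30 : orderOf z0 = 30 := by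
    rw [(hcq hb0 hs0).orderOf_mul_eq_mul_orderOf_of_coprime (by
      rw [orderOf_injective i0 i0inj, orderOf_injective i1 i1inj, hhb, hhs]; norm_num),
      orderOf_injective i0 i0inj, orderOf_injective i1 i1inj, hhb, hhs]
  have hzs : z0 * φ yS * z0⁻¹ = φ yS ^ ks := by
    rw [hySi, hz0, mul_inv_rev, ← hFs'.conj]
    calc i0 hb0 * i1 hs0 * i1 ys0 * ((i1 hs0)⁻¹ * (i0 hb0)⁻¹)
        = i0 hb0 * i1 (hs0 * ys0 * hs0⁻¹) * (i0 hb0)⁻¹ := by rw [map_mul, map_mul, map_inv]; group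
      _ = i1 (hs0 * ys0 * hs0⁻¹) := by rw [(hcq _ _).eq, mul_inv_cancel_right]
      _ = _ := by rw [map_mul, map_mul, map_inv]
  have hzb : z0 * φ yB * z0⁻¹ = φ yB ^ kb := by
    rw [hyBi, hz0, mul_inv_rev, ← hFb'.conj]
    calc i0 hb0 * i1 hs0 * i0 yb0 * ((i1 hs0)⁻¹ * (i0 hb0)⁻¹)
        = i0 hb0 * (i1 hs0 * i0 yb0 * (i1 hs0)⁻¹) * (i0 hb0)⁻¹ := by group
      _ = _ := by rw [← (hcq yb0 hs0).eq, mul_inv_cancel_right]
  have toNorm : ∀ {y g : G} {k : ℕ}, g * y * g⁻¹ = y ^ k → g ∈ normalizer (zpowers y : Set G) := fun {y g k} h =>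
    mem_normalizer_fintype fun w hw => by
      obtain ⟨i, rfl⟩ := mem_zpowers_iff.1 hw
      rw [← conj_zpow, h]
      exact zpow_mem (npow_mem_zpowers y k) i
  set N' := N ⊓ normalizer (zpowers yS : Set G)
  have hz0' : z0 ∈ N'.map φ := by
    obtain ⟨g, hg, hgi, hgc⟩ := norm_covers φ hyS (by norm_num) hySo h11 (d := z0) (by rw [hN]; trivial) hzs
    exact ⟨g, ⟨hg, toNorm hgc⟩, hgi⟩
  have hyB' : yB ∈ N' := ⟨hyB.1, toNorm (k := 1) (by
    rw [pow_one, mem_centralizer_singleton_iff.1 hyB.2, mul_inv_cancel_right])⟩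
  obtain ⟨g0, hg0, hg0i, hg0c⟩ := norm_covers φ hyB' hbb.prime hyBo hb hz0' hzb
  obtain ⟨i, hgo, hgi⟩ := exact_pow φ hB g0
  set g := g0 ^ i
  rw [hg0i, hz30] at hgo
  rw [hg0i] at hgi
  have hgW : g ∈ normalizer (W : Set G) := pow_mem (hNW hg0.1) i
  have hgS : g ∈ normalizer (zpowers yS : Set G) := pow_mem hg0.2 i
  have hgB : g ∈ normalizer (zpowers yB : Set G) := pow_mem (toNorm hg0c) i
  set α := g ^ 25
  set β := g ^ 6
  have hα : φ α = i0 hb0 := by
    rw [map_pow, hgi, hz0, (hcq _ _).mul_pow, ← map_pow, ← map_pow, show hs0 ^ 25 = 1 from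
      orderOf_dvd_iff_pow_eq_one.1 (by rw [hhs]; norm_num), map_one, mul_one,
      show hb0 ^ 25 = hb0 by
        rw [← pow_mod_orderOf, hhb]; norm_num]
  have hβ : φ β = i1 hs0 := by
    rw [map_pow, hgi, hz0, (hcq _ _).mul_pow, ← map_pow, ← map_pow, show hb0 ^ 6 = 1 by
      rw [← hhb, pow_orderOf_eq_one], map_one, one_mul,
      show hs0 ^ 6 = hs0 by rw [← pow_mod_orderOf, hhs]; norm_num]
  have h30 : g ^ 30 = 1 := by rw [← hgo, pow_orderOf_eq_one]
  have hα6 : α ^ 6 = 1 := by rw [← pow_mul, show 25 * 6 = 30 * 5 by rfl, pow_mul, h30, one_pow]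
  have hβ5 : β ^ 5 = 1 := by rw [← pow_mul, show 6 * 5 = 30 by rfl, h30]
  have hFα : Frob (⟨yB, hyBn⟩ : ↥(normalizer (W : Set G))) ⟨α, pow_mem hgW 25⟩ b 6 kb :=
    lift_frob (φ := φ) (by rw [hyBi, hα]; exact hFb') hyBo hα6 (pow_mem hgB 25) hyBn (pow_mem hgW 25)
  have hFβ : Frob (⟨yS, hySn⟩ : ↥(normalizer (W : Set G))) ⟨β, pow_mem hgW 6⟩ 11 5 ks :=
    lift_frob (φ := φ) (by rw [hySi, hβ]; exact hFs') hySo hβ5 (pow_mem hgS 6) hySn (pow_mem hgW 6)
  have hαS : α * yS = yS * α := comm_of_img hySo (by rw [hySi]; exact hFs'.oy) (pow_mem hgS 25)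
    (by rw [hα, hySi]; exact (hcq _ _).eq)
  have hndvd : ∀ {c : ℕ}, c.Prime → c ≠ a → ∀ X : Subgroup ↥W, ¬ c ∣ Nat.card X := fun hc hne X =>
    hcard_of hWp hc hne X
  have hW1' : (⊤ : Subgroup ↥W) ≠ ⊥ := by
    haveI := (Subgroup.nontrivial_iff_ne_bot W).2 hW1
    exact top_ne_bot
  have hA := hFα.fix (conjW W) (hndvd hbb.prime hab.symm ⊤) (mem_pres_top _) (mem_pres_top _)
    (by rw [top_inf_eq]; exact fB) hW1'
  rw [top_inf_eq] at hA
  have hBf := hFβ.fix (conjW W) (hndvd (by norm_num) ha11.symm _)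
    (pres_fixd_comm (b := conjW W ⟨α, pow_mem hgW 25⟩) (by
      rw [← map_mul, ← map_mul]; exact congrArg (conjW W) (Subtype.ext hαS.symm)))
    (pres_fixd_comm (by
      rw [← map_mul, ← map_mul]; exact congrArg (conjW W) (Subtype.ext ((Commute.refl g).pow_pow 6 25).eq)))
    (le_bot_iff.1 (inf_le_right.trans fS.le)) hA
  obtain ⟨w, hw, hwa⟩ := SzSquare.exists_order_mem (hWp.to_subgroup _) hBf
  have c1 : Commute α (w : G) := (mem_fixd_conjW (pow_mem hgW 25)).1 hw.1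
  have c2 : Commute β (w : G) := (mem_fixd_conjW (pow_mem hgW 6)).1 hw.2
  have hgab : g = α * β := by
    rw [← pow_add, show 25 + 6 = 30 + 1 by rfl, pow_add, h30, one_mul, pow_one]
  refine no_fix_false hB (x := g) ((Subgroup.orderOf_coe w).trans hwa) (hgab ▸ (c1.mul_left c2).eq) ?_ ?_
  · rw [hgo]; rcases ha with ⟨rfl, -⟩ | ⟨rfl, -⟩ <;> norm_num
  · rw [hgo]; exact not_ok_thirty hba

/-- A `J₁` with a nontrivial centraliser free of other copies is impossible. -/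
theorem Setup.j_cent_false (S : Setup φ) [Group.IsSolvable φ.ker]
    (occ : ∀ a ∈ jOrds, ∀ b ∈ jOrds, ∃ g : G, orderOf g = Nat.lcm a b) {L : Subgroup Q} (hL : Comp L) (E : J ≃* ↥L)
    (hD : centralizer (L : Set Q) ≠ ⊥)
    (hno : ∀ T : Subgroup Q, T ≤ centralizer (L : Set Q) → Comp T → ¬ Nonempty (J ≃* ↥T)) : False := by
  haveI := Finite.of_surjective φ S.surj
  have hBQ := S.bound_img
  haveI hLn := j_normal hBQ hL E
  haveI hDn := cent_normal hLn
  set D := centralizer (L : Set Q) with hDdef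
  -- two large primes are not both in the radical
  have two : ∀ {a b : ℕ}, Big a → Big b → a ≠ b → a ∣ Nat.card φ.ker → b ∣ Nat.card φ.ker → False := by
    intro a b ha hb hab da db
    obtain ⟨c, hc, hcK⟩ : ∃ c, Big c ∧ ¬ c ∣ Nat.card φ.ker := by
      by_contra h
      push Not at h
      exact S.three h
    obtain ⟨y, hy, hyo⟩ := j_order E (big_mem_jOrds hc)
    obtain ⟨T, hT, hTc⟩ := JOneSquare.exists_comp S.rad (N := D) hD
    obtain ⟨e, g, he, hg, h4⟩ := hTc.exists_a4 hBQ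
    exact S.two_false ha hb hc hab (fun e1 => hcK (e1 ▸ da)) (fun e1 => hcK (e1 ▸ db)) hcK da db hyo h4
      (cent_comm hy (hT he)) (cent_comm hy (hT hg))
  have diag_false : ∀ {d : Q} {p : ℕ}, d ∈ D → Big p → orderOf d = p → ∀ T : Subgroup Q, T ≤ D → Comp T →
      (∀ i : ℕ, conjSub (d ^ i) T = T → d ^ i ∈ centralizer (T : Set Q)) → False := by
    intro d p hd hp hdo T hT hTc hst
    obtain ⟨e, g, he, -, h4, hde, -⟩ := hTc.diag hBQ hst (N := D) hT
    obtain ⟨f, hf, hfp⟩ : ∃ f, Big f ∧ f ≠ p := by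
      by_cases h : p = 7
      · exact ⟨11, .inr (.inl rfl), by omega⟩
      · exact ⟨7, .inl rfl, Ne.symm h⟩
    obtain ⟨y, hy, hyo⟩ := j_order E (big_mem_jOrds hf)
    exact no_tri hBQ hp hf hfp.symm (.inl rfl) hdo hyo h4.orderOf_eq (cent_comm hy hd).symm hde (cent_comm hy he)
  have powdiv : ∀ {d : Q} {p : ℕ}, p.Prime → orderOf d = p → ∀ i : ℕ, ∀ q : ℕ, q.Prime → q ∣ orderOf (d ^ i) →
      q = p := fun {d p} hp hdo i q hq hd => (Nat.prime_dvd_prime_iff_eq hq hp).1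
    (hdo ▸ hd.trans (orderOf_pow_dvd i))
  have noD : ∀ {p : ℕ}, p = 7 ∨ p = 19 → ∀ d ∈ D, ¬ p ∣ orderOf d := by
    intro p hp d0 hd0 hdvd
    have hpb : Big p := hp.elim Or.inl fun h => .inr (.inr h)
    obtain ⟨l, hl⟩ := SzSquare.exists_pow_orderOf (orderOf_pos d0) hdvd
    set d := d0 ^ l
    have hd : d ∈ D := pow_mem hd0 l
    obtain ⟨T, hT, hTc, -⟩ := exists_noncentral S.rad hd (fun e => hpb.prime.ne_one (by rw [← hl, e, orderOf_one]))
    refine diag_false hd hpb hl T hT hTc fun i hi => ?_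
    rcases hTc.type hBQ with h | ⟨⟨E'⟩⟩ | ⟨⟨E'⟩⟩
    · exact absurd h (hno T hT hTc)
    · exact Comp.a5_cent E' (mem_normalizer_of_conjSub hi) (orderOf_pos _) fun q hq hqd =>
        powdiv hpb.prime hl i q hq hqd ▸ hpb
    · exact Comp.l11_cent E' (mem_normalizer_of_conjSub hi) (orderOf_pos _) fun q hq hqd =>
        powdiv hpb.prime hl i q hq hqd ▸ hp
  have split : ∀ g : G, ∃ x ∈ L, ∃ d ∈ D, φ g = x * d ∧ ∀ p : ℕ, p.Prime → ¬ p ∣ Nat.card φ.ker → p ∣ orderOf g →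
      p ∣ orderOf x ∨ p ∣ orderOf d := fun g => by
    obtain ⟨x, hx, d, hd, e⟩ := decomp E hLn (φ g)
    exact ⟨x, hx, d, hd, e, fun p hp hpK hpg => orderOf_split hL hx hd hp (e ▸ dvd_image hp hpK hpg)⟩
  have xord : ∀ x ∈ L, orderOf x ∈ jOrds := fun x hx => by
    rw [show orderOf x = orderOf (E.symm ⟨x, hx⟩) by rw [E.symm.orderOf_eq, Subgroup.orderOf_mk]]
    exact jOrd _
  obtain ⟨g, hg⟩ := occ 7 (by decide) 19 (by decide)
  obtain ⟨x, hx, d, hd, -, hsp⟩ := split g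
  obtain ⟨a, b, ha, da⟩ : ∃ a b, (a = 7 ∧ b = 19 ∨ a = 19 ∧ b = 7) ∧ a ∣ Nat.card φ.ker := by
    by_contra h
    push Not at h
    have h7 := (hsp 7 (by norm_num) (h 7 19 (.inl ⟨rfl, rfl⟩)) (by rw [hg]; decide)).resolve_right (noD (.inl rfl) d hd)
    have h19 := (hsp 19 (by norm_num) (h 19 7 (.inr ⟨rfl, rfl⟩)) (by rw [hg]; decide)).resolve_right
      (noD (.inr rfl) d hd)
    exact j_no_prod _ (xord x hx) 7 (by simp) 19 (by simp) (by omega) h7 h19
  have hba : Big a ∧ Big b ∧ a ≠ b ∧ a ≠ 11 ∧ b ≠ 11 ∧ (b = 7 ∨ b = 19) := by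
    rcases ha with ⟨rfl, rfl⟩ | ⟨rfl, rfl⟩
    · exact ⟨.inl rfl, .inr (.inr rfl), by omega, by omega, by omega, .inr rfl⟩
    · exact ⟨.inr (.inr rfl), .inl rfl, by omega, by omega, by omega, .inl rfl⟩
  obtain ⟨hA, hBb, hab, ha11, hb11, hb719⟩ := hba
  have hb : ¬ b ∣ Nat.card φ.ker := two hA hBb hab da
  have h11 : ¬ 11 ∣ Nat.card φ.ker := two hA (.inr (.inl rfl)) ha11 da
  obtain ⟨g, hg⟩ := occ b (big_mem_jOrds hBb) 11 (by decide)
  obtain ⟨x, hx, d, hd, -, hsp⟩ := split g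
  have hgb : b ∣ orderOf g := hg ▸ Nat.dvd_lcm_left _ _
  have hg11 : 11 ∣ orderOf g := hg ▸ Nat.dvd_lcm_right _ _
  have hxb := (hsp b hBb.prime hb hgb).resolve_right (noD hb719 d hd)
  have hd11 : 11 ∣ orderOf d := (hsp 11 (by norm_num) h11 hg11).resolve_left fun h =>
    j_no_prod _ (xord x hx) b (big_list b hBb) 11 (by simp) hb11 hxb h
  obtain ⟨l, hl⟩ := SzSquare.exists_pow_orderOf (orderOf_pos d) hd11
  set d0 := d ^ l
  have hd0 : d0 ∈ D := pow_mem hd l
  obtain ⟨T, hT, hTc, -⟩ := exists_noncentral S.rad hd0 (fun e => by rw [e, orderOf_one] at hl; omega)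
  rcases hTc.type hBQ with h | ⟨⟨E'⟩⟩ | ⟨⟨E'⟩⟩
  · exact hno T hT hTc h
  · exact diag_false hd0 (.inr (.inl rfl)) hl T hT hTc fun i hi =>
      Comp.a5_cent E' (mem_normalizer_of_conjSub hi) (orderOf_pos _) fun q hq hqd =>
        powdiv (by norm_num) hl i q hq hqd ▸ .inr (.inl rfl)
  · exact S.l11_false E E' hT ha da hb h11

end Cfsg.Agent.Recog.JOneSquare
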