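import Cfsg.Agent.Lib.Recog.JOneSquare.CaseI

/-!
# No component isomorphic to `J₁`
-/

set_option autoImplicit false
set_option linter.style.haveILetI false

open Subgroup

namespace Cfsg.Agent.Recog.JOneSquare

universe u v

variable {Q : Type v} [Group Q] [Finite Q]

theorem conj_fix_of_pow {L : Subgroup Q} {d : Q} {n : ℕ} (hd : orderOf d = n) {i : ℕ} (hi : i.Coprime n)
    (h : conjSub (d ^ i) L = L) : conjSub d L = L := by
  have h1 : d ^ i ∈ normalizer (L : Set Q) := mem_normalizer_of_conjSub h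
  obtain ⟨m, hm⟩ := exists_pow_eq_self_of_coprime (x := d) (hd.symm ▸ hi)
  exact conjSub_of_mem_normalizer (hm ▸ pow_mem h1 m)

variable (hB : Bound Q) (hno : ∀ L : Subgroup Q, Comp L → ¬ Nonempty (J ≃* ↥L))

include hB hno

/-- For `7` and `19` every normalised component is centralised. -/
theorem stab_cent {d : Q} {p : ℕ} (hp : p = 7 ∨ p = 19) (hd : orderOf d = p) {T : Subgroup Q} (hT : Comp T) (i : ℕ)
    (hi : conjSub (d ^ i) T = T) : d ^ i ∈ centralizer (T : Set Q) := by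
  have hpp : p.Prime := by rcases hp with rfl | rfl <;> norm_num
  have hq : ∀ q : ℕ, q.Prime → q ∣ orderOf (d ^ i) → q = p := fun q hq h =>
    (Nat.prime_dvd_prime_iff_eq hq hpp).1 (hd ▸ h.trans (orderOf_pow_dvd i))
  rcases hT.type hB with h | ⟨⟨E⟩⟩ | ⟨⟨E⟩⟩
  · exact absurd h (hno T hT)
  · exact Comp.a5_cent E (mem_normalizer_of_conjSub hi) (orderOf_pos _) fun q h1 h2 => by
      rcases hp with rfl | rfl
      · exact .inl (hq q h1 h2)
      · exact .inr (.inr (hq q h1 h2))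
  · exact Comp.l11_cent E (mem_normalizer_of_conjSub hi) (orderOf_pos _) fun q h1 h2 => by
      rw [hq q h1 h2]; exact hp

variable {G : Type u} [Group G] [Finite G] {φ : G →* Q}

omit hB hno in
theorem exists_image (S : Setup φ) {c : ℕ} (hc : Big c) (hcK : ¬ c ∣ Nat.card φ.ker)
    (occ : ∀ a ∈ jOrds, ∀ b ∈ jOrds, ∃ g : G, orderOf g = Nat.lcm a b) : ∃ y : Q, orderOf y = c := by
  obtain ⟨g, hg⟩ := occ c (big_mem_jOrds hc) c (big_mem_jOrds hc)
  obtain ⟨l, hl⟩ := SzSquare.exists_pow_orderOf (orderOf_pos (φ g)) (dvd_image hc.prime hcK (hg ▸ Nat.dvd_lcm_left c c))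
  exact ⟨_, hl⟩

theorem Setup.no_j_two (S : Setup φ) [Group.IsSolvable φ.ker]
    (occ : ∀ a ∈ jOrds, ∀ b ∈ jOrds, ∃ g : G, orderOf g = Nat.lcm a b) {a b c : ℕ} (ha : Big a) (hb : Big b)
    (hc : Big c) (hab : a ≠ b) (hac : a ≠ c) (hbc : b ≠ c) (hcK : ¬ c ∣ Nat.card φ.ker)
    (da : a ∣ Nat.card φ.ker) (db : b ∣ Nat.card φ.ker) : False := by
  have kill : ∀ {y : Q}, orderOf y = c → ∀ {T : Subgroup Q}, Comp T →
      (∀ i : ℕ, conjSub (y ^ i) T = T → y ^ i ∈ centralizer (T : Set Q)) → False := fun {y} hy {T} hT hst => by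
    obtain ⟨e, g, -, -, h4, hye, hyg⟩ := hT.diag hB hst (N := ⊤) le_top
    exact S.two_false ha hb hc hab hac hbc hcK da db hy h4 hye hyg
  obtain ⟨y, hy⟩ := exists_image S hc hcK occ
  obtain ⟨T0, -, hT0, -⟩ := exists_noncentral S.rad (N := (⊤ : Subgroup Q)) (mem_top y)
    (fun e => hc.prime.ne_one (by rw [← hy, e, orderOf_one]))
  by_cases h719 : c = 7 ∨ c = 19
  · exact kill hy hT0 (stab_cent hB hno h719 hy hT0)
  have hc11 : c = 11 := by rcases hc with rfl | rfl | rfl <;> omega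
  -- every element of order eleven normalises and moves inside each component
  have fact : ∀ {z : Q}, orderOf z = c → ∀ {T : Subgroup Q}, Comp T →
      z ∈ normalizer (T : Set Q) ∧ z ∉ centralizer (T : Set Q) ∧ Nonempty (L11 ≃* ↥T) := by
    intro z hz T hT
    have hpow : ∀ i : ℕ, ¬ c ∣ i → conjSub (z ^ i) T = T → conjSub z T = T := fun i hi h =>
      conj_fix_of_pow hz ((Nat.Prime.coprime_iff_not_dvd hc.prime).2 hi).symm h
    have htriv : ∀ i : ℕ, c ∣ i → z ^ i ∈ centralizer (T : Set Q) := fun i hi => by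
      rw [orderOf_dvd_iff_pow_eq_one.1 (hz ▸ hi)]; exact one_mem _
    by_cases hmove : conjSub z T = T
    · refine ⟨mem_normalizer_of_conjSub hmove, fun hcen => kill hz hT fun i _ => pow_mem hcen i, ?_⟩
      rcases hT.type hB with h | ⟨⟨E⟩⟩ | h
      · exact absurd h (hno T hT)
      · refine (kill hz hT fun i _ => pow_mem (Comp.a5_cent E (mem_normalizer_of_conjSub hmove) (orderOf_pos _)
          fun q hq hd => ?_) i).elim
        rw [hz] at hd
        rwa [(Nat.prime_dvd_prime_iff_eq hq hc.prime).1 hd]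
      · exact h
    · refine (kill hz hT fun i hi => ?_).elim
      by_cases hci : c ∣ i
      · exact htriv i hci
      · exact absurd (hpow i hci hi) hmove
  obtain ⟨-, -, ⟨E⟩⟩ := fact hy hT0
  obtain ⟨y1, h1, k, -, hF⟩ := lFrob
  set y0 : Q := ((E y1 : ↥T0) : Q)
  have hy0 : orderOf y0 = c := by rw [Subgroup.orderOf_coe, E.orderOf_eq, hF.oy, hc11]
  have hn : T0.Normal := by
    suffices ∀ g, conjSub g T0 = T0 from ⟨fun x hx g => this g ▸ ⟨x, hx, rfl⟩⟩
    intro g
    by_contra hg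
    refine (fact hy0 (hT0.conj g)).2.1 (mem_centralizer_iff.2 fun x hx => ?_)
    have := (hT0.pair 1 g).resolve_left (by rw [conjSub_one]; exact Ne.symm hg)
    rw [conjSub_one] at this
    exact (this _ (E y1).2 x hx).symm
  have hC : centralizer (T0 : Set Q) = ⊥ := by
    by_contra hne
    haveI := cent_normal hn
    obtain ⟨T, hT, hTc⟩ := JOneSquare.exists_comp S.rad (N := centralizer (T0 : Set Q)) hne
    exact (fact hy0 hTc).2.1 (mem_centralizer_iff.2 fun x hx => (cent_comm (E y1).2 (hT hx)).symm)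
  -- an element of order seven or nineteen
  obtain ⟨T, hT⟩ := exists_hallIn {a, b} φ.ker
  have hab' : a = 7 ∧ b = 19 ∨ a = 19 ∧ b = 7 := by
    rcases ha with rfl | rfl | rfl <;> rcases hb with rfl | rfl | rfl <;> omega
  have noab : ∀ g ∈ φ.ker, ¬ a * b ∣ orderOf g := by
    rcases S.two ha hb hc hab hac hbc hcK hT le_normalizer le_rfl (hT.covers S.surj) ⟨y, hy, .inl hc11⟩ da db with
      ⟨q, M, h⟩ | ⟨q, M, h⟩
    · exact h.no_ab
    · intro g hg; rw [mul_comm]; exact h.no_ab g hg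
  obtain ⟨g, hg⟩ := occ a (big_mem_jOrds ha) b (big_mem_jOrds hb)
  have hg' : orderOf g = a * b := hg.trans ((Nat.coprime_primes ha.prime hb.prime).2 hab).lcm_eq_mul
  have hne1 : orderOf (φ g) ≠ 1 := fun e => noab g (MonoidHom.mem_ker.2 (orderOf_eq_one_iff.1 e)) (by rw [hg'])
  obtain ⟨p, hp, hpd⟩ := Nat.exists_prime_and_dvd hne1
  have hp719 : p = 7 ∨ p = 19 := by
    have := (hg' ▸ hpd.trans (orderOf_map_dvd φ g) : p ∣ a * b)
    rcases (Nat.Prime.dvd_mul hp).1 this with e | e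
    · rw [(Nat.prime_dvd_prime_iff_eq hp ha.prime).1 e]; omega
    · rw [(Nat.prime_dvd_prime_iff_eq hp hb.prime).1 e]; omega
  obtain ⟨l, hl⟩ := SzSquare.exists_pow_orderOf (orderOf_pos (φ g)) hpd
  set h := φ g ^ l
  have hcen : h ∈ centralizer (T0 : Set Q) :=
    Comp.l11_cent E (by rw [normalizer_eq_top_iff.2 hn]; trivial) (orderOf_pos _) fun q hq hd => by
      rw [hl] at hd
      rwa [(Nat.prime_dvd_prime_iff_eq hq hp).1 hd]
  rw [hC, mem_bot] at hcen
  rw [hcen, orderOf_one] at hl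
  exact hp.ne_one hl.symm

theorem Setup.no_j_pair (S : Setup φ) [Group.IsSolvable φ.ker]
    (occ : ∀ a ∈ jOrds, ∀ b ∈ jOrds, ∃ g : G, orderOf g = Nat.lcm a b) {a b : ℕ} (ha : a = 7 ∨ a = 19) (hb : Big b)
    (hab : a ≠ b) (haK : ¬ a ∣ Nat.card φ.ker) (hbK : ¬ b ∣ Nat.card φ.ker) : False := by
  have hA : Big a := ha.elim Or.inl fun h => .inr (.inr h)
  obtain ⟨g, hg⟩ := occ a (big_mem_jOrds hA) b (big_mem_jOrds hb)
  set h := φ g
  have hcop := (Nat.coprime_primes hA.prime hb.prime).2 hab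
  have ho : orderOf h = a * b := by
    refine Nat.dvd_antisymm (by rw [← hcop.lcm_eq_mul, ← hg]; exact orderOf_map_dvd φ g) ?_
    exact hcop.mul_dvd_of_dvd_of_dvd (dvd_image hA.prime haK (hg ▸ Nat.dvd_lcm_left a b))
      (dvd_image hb.prime hbK (hg ▸ Nat.dvd_lcm_right a b))
  set d := h ^ b
  have hd : orderOf d = a := by
    rw [orderOf_pow_of_dvd hb.prime.ne_zero (by rw [ho]; exact dvd_mul_left _ _), ho,
      Nat.mul_div_cancel _ hb.prime.pos]
  obtain ⟨T, -, hT, hdT⟩ := exists_noncentral S.rad (N := (⊤ : Subgroup Q)) (mem_top d)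
    (fun e => hA.prime.ne_one (by rw [← hd, e, orderOf_one]))
  have hmove : conjSub d T ≠ T := fun e => hdT (by
    have := stab_cent hB hno ha hd hT 1 (by rwa [pow_one])
    rwa [pow_one] at this)
  rcases hT.type hB with e | ⟨⟨E⟩⟩ | ⟨⟨E⟩⟩
  · exact hno T hT e
  · obtain ⟨e, g', -, -, h4, hhe, -⟩ := hT.diag hB (h := h) (N := ⊤) (fun i hi =>
      Comp.a5_cent E (mem_normalizer_of_conjSub hi) (orderOf_pos _) fun q hq hqd => by
        rcases (Nat.Prime.dvd_mul hq).1 (ho ▸ hqd.trans (orderOf_pow_dvd i)) with e | e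
        · rwa [(Nat.prime_dvd_prime_iff_eq hq hA.prime).1 e]
        · rwa [(Nat.prime_dvd_prime_iff_eq hq hb.prime).1 e]) le_top
    haveI := Fact.mk hb.prime
    refine no_fix_false hB (a := 2) (ha := ⟨Nat.prime_two⟩) h4.orderOf_eq hhe ?_ ?_
    · rw [ho]
      exact Nat.Coprime.mul_left ((Nat.coprime_primes hA.prime Nat.prime_two).2 (hA.ne_small (.inl rfl)))
        ((Nat.coprime_primes hb.prime Nat.prime_two).2 (hb.ne_small (.inl rfl)))
    · rw [ho]; exact not_ok_two_big hA hb hab (.inl rfl)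
  · -- many commuting conjugates
    have hne : ∀ i j : ℕ, i < j → j < a → conjSub (d ^ i) T ≠ conjSub (d ^ j) T := fun i j hij hj e => by
      have := congrArg (conjSub (d ^ i)⁻¹) e
      rw [← conjSub_mul, ← conjSub_mul, inv_mul_cancel, conjSub_one,
        show (d ^ i)⁻¹ * d ^ j = d ^ (j - i) by rw [← Nat.add_sub_cancel' hij.le, pow_add, inv_mul_cancel_left,
          Nat.add_sub_cancel_left]] at this
      exact hmove (conj_fix_of_pow hd ((Nat.Prime.coprime_iff_not_dvd hA.prime).2 fun hdv => by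
        have := Nat.le_of_dvd (by omega) hdv
        omega).symm this.symm)
    have ha7 : 7 ≤ a := by omega
    have comm : ∀ i j : ℕ, i < j → j < 4 → ∀ x ∈ T, ∀ z ∈ T,
        Commute (d ^ i * x * (d ^ i)⁻¹) (d ^ j * z * (d ^ j)⁻¹) := fun i j hij hj x hx z hz =>
      (hT.pair _ _).resolve_left (hne i j hij (by omega)) _ ⟨x, hx, rfl⟩ _ ⟨z, hz, rfl⟩
    obtain ⟨e0, g0, h4⟩ := lA4
    obtain ⟨y1, f1, k, hf1, hF⟩ := lFrob
    have hg3 : orderOf g0 = 3 := by
      haveI : Fact (Nat.Prime 3) := ⟨Nat.prime_three⟩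
      refine orderOf_eq_prime (by rw [pow_succ, pow_two]; exact h4.cube) fun e1 => h4.ne ?_
      have := h4.third
      simp only [e1, one_mul, inv_one, mul_one, h4.sq] at this
      exact this
    have ordc : ∀ (i : ℕ) (x : L11), orderOf (d ^ i * (E x : Q) * (d ^ i)⁻¹) = orderOf x := fun i x => by
      rw [SzSquare.orderOf_conj, Subgroup.orderOf_coe, E.orderOf_eq]
    set z1 := d ^ 1 * (E e0 : Q) * (d ^ 1)⁻¹
    set z2 := d ^ 2 * (E g0 : Q) * (d ^ 2)⁻¹
    set z3 := d ^ 3 * (E f1 : Q) * (d ^ 3)⁻¹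
    have c12 : Commute z1 z2 := comm 1 2 (by omega) (by omega) _ (E e0).2 _ (E g0).2
    have c13 : Commute z1 z3 := comm 1 3 (by omega) (by omega) _ (E e0).2 _ (E f1).2
    have c23 : Commute z2 z3 := comm 2 3 (by omega) (by omega) _ (E g0).2 _ (E f1).2
    have o12 : orderOf (z1 * z2) = 6 := by
      rw [c12.orderOf_mul_eq_mul_orderOf_of_coprime (by rw [ordc, ordc, h4.orderOf_eq, hg3]; norm_num), ordc, ordc,
        h4.orderOf_eq, hg3]
    have o30 : orderOf (z1 * z2 * z3) = 30 := by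
      rw [(c13.mul_left c23).orderOf_mul_eq_mul_orderOf_of_coprime (by rw [o12, ordc, hf1]; norm_num), o12, ordc, hf1]
    haveI : Fact (Nat.Prime 11) := ⟨by norm_num⟩
    refine no_fix_false hB (a := 11) (x := z1 * z2 * z3) ((ordc 0 y1).trans hF.oy) ?_ (by rw [o30]; norm_num)
      (by rw [o30]; exact not_ok_thirty (.inr (.inl rfl)))
    exact (((comm 0 1 (by omega) (by omega) _ (E y1).2 _ (E e0).2).symm.mul_left
      (comm 0 2 (by omega) (by omega) _ (E y1).2 _ (E g0).2).symm).mul_left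
      (comm 0 3 (by omega) (by omega) _ (E y1).2 _ (E f1).2).symm).eq

theorem Setup.no_j (S : Setup φ) [Group.IsSolvable φ.ker]
    (occ : ∀ a ∈ jOrds, ∀ b ∈ jOrds, ∃ g : G, orderOf g = Nat.lcm a b) : False := by
  have b7 : Big 7 := .inl rfl
  have b11 : Big 11 := .inr (.inl rfl)
  have b19 : Big 19 := .inr (.inr rfl)
  by_cases h7 : 7 ∣ Nat.card φ.ker <;> by_cases h19 : 19 ∣ Nat.card φ.ker <;>
    by_cases h11 : 11 ∣ Nat.card φ.ker
  · exact S.three fun p hp => by rcases hp with rfl | rfl | rfl <;> assumption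
  · exact S.no_j_two hB hno occ b7 b19 b11 (by omega) (by omega) (by omega) h11 h7 h19
  · exact S.no_j_two hB hno occ b7 b11 b19 (by omega) (by omega) (by omega) h19 h7 h11
  · exact S.no_j_pair hB hno occ (.inr rfl) b11 (by omega) h19 h11
  · exact S.no_j_two hB hno occ b11 b19 b7 (by omega) (by omega) (by omega) h7 h11 h19
  · exact S.no_j_pair hB hno occ (.inl rfl) b11 (by omega) h7 h11
  · exact S.no_j_pair hB hno occ (.inl rfl) b19 (by omega) h7 h19
  · exact S.no_j_pair hB hno occ (.inl rfl) b19 (by omega) h7 h19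

end Cfsg.Agent.Recog.JOneSquare
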