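import Cfsg.Agent.Lib.Recog.JOneSquare.Facts
import Cfsg.Agent.Lib.Invol.AbelTwo.Hub
import Cfsg.Agent.Lib.Invol.JankoWard.Ward
import Cfsg.Agent.Lib.Classical.DicksonFacts

/-!
# The simple groups whose element orders divide element orders of `J₁ × J₁`
-/

set_option autoImplicit false
set_option linter.style.haveILetI false

open Subgroup

namespace Cfsg.Agent.Recog.JOneSquare

universe u

theorem even_field_cases : ∀ n < 10, 2 ≤ n → Ok (2 ^ n - 1) → Ok (2 ^ n + 1) → 2 ^ n = 4 := by decide +kernel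

theorem odd_field_cases : ∀ p ∈ [2, 3, 5, 7, 11, 19], ∀ f < 10, 5 ≤ p ^ f → (p ^ f % 8 = 3 ∨ p ^ f % 8 = 5) →
    Ok ((p ^ f - 1) / 2) → Ok ((p ^ f + 1) / 2) → p ^ f = 5 ∨ p ^ f = 11 := by decide +kernel

theorem pow_mod_facts : (∀ r < 4, r % 2 = 1 → 3 ^ r % 5 ≠ 1) ∧ (∀ r < 6, r % 2 = 1 → 3 ^ r % 7 ≠ 1) ∧
    (∀ r < 18, r % 2 = 1 → 3 ^ r % 19 ≠ 1) ∧ (∀ r < 5, 3 ^ r % 11 = 1 → r = 0) := by decide

theorem pow_mod_period {q m n : ℕ} (h : 3 ^ m % q = 1 % q) : 3 ^ n % q = 3 ^ (n % m) % q := by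
  conv_lhs => rw [← Nat.div_add_mod n m, pow_add, Nat.mul_mod, pow_mul, Nat.pow_mod, h, ← Nat.pow_mod, one_pow]
  rw [← Nat.mul_mod, one_mul]

/-- A group of the order of a Ree group has a forbidden prime. -/
theorem not_ree {L : Type u} [Group L] [Finite L] (hB : Bound L) (h : Cfsg.IsRee L) : False := by
  obtain ⟨-, m, hm, hcard⟩ := h
  set n := 2 * m + 1 with hn
  set q := 3 ^ n with hq
  have hq27 : 27 ≤ q := by
    calc 27 = 3 ^ 3 := by norm_num
      _ ≤ q := Nat.pow_le_pow_right (by norm_num) (by omega)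
  by_cases h5 : 5 ∣ n
  · -- thirty-one divides the order
    haveI : Fact (Nat.Prime 31) := ⟨by norm_num⟩
    have h31 : 31 ∣ q ^ 3 + 1 := by
      obtain ⟨l, hl⟩ := h5
      have hl2 : l % 2 = 1 := by
        rcases Nat.mod_two_eq_zero_or_one l with e | e
        · omega
        · exact e
      have e1 : n * 3 = 30 * (l / 2) + 15 := by omega
      rw [hq, ← pow_mul, e1, Nat.dvd_iff_mod_eq_zero, Nat.add_mod, pow_add, pow_mul, Nat.mul_mod, Nat.pow_mod,
        show 3 ^ 30 % 31 = 1 by decide, one_pow]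
      decide
    have hd : 31 ∣ Nat.card L := by
      rw [hcard]
      exact Dvd.dvd.mul_right (Dvd.dvd.mul_left h31 _) _
    rcases hB.prime_dvd_card (by norm_num) hd with e | e | e | (e | e | e) <;> omega
  · -- a prime divisor of `q - 1` outside `2, 3`
    set M := (q - 1) / 2 with hM
    have hodd : q % 4 = 3 := by
      rw [hq, hn, pow_succ, pow_mul, Nat.mul_mod, Nat.pow_mod]
      norm_num
    have hM1 : M ≠ 1 := by omega
    obtain ⟨p, hp, hpM⟩ := Nat.exists_prime_and_dvd hM1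
    have hpq : p ∣ q - 1 := hpM.trans ⟨2, by omega⟩
    have hd : p ∣ Nat.card L := by
      rw [hcard]; exact Dvd.dvd.mul_left hpq _
    have hne : ∀ r, r ∣ q - 1 → 3 ^ n % r = 1 % r := fun r hr => by
      obtain ⟨t, ht⟩ := hr
      rw [show 3 ^ n = r * t + 1 by omega, Nat.mul_add_mod]
    rcases hB.prime_dvd_card hp hd with rfl | rfl | rfl | (rfl | rfl | rfl)
    · omega
    · have := hne 3 hpq
      rw [Nat.pow_mod] at this
      simp [show n ≠ 0 by omega] at this
    · have := hne 5 hpq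
      rw [pow_mod_period (m := 4) (by decide)] at this
      exact pow_mod_facts.1 (n % 4) (Nat.mod_lt _ (by norm_num)) (by omega) this
    · have := hne 7 hpq
      rw [pow_mod_period (m := 6) (by decide)] at this
      exact pow_mod_facts.2.1 (n % 6) (Nat.mod_lt _ (by norm_num)) (by omega) this
    · have := hne 11 hpq
      rw [pow_mod_period (m := 5) (by decide)] at this
      have := pow_mod_facts.2.2.2 (n % 5) (Nat.mod_lt _ (by norm_num)) this
      omega
    · have := hne 19 hpq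
      rw [pow_mod_period (m := 18) (by decide)] at this
      exact pow_mod_facts.2.2.1 (n % 18) (Nat.mod_lt _ (by norm_num)) (by omega) this

/-- Ok is inherited by all exact orders of `L₂(q)`. -/
theorem psl_orders {L : Type u} [Group L] (hB : Bound L) {F : Type} [Field F] [Fintype F] (p : ℕ) [Fact p.Prime]
    [CharP F p] (e : L ≃* Matrix.ProjectiveSpecialLinearGroup (Fin 2) F) :
    Ok p ∧ Ok ((Fintype.card F - 1) / PSL2Spec.dd F) ∧ Ok ((Fintype.card F + 1) / PSL2Spec.dd F) := by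
  have hB' : Bound (Matrix.ProjectiveSpecialLinearGroup (Fin 2) F) := hB.of_surjective e.toMonoidHom e.surjective
  obtain ⟨a, ha⟩ := PSL2Spec.exists_order_char (F := F) p
  obtain ⟨b, hb⟩ := PSL2Spec.exists_order_split (F := F)
  obtain ⟨c, hc⟩ := PSL2Spec.exists_order_nonsplit (F := F) p
  exact ⟨ha ▸ hB' a, hb ▸ hB' b, hc ▸ hB' c⟩

/-- The simple sections. -/
theorem simple_type {L : Type u} [Group L] [Finite L] [IsSimpleGroup L] (hna : ¬ IsMulCommutative L)
    (hB : Bound L) : Nonempty (J ≃* L) ∨ Nonempty (A5 ≃* L) ∨ Nonempty (L11 ≃* L) := by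
  classical
  haveI : Fact (Nat.Prime 2) := ⟨Nat.prime_two⟩
  obtain ⟨S⟩ : Nonempty (Sylow 2 L) := inferInstance
  have hS : IsMulCommutative ↥(S : Subgroup L) := by
    refine ⟨⟨fun a b => Subtype.ext ?_⟩⟩
    have sq : ∀ x ∈ (S : Subgroup L), x⁻¹ = x := fun x hx =>
      inv_eq_of_mul_eq_one_right (by rw [← pow_two]; exact hB.p_group_pow S.isPGroup' hx)
    show (a : L) * b = b * a
    rw [← sq _ (mul_mem a.2 b.2), mul_inv_rev, sq _ a.2, sq _ b.2]
  have h2 : 2 ∣ Nat.card L := Invol.ThreeFree.two_dvd_card hna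
  rcases Invol.AbelTwo.trichotomy hna h2 S hS with ⟨F, i, j, n, hn, hF, ⟨e⟩⟩ | ⟨F, i, j, hodd, h5, h8, ⟨e⟩⟩ |
    ⟨h8, hE, h⟩
  · haveI : CharP F 2 := by
      obtain ⟨p, hp⟩ := CharP.exists F
      haveI : Fact p.Prime := ⟨CharP.char_is_prime F p⟩
      obtain rfl : p = 2 := Dickson.p_eq_two p (by rw [hF]; exact Nat.even_pow.2 ⟨even_two, by omega⟩)
      exact hp
    obtain ⟨-, h1, h2⟩ := psl_orders hB 2 e
    have hdd : PSL2Spec.dd F = 1 := by
      unfold PSL2Spec.dd
      rw [hF]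
      refine Nat.coprime_two_left.2 ?_
      exact Nat.Even.sub_odd (Nat.one_le_two_pow) (Nat.even_pow.2 ⟨even_two, by omega⟩) odd_one
    rw [hdd, Nat.div_one, hF] at h1 h2
    have hn10 : n < 10 := by
      by_contra hcon
      have := h2.le
      have : 2 ^ 10 ≤ 2 ^ n := Nat.pow_le_pow_right (by norm_num) (by omega)
      omega
    have h4 := even_field_cases n hn10 hn h1 h2
    refine Or.inr (Or.inl ?_)
    have hc : Nat.card L = 60 := by
      have h := Classical.natCard_PSL_mul (F := F) 2 (by norm_num)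
      rw [Fus.PSLTwo.natCard_SL_two, Nat.card_units, Nat.card_eq_fintype_card (α := F), hF, h4] at h
      rw [Nat.card_congr e.toEquiv]
      change _ * Nat.card (Matrix.ProjectiveSpecialLinearGroup (Fin 2) F) = _ at h
      generalize Nat.card (Matrix.ProjectiveSpecialLinearGroup (Fin 2) F) = k at h ⊢
      rw [show Nat.gcd 2 (4 - 1) = 1 from rfl] at h
      omega
    obtain ⟨e5⟩ := Fus.alternating_five_of_card hc
    exact ⟨e5.symm⟩
  · obtain ⟨p, hp⟩ := CharP.exists F
    haveI : Fact p.Prime := ⟨CharP.char_is_prime F p⟩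
    obtain ⟨f, hpp, hf⟩ := FiniteField.card F p
    obtain ⟨h0, h1, h2⟩ := psl_orders hB p e
    have hdd : PSL2Spec.dd F = 2 := by
      unfold PSL2Spec.dd
      refine Nat.gcd_eq_left ?_
      obtain ⟨k, hk⟩ := hodd
      exact ⟨k, by omega⟩
    rw [hdd, hf] at h1 h2
    rw [hf] at h5 h8
    have hf10 : (f : ℕ) < 10 := by
      by_contra hcon
      have := h2.le
      have : 2 ^ 10 ≤ p ^ (f : ℕ) :=
        (Nat.pow_le_pow_left hpp.two_le 10).trans (Nat.pow_le_pow_right hpp.pos (by omega))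
      omega
    have hpl : p ∈ [2, 3, 5, 7, 11, 19] := by
      rcases prime_cases hpp h0 with rfl | rfl | rfl | (rfl | rfl | rfl) <;> simp
    rcases odd_field_cases p hpl f hf10 h5 h8 h1 h2 with hq | hq
    · refine Or.inr (Or.inl ?_)
      have hc : Nat.card L = 60 := by
        have := Invol.GW.card_PSLTwo (F := F) hodd
        rw [hf, hq] at this
        rw [Nat.card_congr e.toEquiv]
        omega
      obtain ⟨e5⟩ := Fus.alternating_five_of_card hc
      exact ⟨e5.symm⟩
    · refine Or.inr (Or.inr ?_)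
      have hc : Fintype.card F = Fintype.card (ZMod 11) := by rw [hf, hq, ZMod.card]
      obtain ⟨e11⟩ := Dickson.nonempty_psl_congr (K := F) (L := ZMod 11) (FiniteField.ringEquivOfCardEq hc)
      exact ⟨(e.trans e11).symm⟩
  · rcases Invol.AbelTwo.ree_or_j1 Invol.JankoWard.ward hna S h8 hE h with ⟨-, h'⟩ | ⟨⟨e⟩, -⟩
    · exact (not_ree hB h').elim
    · exact Or.inl ⟨e.symm⟩

end Cfsg.Agent.Recog.JOneSquare
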