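import Cfsg.Agent.Lib.Recog.JOneSquare.Classify
import Cfsg.Agent.Lib.Grp.Basic

/-!
# The components of a group without solvable normal subgroups
-/

set_option autoImplicit false
set_option linter.style.haveILetI false

open Subgroup
open scoped commutatorElement

namespace Cfsg.Agent.Recog.JOneSquare

universe u v

variable {G : Type u} [Group G]

/-- The conjugate of a subgroup. -/
def conjSub (g : G) (L : Subgroup G) : Subgroup G := L.map (MulAut.conj g).toMonoidHom

theorem mem_conjSub {g x : G} {L : Subgroup G} : x ∈ conjSub g L ↔ g⁻¹ * x * g ∈ L := by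
  rw [conjSub, mem_map_equiv]
  simp [MulAut.conj_symm_apply]

theorem conjSub_one (L : Subgroup G) : conjSub 1 L = L := SetLike.ext fun x => by simp [mem_conjSub]

theorem conjSub_mul (g h : G) (L : Subgroup G) : conjSub (g * h) L = conjSub g (conjSub h L) :=
  SetLike.ext fun x => by simp only [mem_conjSub, mul_inv_rev, mul_assoc]

theorem conjSub_mono {g : G} {L M : Subgroup G} (h : L ≤ M) : conjSub g L ≤ conjSub g M := map_mono h

theorem conjSub_normal {g : G} {N : Subgroup G} (hN : N.Normal) : conjSub g N = N :=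
  SetLike.ext fun x => by
    rw [mem_conjSub, hN.mem_comm_iff, ← mul_assoc, mul_inv_cancel, one_mul]

/-- Two elementwise commuting subgroups. -/
def Commuting (A B : Subgroup G) : Prop := ∀ a ∈ A, ∀ b ∈ B, a * b = b * a

theorem Commuting.symm {A B : Subgroup G} (h : Commuting A B) : Commuting B A := fun b hb a ha => (h a ha b hb).symm

theorem Commuting.conj {A B : Subgroup G} (h : Commuting A B) (g : G) : Commuting (conjSub g A) (conjSub g B) := by
  rintro _ ⟨a, ha, rfl⟩ _ ⟨b, hb, rfl⟩
  rw [← map_mul, h a ha b hb, map_mul]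


/-- A nonabelian simple subgroup whose conjugates commute or coincide. -/
structure Comp (L : Subgroup G) : Prop where
  simple : IsSimpleGroup ↥L
  nc : ¬ IsMulCommutative ↥L
  pair : ∀ g h : G, conjSub g L = conjSub h L ∨ Commuting (conjSub g L) (conjSub h L)

/-- A component in a nonsolvable minimal normal subgroup. -/
theorem exists_comp_min [Finite G] {M : Subgroup G} [hM : M.Normal] (hns : ¬ Group.IsSolvable ↥M)
    (hmin : ∀ K : Subgroup G, K.Normal → K ≤ M → K = ⊥ ∨ K = M) :
    ∃ L : Subgroup G, L ≤ M ∧ IsSimpleGroup ↥L ∧ (¬ IsMulCommutative ↥L) ∧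
      ∀ g h : G, conjSub g L = conjSub h L ∨ Commuting (conjSub g L) (conjSub h L) := by
  have hMne : M ≠ ⊥ := fun e => hns (by subst e; infer_instance)
  haveI : Nontrivial ↥M := (Subgroup.nontrivial_iff_ne_bot M).2 hMne
  obtain ⟨L0, hL0n, hL0ne, -, hL0min⟩ := Grp.exists_minimal_normal_le (G := ↥M) (N := ⊤) top_ne_bot
  set L := L0.map M.subtype
  have hLM : L ≤ M := map_subtype_le _
  have hgL : ∀ g, conjSub g L ≤ M := fun g => (conjSub_mono hLM).trans (conjSub_normal hM).le
  have hnorm : ∀ g, ∀ y ∈ M, ∀ x ∈ conjSub g L, y * x * y⁻¹ ∈ conjSub g L := by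
    intro g y hy x hx
    rw [mem_conjSub] at hx ⊢
    obtain ⟨x0, hx0, hx0'⟩ := hx
    have hy' : g⁻¹ * y * g ∈ M := by
      have := hM.conj_mem y hy g⁻¹; rwa [inv_inv] at this
    refine ⟨⟨_, hy'⟩ * x0 * ⟨_, hy'⟩⁻¹, hL0n.conj_mem _ hx0 _, ?_⟩
    show g⁻¹ * y * g * (x0 : G) * (g⁻¹ * y * g)⁻¹ = _
    rw [show (x0 : G) = g⁻¹ * x * g from hx0']; group
  have hminL : ∀ N : Subgroup G, N ≤ L → (∀ y ∈ M, ∀ x ∈ N, y * x * y⁻¹ ∈ N) → N = ⊥ ∨ N = L := by
    intro N hN hn
    rcases hL0min (N.subgroupOf M) ⟨fun x hx y => hn y y.2 x hx⟩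
        (fun x hx => by
          obtain ⟨x0, hx0, e⟩ := hN hx
          exact (Subtype.ext e : x0 = x) ▸ hx0) with h | h
    · left
      refine (Subgroup.eq_bot_iff_forall _).2 fun x hx => ?_
      have := (Subgroup.eq_bot_iff_forall _).1 h ⟨x, hLM (hN hx)⟩ hx
      exact congrArg Subtype.val this
    · right
      refine le_antisymm hN fun x hx => ?_
      obtain ⟨x0, hx0, rfl⟩ := hx
      rw [← h] at hx0
      exact hx0
  have hpair : ∀ g h, conjSub g L = conjSub h L ∨ Commuting (conjSub g L) (conjSub h L) := by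
    intro g h
    set k := g⁻¹ * h with hk
    rcases hminL (L ⊓ conjSub k L) inf_le_left (fun y hy x hx => ⟨by
        have := hnorm 1 y hy x (by rw [conjSub_one]; exact hx.1)
        rwa [conjSub_one] at this, hnorm k y hy x hx.2⟩) with e | e
    · right
      have hc : Commuting L (conjSub k L) := fun a ha b hb => by
        have hmem : a * b * a⁻¹ * b⁻¹ ∈ L ⊓ conjSub k L := mem_inf.2 ⟨by
          rw [show a * b * a⁻¹ * b⁻¹ = a * (b * a⁻¹ * b⁻¹) by group]
          refine mul_mem ha ?_
          have := hnorm 1 b (hgL k hb) a⁻¹ (by rw [conjSub_one]; exact inv_mem ha)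
          rwa [conjSub_one] at this,
          mul_mem (hnorm k a (hLM ha) b hb) (inv_mem hb)⟩
        rw [e, mem_bot] at hmem
        rwa [mul_inv_eq_one, mul_inv_eq_iff_eq_mul] at hmem
      have := hc.conj g
      rwa [← conjSub_mul, hk, mul_inv_cancel_left] at this
    · left
      have hle : L ≤ conjSub k L := inf_eq_left.1 e
      have heq : L = conjSub k L := eq_of_le_of_card_ge hle
        (card_map_of_injective (MulAut.conj k).injective).le
      have := congrArg (conjSub g) heq
      rwa [← conjSub_mul, hk, mul_inv_cancel_left] at this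
  -- the conjugates generate
  set U := ⨆ g : G, conjSub g L
  have hUn : U.Normal := ⟨fun x hx y => by
    have hle : conjSub y U ≤ U := by
      rw [conjSub, Subgroup.map_iSup]
      refine iSup_le fun g => ?_
      rw [← conjSub, ← conjSub_mul]
      exact le_iSup (fun g => conjSub g L) _
    exact hle ⟨x, hx, rfl⟩⟩
  have hLne : L ≠ ⊥ := fun e => hL0ne ((map_eq_bot_iff_of_injective _ M.subtype_injective).1 e)
  have hUM : U = M := (hmin U hUn (iSup_le hgL)).resolve_left fun e => hLne (le_bot_iff.1 (e ▸ by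
    have := le_iSup (fun g => conjSub g L) 1
    rwa [conjSub_one] at this))
  have hnc : ¬ IsMulCommutative ↥L := by
    intro hc
    apply hns
    have hcomm : ∀ g h, Commuting (conjSub g L) (conjSub h L) := fun g h => by
      rcases hpair g h with e | e
      · rw [← e]
        exact Commuting.conj (fun a ha b hb => congrArg Subtype.val (hc.is_comm.comm ⟨a, ha⟩ ⟨b, hb⟩)) g
      · exact e
    refine Group.isSolvable_of_comm fun a b => Subtype.ext ?_
    have h1 : ∀ g, M ≤ centralizer (conjSub g L : Set G) := fun g => hUM ▸ iSup_le fun h x hx =>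
      mem_centralizer_iff.2 fun y hy => hcomm g h y hy x hx
    have h2 : M ≤ centralizer (M : Set G) := hUM ▸ iSup_le fun g x hx => mem_centralizer_iff.2 fun y hy =>
      ((mem_centralizer_iff.1 (h1 g (hUM ▸ hy)) x hx)).symm
    exact ((mem_centralizer_iff.1 (h2 a.2) b b.2)).symm
  haveI : IsSimpleGroup ↥L :=
    { exists_pair_ne := ((Subgroup.nontrivial_iff_ne_bot L).2 hLne).exists_pair_ne
      eq_bot_or_eq_top_of_normal := fun N hN => by
        have hMn : M ≤ normalizer (N.map L.subtype : Set G) := hUM ▸ iSup_le fun g => by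
          rcases hpair 1 g with e | e
          · rw [← e, conjSub_one]
            intro z hz
            refine mem_normalizer_fintype ?_
            rintro _ ⟨w, hw, rfl⟩
            exact ⟨⟨z, hz⟩ * w * ⟨z, hz⟩⁻¹, hN.conj_mem w hw _, rfl⟩
          · intro z hz
            refine mem_normalizer_fintype ?_
            rintro _ ⟨w, hw, rfl⟩
            refine ⟨w, hw, ?_⟩
            have := e (w : G) (by rw [conjSub_one]; exact w.2) z hz
            show (w : G) = z * (w : G) * z⁻¹
            rw [← this, mul_inv_cancel_right]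
        rcases hminL (N.map L.subtype) (map_subtype_le _) (fun y hy x hx => (mem_normalizer_iff.1 (hMn hy) x).1 hx) with e | e
        · exact .inl ((map_eq_bot_iff_of_injective _ L.subtype_injective).1 e)
        · exact .inr (eq_top_iff.2 fun x _ => by
            have hx : (x : G) ∈ N.map L.subtype := by rw [e]; exact x.2
            exact (mem_map_iff_mem L.subtype_injective).1 hx) }
  exact ⟨L, hLM, inferInstance, hnc, hpair⟩

/-- No nontrivial solvable normal subgroup. -/
def RadFree (G : Type u) [Group G] : Prop := ∀ N : Subgroup G, N.Normal → Group.IsSolvable ↥N → N = ⊥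

theorem exists_comp [Finite G] (hrad : RadFree G) {N : Subgroup G} [hN : N.Normal] (hne : N ≠ ⊥) :
    ∃ L, L ≤ N ∧ Comp L := by
  obtain ⟨M, hM, hMne, hMN, hmin⟩ := Grp.exists_minimal_normal_le hne
  haveI := hM
  obtain ⟨L, hL, h1, h2, h3⟩ := exists_comp_min (fun hs => hMne (hrad M hM hs)) hmin
  exact ⟨L, hL.trans hMN, h1, h2, h3⟩

theorem Comp.conj {L : Subgroup G} (h : Comp L) (g : G) : Comp (conjSub g L) := by
  have e := (equivMapOfInjective L (MulAut.conj g).toMonoidHom (MulAut.conj g).injective)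
  haveI := h.simple
  haveI : Nontrivial ↥(conjSub g L) := e.symm.toEquiv.nontrivial
  refine ⟨IsSimpleGroup.isSimpleGroup_of_surjective e.toMonoidHom e.surjective, fun hc => h.nc ⟨⟨fun a b => ?_⟩⟩,
    fun a b => ?_⟩
  · exact e.injective (by rw [map_mul, map_mul]; exact hc.is_comm.comm _ _)
  · rw [← conjSub_mul, ← conjSub_mul]; exact h.pair _ _

theorem Comp.not_self {L : Subgroup G} (h : Comp L) (hc : L ≤ centralizer (L : Set G)) : False :=
  h.nc ⟨⟨fun a b => Subtype.ext (mem_centralizer_iff.1 (hc b.2) a a.2)⟩⟩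

theorem Comp.ne_bot {L : Subgroup G} (h : Comp L) : L ≠ ⊥ := fun e => h.not_self (by rw [e]; exact bot_le)

theorem Comp.center_free {L : Subgroup G} (h : Comp L) {x : G} (hx : x ∈ L) (hc : x ∈ centralizer (L : Set G)) :
    x = 1 := by
  haveI := h.simple
  rcases (inferInstance : (center ↥L).Normal).eq_bot_or_eq_top with e | e
  · have : (⟨x, hx⟩ : ↥L) ∈ center ↥L :=
      mem_center_iff.2 fun y => Subtype.ext (mem_centralizer_iff.1 hc y y.2)
    rw [e, mem_bot] at this
    exact congrArg Subtype.val this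
  · exact absurd ⟨⟨fun a b => mem_center_iff.1 (e ▸ mem_top b) a⟩⟩ h.nc

theorem mem_normalizer_of_conjSub [Finite G] {L : Subgroup G} {z : G} (h : conjSub z L = L) :
    z ∈ normalizer (L : Set G) :=
  mem_normalizer_fintype fun x hx => by
    show z * x * z⁻¹ ∈ L
    rw [← h]
    exact ⟨x, hx, rfl⟩

theorem conjSub_of_mem_normalizer [Finite G] {L : Subgroup G} {z : G} (h : z ∈ normalizer (L : Set G)) :
    conjSub z L = L :=
  eq_of_le_of_card_ge (by rintro _ ⟨x, hx, rfl⟩; exact Grp.mem_conj_normalizer h hx)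
    (card_map_of_injective (MulAut.conj z).injective).ge

/-- A nontrivial element of a normal subgroup moves or acts on a component inside it. -/
theorem exists_noncentral [Finite G] (hrad : RadFree G) {N : Subgroup G} [hN : N.Normal] {x : G} (hx : x ∈ N)
    (hx1 : x ≠ 1) : ∃ L, L ≤ N ∧ Comp L ∧ x ∉ centralizer (L : Set G) := by
  by_contra hcon
  push Not at hcon
  set C := N ⊓ ⨅ L : {L : Subgroup G // L ≤ N ∧ Comp L}, centralizer ((L : Subgroup G) : Set G)
  have hxC : x ∈ C := ⟨hx, mem_iInf.2 fun L => hcon L.1 L.2.1 L.2.2⟩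
  haveI hCn : C.Normal := ⟨fun y hy g => ⟨hN.conj_mem y hy.1 g, mem_iInf.2 fun L => mem_centralizer_iff.2 fun z hz => by
    have hL' : conjSub g⁻¹ L.1 ≤ N := (conjSub_mono L.2.1).trans (conjSub_normal hN).le
    have h1 := mem_centralizer_iff.1 (mem_iInf.1 hy.2 ⟨_, hL', L.2.2.conj g⁻¹⟩) (g⁻¹ * z * g)
      (mem_conjSub.2 (by simpa [mul_assoc] using hz))
    calc z * (g * y * g⁻¹) = g * (g⁻¹ * z * g * y) * g⁻¹ := by group
      _ = g * (y * (g⁻¹ * z * g)) * g⁻¹ := by rw [h1]
      _ = g * y * g⁻¹ * z := by group⟩⟩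
  obtain ⟨L, hLC, hL⟩ := exists_comp hrad (N := C) (fun e => hx1 ((Subgroup.eq_bot_iff_forall _).1 e x hxC))
  exact hL.not_self fun z hz => mem_iInf.1 (hLC hz).2 ⟨L, hLC.trans inf_le_left, hL⟩

/-- The types of the components. -/
theorem Comp.type [Finite G] (hB : Bound G) {L : Subgroup G} (h : Comp L) :
    Nonempty (J ≃* ↥L) ∨ Nonempty (A5 ≃* ↥L) ∨ Nonempty (L11 ≃* ↥L) :=
  haveI := h.simple
  simple_type h.nc (hB.subgroup L)

theorem Comp.exists_a4 [Finite G] (hB : Bound G) {L : Subgroup G} (h : Comp L) :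
    ∃ e g : G, e ∈ L ∧ g ∈ L ∧ A4El e g := by
  rcases h.type hB with ⟨⟨E⟩⟩ | ⟨⟨E⟩⟩ | ⟨⟨E⟩⟩
  · obtain ⟨e, g, he⟩ := jA4
    exact ⟨_, _, (E e).2, (E g).2, (he.map E.toMonoidHom E.injective).map L.subtype L.subtype_injective⟩
  · obtain ⟨e, g, he⟩ := a5A4
    exact ⟨_, _, (E e).2, (E g).2, (he.map E.toMonoidHom E.injective).map L.subtype L.subtype_injective⟩
  · obtain ⟨e, g, he⟩ := lA4
    exact ⟨_, _, (E e).2, (E g).2, (he.map E.toMonoidHom E.injective).map L.subtype L.subtype_injective⟩

/-- An automorphism all of whose prime order powers are trivial is trivial. -/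
theorem aut_trivial {H : Type v} [Group H] {P : ℕ → Prop} (hP : ∀ φ : MulAut H, ∀ p, P p → φ ^ p = 1 → φ = 1)
    (φ : MulAut H) {n : ℕ} (hn : 0 < n) (hφ : φ ^ n = 1) (hdiv : ∀ p : ℕ, p.Prime → p ∣ n → P p) : φ = 1 := by
  by_contra hne
  obtain ⟨p, hp, hd⟩ := Nat.exists_prime_and_dvd (fun e => hne (orderOf_eq_one_iff.1 e))
  have hpos : 0 < orderOf φ := (isOfFinOrder_iff_pow_eq_one.2 ⟨n, hn, hφ⟩).orderOf_pos
  have h1 := hP (φ ^ (orderOf φ / p)) p (hdiv p hp (hd.trans (orderOf_dvd_of_pow_eq_one hφ)))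
    (by rw [← pow_mul, Nat.div_mul_cancel hd, pow_orderOf_eq_one])
  have h2 := Nat.le_of_dvd (Nat.div_pos (Nat.le_of_dvd hpos hd) hp.pos) (orderOf_dvd_of_pow_eq_one h1)
  exact absurd h2 (not_le.2 (Nat.div_lt_self hpos hp.one_lt))

/-- A normalising element inducing no automorphism of the listed orders centralises. -/
theorem cent_of_aut {H : Type v} [Group H] {P : ℕ → Prop} (hP : ∀ φ : MulAut H, ∀ p, P p → φ ^ p = 1 → φ = 1)
    {L : Subgroup G} (E : H ≃* ↥L) {z : G} (hz : z ∈ normalizer (L : Set G)) (hpos : 0 < orderOf z)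
    (hdiv : ∀ p : ℕ, p.Prime → p ∣ orderOf z → P p) : z ∈ centralizer (L : Set G) := by
  set c : ↥(normalizer (L : Set G)) →* MulAut H := (MulAut.congr E.symm).toMonoidHom.comp L.normalizerMonoidHom
  have h1 : c ⟨z, hz⟩ = 1 := aut_trivial hP _ hpos
    (by rw [← map_pow, show (⟨z, hz⟩ : ↥(normalizer (L : Set G))) ^ orderOf z = 1 from
      Subtype.ext (by simp [pow_orderOf_eq_one]), map_one]) hdiv
  have h2 : L.normalizerMonoidHom ⟨z, hz⟩ = 1 :=
    (MulAut.congr E.symm).injective (h1.trans (map_one _).symm)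
  refine mem_centralizer_iff.2 fun x hx => ?_
  have := congrArg Subtype.val (DFunLike.congr_fun h2 ⟨x, hx⟩)
  exact (mul_inv_eq_iff_eq_mul.1 this).symm

theorem Comp.a5_cent {L : Subgroup G} (E : A5 ≃* ↥L) {z : G} (hz : z ∈ normalizer (L : Set G)) (hpos : 0 < orderOf z)
    (hdiv : ∀ p : ℕ, p.Prime → p ∣ orderOf z → Big p) : z ∈ centralizer (L : Set G) :=
  cent_of_aut (P := Big) (fun φ _ hp h => a5Aut hp φ h) E hz hpos hdiv

theorem Comp.l11_cent {L : Subgroup G} (E : L11 ≃* ↥L) {z : G} (hz : z ∈ normalizer (L : Set G))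
    (hpos : 0 < orderOf z) (hdiv : ∀ p : ℕ, p.Prime → p ∣ orderOf z → p = 7 ∨ p = 19) :
    z ∈ centralizer (L : Set G) :=
  cent_of_aut (P := fun p => p = 7 ∨ p = 19) (fun φ _ hp h => lAut hp φ h) E hz hpos hdiv

/-- An element normalising a copy of `J₁` is inner on it. -/
theorem inner_of_j {L : Subgroup G} (E : J ≃* ↥L) {z : G} (hz : z ∈ normalizer (L : Set G)) :
    ∃ x ∈ L, x⁻¹ * z ∈ centralizer (L : Set G) := by
  obtain ⟨x, hx⟩ := J1Cert.all_inner ((MulAut.congr E.symm) (L.normalizerMonoidHom ⟨z, hz⟩))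
  refine ⟨E x, (E x).2, mem_centralizer_iff.2 fun y hy => ?_⟩
  have h := DFunLike.congr_fun hx (E.symm ⟨y, hy⟩)
  have h2 : (E x : G) * y * (E x : G)⁻¹ = z * y * z⁻¹ := by
    have := congrArg (fun w => ((E w : ↥L) : G)) h
    simpa [MulAut.congr] using this
  calc y * ((E x : G)⁻¹ * z) = (E x : G)⁻¹ * ((E x : G) * y * (E x : G)⁻¹) * z := by group
    _ = (E x : G)⁻¹ * (z * y * z⁻¹) * z := by rw [h2]
    _ = (E x : G)⁻¹ * z * y := by group

/-- The partial diagonal of the conjugates under the powers of an element. -/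
def restProd (h : G) : ℕ → G → G
  | 0, _ => 1
  | n + 1, x => restProd h n x * (h ^ (n + 1) * x * (h ^ (n + 1))⁻¹)

/-- A component whose stabiliser in `⟨h⟩` centralises it gives an `A₄` commuting with `h`. -/
theorem Comp.diag [Finite G] (hB : Bound G) {L : Subgroup G} (hL : Comp L) {h : G}
    (hst : ∀ i : ℕ, conjSub (h ^ i) L = L → h ^ i ∈ centralizer (L : Set G)) {N : Subgroup G} [hN : N.Normal]
    (hLN : L ≤ N) : ∃ e g : G, e ∈ N ∧ g ∈ N ∧ A4El e g ∧ h * e = e * h ∧ h * g = g * h := by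
  classical
  have hex : ∃ l, 0 < l ∧ conjSub (h ^ l) L = L := ⟨orderOf h, orderOf_pos h, by rw [pow_orderOf_eq_one, conjSub_one]⟩
  set l := Nat.find hex
  obtain ⟨hl0, hll⟩ := Nat.find_spec hex
  obtain ⟨m, hm⟩ : ∃ m, l = m + 1 := ⟨l - 1, by omega⟩
  have hne : ∀ i j : ℕ, i < l → j < l → i ≠ j → Commuting (conjSub (h ^ i) L) (conjSub (h ^ j) L) := by
    intro i j hi hj hij
    refine (hL.pair _ _).resolve_left fun e => ?_
    have key : ∀ a b : ℕ, a < b → b < l → conjSub (h ^ a) L = conjSub (h ^ b) L → False := fun a b hab hb e => by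
      have := congrArg (conjSub (h ^ a)⁻¹) e
      rw [← conjSub_mul, ← conjSub_mul, inv_mul_cancel, conjSub_one,
        show (h ^ a)⁻¹ * h ^ b = h ^ (b - a) by rw [← Nat.add_sub_cancel' hab.le, pow_add, inv_mul_cancel_left,
          Nat.add_sub_cancel_left]] at this
      exact Nat.find_min hex (show b - a < l by omega) ⟨by omega, this.symm⟩
    rcases Nat.lt_or_ge i j with h1 | h1
    · exact key i j h1 hj e
    · exact key j i (by omega) hi e.symm
  have hmemc : ∀ i : ℕ, ∀ x ∈ L, h ^ i * x * (h ^ i)⁻¹ ∈ conjSub (h ^ i) L := fun i x hx => ⟨x, hx, rfl⟩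
  have hr : ∀ n, n < l → ∀ x ∈ L, ∀ j, n < j → j < l → ∀ y ∈ conjSub (h ^ j) L,
      restProd h n x * y = y * restProd h n x := by
    intro n
    induction n with
    | zero => intro _ x _ j _ _ y _; simp [restProd]
    | succ n ih =>
      intro hn x hx j hj hjl y hy
      have e1 := ih (by omega) x hx j (by omega) hjl y hy
      have e2 : h ^ (n + 1) * x * (h ^ (n + 1))⁻¹ * y = y * (h ^ (n + 1) * x * (h ^ (n + 1))⁻¹) :=
        hne (n + 1) j hn hjl (by omega) _ (hmemc _ x hx) y hy
      exact (Commute.mul_left (show Commute _ _ from e1) (show Commute _ _ from e2)).eq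
  have hrL : ∀ n, n < l → ∀ x ∈ L, ∀ y ∈ L, restProd h n x * y = y * restProd h n x := by
    intro n
    induction n with
    | zero => intro _ x _ y _; simp [restProd]
    | succ n ih =>
      intro hn x hx y hy
      have e2 : h ^ (n + 1) * x * (h ^ (n + 1))⁻¹ * y = y * (h ^ (n + 1) * x * (h ^ (n + 1))⁻¹) :=
        hne (n + 1) 0 hn (by omega) (by omega) _ (hmemc _ x hx) y (by rw [pow_zero, conjSub_one]; exact hy)
      exact (Commute.mul_left (show Commute _ _ from ih (by omega) x hx y hy) (show Commute _ _ from e2)).eq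
  have hmul : ∀ n, n < l → ∀ x ∈ L, ∀ y ∈ L, restProd h n (x * y) = restProd h n x * restProd h n y := by
    intro n
    induction n with
    | zero => intro _ x _ y _; simp [restProd]
    | succ n ih =>
      intro hn x hx y hy
      have e1 := hr n (by omega) y hy (n + 1) (by omega) hn _ (hmemc _ x hx)
      simp only [restProd]
      rw [ih (by omega) x hx y hy,
        show h ^ (n + 1) * (x * y) * (h ^ (n + 1))⁻¹ = h ^ (n + 1) * x * (h ^ (n + 1))⁻¹ * (h ^ (n + 1) * y * (h ^ (n + 1))⁻¹)
          by group]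
      rw [mul_assoc, ← mul_assoc (restProd h n y), e1]
      simp only [mul_assoc]
  let δ : ↥L →* G := MonoidHom.mk' (fun x => (x : G) * restProd h m x) fun x y => by
    have e1 := hrL m (by omega) x x.2 y y.2
    show (x : G) * y * restProd h m ((x : G) * y) = (x : G) * restProd h m x * ((y : G) * restProd h m y)
    rw [hmul m (by omega) x x.2 y y.2, mul_assoc (x : G) (y : G), ← mul_assoc (y : G), ← e1]
    simp only [mul_assoc]
  have hinj : Function.Injective δ := (injective_iff_map_eq_one δ).2 fun x hx => Subtype.ext (by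
    refine hL.center_free x.2 (mem_centralizer_iff.2 fun y hy => ?_)
    have e : (x : G) = (restProd h m x)⁻¹ := eq_inv_of_mul_eq_one_left hx
    rw [e]
    exact ((show Commute (restProd h m x) y from hrL m (by omega) x x.2 y hy).inv_left.symm).eq)
  have hshift : ∀ n x, h * (x * restProd h n x) * h⁻¹ = restProd h (n + 1) x := by
    intro n x
    induction n with
    | zero => simp [restProd]
    | succ n ih =>
      calc h * (x * restProd h (n + 1) x) * h⁻¹
          = h * (x * restProd h n x) * h⁻¹ * (h * (h ^ (n + 1) * x * (h ^ (n + 1))⁻¹) * h⁻¹) := by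
            simp only [restProd]; group
        _ = restProd h (n + 2) x := by
            rw [ih, show restProd h (n + 2) x = restProd h (n + 1) x * (h ^ (n + 2) * x * (h ^ (n + 2))⁻¹) from rfl,
              show h ^ (n + 2) = h * h ^ (n + 1) from pow_succ' h (n + 1)]
            group
  have hcomm : ∀ x : ↥L, h * δ x = δ x * h := fun x => mul_inv_eq_iff_eq_mul.1 (by
    show h * ((x : G) * restProd h m x) * h⁻¹ = (x : G) * restProd h m x
    have hx : h ^ l * (x : G) * (h ^ l)⁻¹ = x :=
      mul_inv_eq_iff_eq_mul.2 (mem_centralizer_iff.1 (hst l hll) x x.2).symm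
    rw [hshift, show restProd h (m + 1) x = restProd h m x * (h ^ (m + 1) * x * (h ^ (m + 1))⁻¹) from rfl, ← hm, hx]
    exact hrL m (by omega) x x.2 x x.2)
  have hδN : ∀ x : ↥L, δ x ∈ N := fun x => mul_mem (hLN x.2) (by
    have : ∀ n, restProd h n x ∈ N := fun n => by
      induction n with
      | zero => exact one_mem N
      | succ n ih => exact mul_mem ih (hN.conj_mem _ (hLN x.2) _)
    exact this m)
  obtain ⟨e, g, he, hg, h4⟩ := hL.exists_a4 hB
  have h4' : A4El (⟨e, he⟩ : ↥L) ⟨g, hg⟩ :=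
    ⟨fun e1 => h4.ne (congrArg Subtype.val e1), Subtype.ext h4.sq, Subtype.ext h4.cube, Subtype.ext h4.comm,
      Subtype.ext h4.prod⟩
  exact ⟨_, _, hδN _, hδN _, h4'.map δ hinj, hcomm _, hcomm _⟩

end Cfsg.Agent.Recog.JOneSquare
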