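import Cfsg.Agent.Lib.Recog.JOneSquare.Three
import Cfsg.Agent.Lib.Grp.CoprimeAbelian

/-!
# A solvable radical with two large primes
-/

set_option autoImplicit false
set_option linter.style.haveILetI false

open Subgroup
open scoped IsMulCommutative

namespace Cfsg.Agent.Recog.JOneSquare

open SzSquare (OP OP_le OP_isPGroup le_OP OP_comm exists_OP_ne_bot OP_dvd_card zc fixd mem_fixd pres mem_pres_top)

universe u v

variable {G : Type u} [Group G] {Q : Type v} [Group Q]

theorem A4El.sub {e g : G} (h : A4El e g) {H : Subgroup G} (he : e ∈ H) (hg : g ∈ H) :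
    A4El (⟨e, he⟩ : ↥H) ⟨g, hg⟩ :=
  ⟨fun e1 => h.ne (congrArg Subtype.val e1), Subtype.ext h.sq, Subtype.ext h.cube, Subtype.ext h.comm,
    Subtype.ext h.prod⟩

theorem normalizer_le_OP [Finite G] (q : ℕ) (T : Subgroup G) :
    normalizer (T : Set G) ≤ normalizer (OP q T : Set G) := by
  intro x hx
  have hle : (OP q T).map (MulAut.conj x).toMonoidHom ≤ OP q T := by
    refine le_OP (by rintro _ ⟨w, hw, rfl⟩; exact conj_mem_of_normalizer hx (OP_le q T hw)) (fun t ht => ?_)
      ((OP_isPGroup q T).map _)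
    refine mem_normalizer_fintype ?_
    rintro _ ⟨w, hw, rfl⟩
    have ht' : x⁻¹ * t * x ∈ T := Grp.mem_conj_normalizer' hx ht
    refine ⟨x⁻¹ * t * x * w * (x⁻¹ * t * x)⁻¹, SzSquare.conj_mem_OP ht' hw, ?_⟩
    simp only [MulEquiv.coe_toMonoidHom, MulAut.conj_apply]
    group
  exact mem_normalizer_fintype fun w hw => hle ⟨w, hw, rfl⟩

theorem big_three {a b c p : ℕ} (ha : Big a) (hb : Big b) (hc : Big c) (hab : a ≠ b) (hac : a ≠ c) (hbc : b ≠ c)
    (hp : Big p) : p = a ∨ p = b ∨ p = c := by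
  rcases ha with rfl | rfl | rfl <;> rcases hb with rfl | rfl | rfl <;> rcases hc with rfl | rfl | rfl <;>
    rcases hp with rfl | rfl | rfl <;> omega

set_option synthInstance.maxSize 1024 in
theorem big_pow_fact : ∀ b ∈ ([7, 11, 19] : List ℕ), ∀ c ∈ ([7, 11, 19] : List ℕ), b ≠ c → ∀ i < 4, ∀ j < i,
    b ^ i % c = b ^ j % c → i = 3 ∧ j = 0 ∧ c ≠ 11 := by decide

theorem big_sub_one : ∀ b ∈ ([7, 11, 19] : List ℕ), ∀ c ∈ ([7, 11, 19] : List ℕ), b ≠ c → ¬ c ∣ b - 1 := by decide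

theorem sq_ne_cube {b j : ℕ} (hb : 1 < b) : (b ^ j) ^ 2 ≠ b ^ 3 := by
  rw [← pow_mul]
  exact fun e => by have := Nat.pow_right_injective hb e; omega

/-- An element of large order acting on a group of large prime order centralises it. -/
theorem cent_cyclic [Finite G] {b c : ℕ} (hb : Big b) (hc : Big c) (hbc : b ≠ c) {q y : G} (hq : orderOf q = b)
    (hy : orderOf y = c) (hn : y ∈ normalizer (zpowers q : Set G)) : y * q = q * y :=
  by_contra fun hne => big_sub_one b (big_list b hb) c (big_list c hc) hbc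
    (SzSquare.dvd_sub_one_of_moves hb.prime hc.prime hq hy hn hne)

theorem card_le_of_no_rankTwo [Finite G] {p : ℕ} [hp : Fact p.Prime] {C : Subgroup G} (hC : IsPGroup p ↥C)
    (hexp : ∀ x ∈ C, x ^ p = 1) (h2 : ¬ SzSquare.RankTwo p C) : Nat.card C ≤ p := by
  rcases eq_or_ne C ⊥ with rfl | hne
  · rw [Subgroup.card_bot]; exact hp.out.pos
  obtain ⟨u, -, hu, huniq, -⟩ := (SzSquare.unique_or_rankTwo hC hne).resolve_left h2
  rw [← hu, ← Nat.card_zpowers]
  refine card_le_of_le fun x hx => ?_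
  rcases eq_or_ne x 1 with rfl | h1
  · exact one_mem _
  · exact huniq x hx (orderOf_eq_prime (hexp x hx) h1)

/-- The four group of an `A₄`. -/
def fourSub {e f : G} (he : e * e = 1) (hf : f * f = 1) (h : e * f = f * e) : Subgroup G where
  carrier := {x | x = 1 ∨ x = e ∨ x = f ∨ x = e * f}
  one_mem' := .inl rfl
  mul_mem' {x y} hx hy := by
    have a1 : ∀ z, e * (e * z) = z := fun z => by rw [← mul_assoc, he, one_mul]
    have a2 : ∀ z, f * (f * z) = z := fun z => by rw [← mul_assoc, hf, one_mul]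
    have a3 : ∀ z, f * (e * z) = e * (f * z) := fun z => by rw [← mul_assoc, ← h, mul_assoc]
    rcases hx with rfl | rfl | rfl | rfl <;> rcases hy with rfl | rfl | rfl | rfl <;>
      simp [mul_assoc, he, hf, a1, a2, a3, h.symm]
  inv_mem' {x} hx := by
    rcases hx with rfl | rfl | rfl | rfl
    · simp
    · simp [inv_eq_of_mul_eq_one_right he]
    · simp [inv_eq_of_mul_eq_one_right hf]
    · simp [inv_eq_of_mul_eq_one_right he, inv_eq_of_mul_eq_one_right hf, h.symm]

/-- The consequences. -/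
structure TwoOut (φ : G →* Q) (a b c : ℕ) (T N : Subgroup G) (q : G) (M : Subgroup G) : Prop where
  M_le : M ≤ N
  q_mem : q ∈ T
  oq : orderOf q = b
  cent : ∀ m ∈ M, m * q = q * m
  core : OP a T ≠ ⊥
  no_ab : ∀ g ∈ φ.ker, ¬ a * b ∣ orderOf g
  comm_le : commutator Q ≤ M.map φ
  ord_c : ∀ y : Q, orderOf y = c → y ∈ M.map φ
  ker_big : ∀ x ∈ M, φ x = 1 → Big (orderOf x) → orderOf x = b ∧ x ∈ zpowers q

/-- What is needed of the elements of order `c` of the image. -/
def YHyp (Q : Type v) [Group Q] (c : ℕ) : Prop := ∃ y : Q, orderOf y = c ∧ (c = 11 ∨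
  (∃ e g : Q, A4El e g ∧ y * e = e * y ∧ y * g = g * y) ∨ ∃ s : Q, orderOf s = 2 ∧ s * y * s⁻¹ = y⁻¹)

variable {φ : G →* Q}

theorem Setup.exists_a4_le [Finite G] (S : Setup φ) {N : Subgroup Q} (hN : N.Normal) (hne : N ≠ ⊥) :
    ∃ e g : Q, e ∈ N ∧ g ∈ N ∧ A4El e g := by
  haveI := Finite.of_surjective φ S.surj
  obtain ⟨L, hLN, hL⟩ := JOneSquare.exists_comp S.rad hne
  obtain ⟨e, g, he, hg, h⟩ := hL.exists_a4 S.bound_img
  exact ⟨e, g, hLN he, hLN hg, h⟩

theorem Setup.two_aux [Finite G] (S : Setup φ) [Group.IsSolvable φ.ker] {a b c : ℕ} (ha : Big a) (hb : Big b)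
    (hc : Big c) (hab : a ≠ b) (hac : a ≠ c) (hbc : b ≠ c) (hcK : ¬ c ∣ Nat.card φ.ker) {T : Subgroup G}
    (hT : IsHall {a, b} T φ.ker) {N : Subgroup G} (hTN : T ≤ N) (hN : N ≤ normalizer (T : Set G))
    (hcov : N.map φ = ⊤) (hy : YHyp Q c) (db : b ∣ Nat.card φ.ker)
    (hP : OP a T ≠ ⊥) : ∃ q M, TwoOut φ a b c T N q M := by
  haveI := Fact.mk ha.prime
  haveI := Fact.mk hb.prime
  haveI := Fact.mk hc.prime
  haveI := isSolvable_le_ker φ hT.le
  haveI := Finite.of_surjective φ S.surj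
  have hB := S.bound
  have hbig : ∀ p ∈ ({a, b} : Finset ℕ), Big p := fun p hp => by
    rcases Finset.mem_insert.1 hp with rfl | hp
    · exact ha
    · rw [Finset.mem_singleton.1 hp]; exact hb
  have hTodd : Odd (Nat.card T) := hT.pi.odd fun h => by
    rcases hbig 2 h with h | h | h <;> omega
  set P := OP a T with hPdef
  haveI : Group.IsSolvable ↥P := Grp.isSolvable_of_le (OP_le a T) inferInstance
  have hPodd : Odd (Nat.card P) := hTodd.of_dvd_nat (Subgroup.card_dvd_of_le (OP_le a T))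
  have hPa : a ∣ Nat.card P := by
    obtain ⟨w, hw, hwa⟩ := SzSquare.exists_order_mem (OP_isPGroup a T) hP
    exact hwa ▸ P.orderOf_dvd_natCard hw
  obtain ⟨Q0, hQ0⟩ := exists_sylowIn b T
  haveI : Group.IsSolvable ↥Q0 := Grp.isSolvable_of_le hQ0.le inferInstance
  have hQp : IsPGroup b ↥Q0 := hQ0.pi.to_pGroup
  have hQ1 : Q0 ≠ ⊥ := fun e => by
    have h := hQ0.dvd_card hb.prime (by simp) (hT.dvd_card hb.prime (by simp) db)
    rw [e, Subgroup.card_bot] at h
    exact hb.prime.ne_one (Nat.dvd_one.1 h)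
  have hQodd : Odd (Nat.card Q0) := hTodd.of_dvd_nat (Subgroup.card_dvd_of_le hQ0.le)
  have hexp : ∀ x ∈ Q0, x ^ b = 1 := fun x hx => hB.p_group_pow hQp hx
  set N2 := N ⊓ normalizer (Q0 : Set G) with hN2
  have hcov2 : N2.map φ = ⊤ := by rw [hN2, hQ0.map_frattini φ hT.le hTN hN, hcov]
  have hN2P : N2 ≤ normalizer (P : Set G) := inf_le_left.trans (hN.trans (normalizer_le_OP a T))
  have hN2Q : N2 ≤ normalizer (Q0 : Set G) := inf_le_right
  -- the centraliser of an involution in the Sylow subgroup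
  have hcent : ∀ e g : G, e ∈ N2 → g ∈ N2 → A4El e g →
      ∃ w : G, orderOf w = b ∧ Q0 ⊓ centralizer ({e} : Set G) = zpowers w := by
    intro e g he hg h4
    obtain ⟨w, hw, hwb, hew⟩ := h4.dvd_fix (hN2Q he) (hN2Q hg) hQodd hb.prime
      (by
        obtain ⟨x, hx, hxb⟩ := SzSquare.exists_order_mem hQp hQ1
        exact hxb ▸ Q0.orderOf_dvd_natCard hx)
    refine ⟨w, hwb, (eq_of_le_of_card_ge (zpowers_le.2 (mem_inf.2 ⟨hw, mem_centralizer_singleton_iff.2 hew.symm⟩)) ?_).symm⟩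
    rw [Nat.card_zpowers, hwb]
    refine card_le_of_no_rankTwo (hQp.to_le inf_le_left) (fun x hx => hexp x hx.1) ?_
    rintro ⟨E, hE, hE2, hEc, hE3⟩
    obtain ⟨v, hv, hva, hev⟩ := h4.dvd_fix (hN2P he) (hN2P hg) hPodd ha.prime hPa
    set V := P ⊓ centralizer ({e} : Set G)
    have hVp : IsPGroup a ↥V := (OP_isPGroup a T).to_le inf_le_left
    have hV : V ≠ ⊥ := fun e1 => by
      have : v ∈ V := ⟨hv, mem_centralizer_singleton_iff.2 hev.symm⟩
      rw [e1, mem_bot] at this
      rw [this, orderOf_one] at hva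
      exact ha.prime.ne_one hva.symm
    have hEV : E ≤ normalizer (V : Set G) := fun x hx => mem_normalizer_fintype fun u hu => by
      refine ⟨conj_mem_of_normalizer (normalizer_le_OP a T (le_normalizer (hQ0.le (hE hx).1))) hu.1,
        mem_centralizer_singleton_iff.2 ?_⟩
      have h1 : Commute x e := mem_centralizer_singleton_iff.1 (hE hx).2
      have h2 : Commute u e := mem_centralizer_singleton_iff.1 hu.2
      exact ((h1.mul_left h2).mul_left h1.inv_left).eq
    obtain ⟨x, hx, hxb, hne⟩ := SzSquare.exists_fixed_rankTwo hb.prime hE2 hEc hE3 hV hEV (fun hd => by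
      obtain ⟨k, hk⟩ := IsPGroup.iff_card.1 hVp
      exact hab ((Nat.prime_dvd_prime_iff_eq hb.prime ha.prime).1 (hb.prime.dvd_of_dvd_pow (hk ▸ hd))).symm)
    obtain ⟨u, hu, hua⟩ := SzSquare.exists_order_mem (hVp.to_le inf_le_left) hne
    exact no_tri hB ha hb hab (.inl rfl) hua hxb h4.orderOf_eq (mem_centralizer_singleton_iff.1 hu.2)
      (mem_centralizer_singleton_iff.1 hu.1.2) (mem_centralizer_singleton_iff.1 (hE hx).2)
  -- the centre
  set Z := zc Q0 with hZdef
  haveI : IsMulCommutative ↥Z := SzSquare.zc_isMulCommutative Q0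
  have hZ1 : Z ≠ ⊥ := SzSquare.zc_ne_bot hQp hQ1
  have hZQ : Z ≤ Q0 := SzSquare.zc_le Q0
  have hN2Z : N2 ≤ normalizer (Z : Set G) := hN2Q.trans (SzSquare.normalizer_le_zc Q0)
  have hZp : IsPGroup b ↥Z := hQp.to_le hZQ
  have hZodd : Odd (Nat.card ↥Z) := hQodd.of_dvd_nat (Subgroup.card_dvd_of_le hZQ)
  obtain ⟨i, hi⟩ := IsPGroup.iff_card.1 hZp
  have hi3 : i ≤ 3 := by
    obtain ⟨e, g, -, -, h4⟩ := S.exists_a4_le (N := ⊤) inferInstance (by
      haveI := S.ntriv
      exact top_ne_bot)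
    obtain ⟨e', g', he, hg, h4', -, -⟩ := h4.lift hB (φ := φ) (N := N2) (by rw [hcov2]; trivial)
      (by rw [hcov2]; trivial)
    obtain ⟨w, hw, hQw⟩ := hcent e' g' he hg h4'
    have hA := (h4'.sub (hN2Z he) (hN2Z hg)).card_le (conjW Z) hZodd (S := ⊤) (mem_pres_top _) (mem_pres_top _)
    rw [Subgroup.card_top, top_inf_eq, hi] at hA
    have hfix : Nat.card ↥(fixd (conjW Z ⟨e', hN2Z he⟩)) ≤ b := by
      rw [← hw, ← Nat.card_zpowers, ← hQw]
      refine Nat.card_le_card_of_injective (fun x => ⟨((x : ↥Z) : G), hZQ (x : ↥Z).2,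
        mem_centralizer_singleton_iff.2 ((mem_fixd_conjW (hN2Z he)).1 x.2).symm⟩) fun x y h => ?_
      exact Subtype.ext (Subtype.ext (Subtype.ext_iff.1 h :))
    exact (Nat.pow_le_pow_iff_right hb.prime.one_lt).1 (hA.trans (Nat.pow_le_pow_left hfix 3))
  -- an element of order `c` centralises the centre
  obtain ⟨y0, hy0, hy0'⟩ := hy
  obtain ⟨y, hyN, hyi, hyo⟩ := exists_lift φ hB (N := N2) (q := y0) (by rw [hcov2]; trivial)
  rw [hy0] at hyo
  have hyZ : ∀ z ∈ Z, y * z = z * y := by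
    by_contra hne
    set ay := conjW Z ⟨y, hN2Z hyN⟩ with hay
    have hayc : ay ^ c = 1 := by
      rw [hay, ← map_pow, show (⟨y, hN2Z hyN⟩ : ↥(normalizer (Z : Set G))) ^ c = 1 from
        Subtype.ext (by simp [← hyo, pow_orderOf_eq_one]), map_one]
    have hay1 : fixd ay ≠ ⊤ := fun e => hne fun z hz => by
      have h : (⟨z, hz⟩ : ↥Z) ∈ fixd ay := by rw [e]; trivial
      exact (mem_fixd_conjW (hN2Z hyN)).1 h
    obtain ⟨j, hj⟩ := IsPGroup.iff_card.1 (hZp.to_subgroup (fixd ay))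
    have hji : j < i := by
      by_contra hle
      exact hay1 (eq_top_of_le_card _ (by rw [hi, hj]; exact Nat.pow_le_pow_right hb.prime.pos (by omega)))
    have hmod := card_modEq_fixd (W := ↥Z) hayc
    rw [hi, hj] at hmod
    obtain ⟨rfl, rfl, hc11⟩ := big_pow_fact b (big_list b hb) c (big_list c hc) hbc i (by omega) j hji hmod
    rw [pow_zero] at hj
    have hfpf : fixd ay = ⊥ := Subgroup.card_eq_one.1 hj
    rcases hy0' with h | ⟨e, g, h4, hye, hyg⟩ | ⟨s, hs, hsy⟩
    · exact hc11 h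
    · have hcv : ∀ d : Q, y0 * d = d * y0 → d ∈ (N2 ⊓ centralizer ({y} : Set G)).map φ := fun d hd =>
        cent_covers φ hyN hc.prime hyo hcK (by rw [hcov2]; trivial) (by rw [hyi]; exact hd.symm)
      obtain ⟨e', g', he, hg, h4', -, -⟩ := h4.lift hB (φ := φ) (hcv e hye) (hcv g hyg)
      obtain ⟨w, hw, hQw⟩ := hcent e' g' he.1 hg.1 h4'
      have hwf := (h4'.sub (hN2Z he.1) (hN2Z hg.1)).fix_ne_bot (conjW Z) hZodd (S := ⊤) (mem_pres_top _)
        (mem_pres_top _) (fun e1 => by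
          have := congrArg (fun K : Subgroup ↥Z => Nat.card K) e1
          simp only [Subgroup.card_top, Subgroup.card_bot, hi] at this
          exact absurd this (Nat.one_lt_pow (by norm_num) hb.prime.one_lt).ne')
      rw [top_inf_eq] at hwf
      obtain ⟨v, hv, hv1⟩ := (bot_or_exists_ne_one _).resolve_left hwf
      have hvw : (v : G) ∈ zpowers w := hQw ▸ ⟨hZQ v.2,
        mem_centralizer_singleton_iff.2 ((mem_fixd_conjW (hN2Z he.1)).1 hv).symm⟩
      have hyn : y ∈ normalizer (zpowers w : Set G) := by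
        rw [← hQw]
        refine mem_normalizer_fintype fun u hu => ⟨conj_mem_of_normalizer (hN2Q hyN) hu.1, ?_⟩
        have hye' : Commute e' y := mem_centralizer_singleton_iff.1 he.2
        have hu2 : Commute u e' := mem_centralizer_singleton_iff.1 hu.2
        exact mem_centralizer_singleton_iff.2 (((hye'.symm.mul_left hu2).mul_left hye'.symm.inv_left).eq)
      obtain ⟨l, hl⟩ := mem_zpowers_iff.1 hvw
      have hyv : y * (v : G) = v * y := by
        rw [← hl]; exact ((show Commute y w from cent_cyclic hb hc hbc hw hyo hyn).zpow_right l).eq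
      refine hv1 ((Subgroup.eq_bot_iff_forall _).1 hfpf v ?_)
      exact (mem_fixd_conjW (hN2Z hyN)).2 hyv
    · have hsy' : s * φ y * s⁻¹ = φ y ^ (c - 1) := by
        rw [hyi, hsy, inv_eq_of_mul_eq_one_right (a := y0) (b := y0 ^ (c - 1))]
        rw [← pow_succ', Nat.sub_add_cancel hc.prime.one_le, ← hy0, pow_orderOf_eq_one]
      obtain ⟨g, hg, hgi, hgy⟩ := norm_covers φ hyN hc.prime hyo hcK (d := s) (by rw [hcov2]; trivial) hsy'
      obtain ⟨l, hl1, hl2⟩ := exact_pow φ hB g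
      set g' := g ^ l
      have hg2 : g' ^ 2 = 1 := by
        rw [← hs, ← hgi, ← hl1, pow_orderOf_eq_one]
      have hy1 : φ y ≠ 1 := fun e => hc.prime.ne_one (by rw [← hy0, ← hyi, e, orderOf_one])
      have hconj : g' * y * g'⁻¹ = y ^ (c - 1) := by
        have hit : ∀ n : ℕ, g ^ n * y * (g ^ n)⁻¹ = y ^ ((c - 1) ^ n) := fun n => by
          induction n with
          | zero => simp
          | succ n ih =>
            rw [pow_succ' g, mul_inv_rev, show g * g ^ n * y * ((g ^ n)⁻¹ * g⁻¹) = g * (g ^ n * y * (g ^ n)⁻¹) * g⁻¹ by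
              group, ih, ← conj_pow, hgy, ← pow_mul, ← pow_succ']
        have h1 : g' * y * g'⁻¹ = y ^ ((c - 1) ^ l) := hit l
        have h2 : φ y ^ ((c - 1) ^ l) = φ y ^ (c - 1) := by
          rw [← map_pow, ← h1, map_mul, map_mul, map_inv, hl2, hgi, hsy']
        rw [h1, pow_eq_pow_iff_modEq, hyo]
        rwa [pow_eq_pow_iff_modEq, hyi, hy0] at h2
      have hF : Frob (⟨y, hN2Z hyN⟩ : ↥(normalizer (Z : Set G))) ⟨g', hN2Z (pow_mem hg l)⟩ c 2 (c - 1) := by
        refine ⟨hc.prime, by norm_num, by rw [Subgroup.orderOf_mk, hyo], Subtype.ext (by simpa using hg2),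
          Subtype.ext (by simpa using hconj), fun i hi j hj hij e => ?_⟩
        have e' : y ^ ((c - 1) ^ i) = y ^ ((c - 1) ^ j) := congrArg Subtype.val e
        rw [pow_eq_pow_iff_modEq, hyo] at e'
        rcases hc with rfl | rfl | rfl <;> interval_cases i <;> interval_cases j <;>
          first
            | exact hij rfl
            | exact absurd e' (by decide)
      have hne1 : conjW Z ⟨y, hN2Z hyN⟩ ≠ 1 := fun e => hay1 (eq_top_iff.2 fun v _ => by
        show ay v = v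
        rw [hay, e]; rfl)
      have hhalf := (hF.frobAut (conjW Z) hne1).half (S := ⊤) (by rw [Subgroup.card_top]; exact hZodd)
        (by
          rw [Subgroup.card_top, hi]
          exact fun hd => hbc ((Nat.prime_dvd_prime_iff_eq hc.prime hb.prime).1 (hc.prime.dvd_of_dvd_pow hd)).symm)
        (mem_pres_top _) (mem_pres_top _) (by rw [top_inf_eq]; exact hfpf)
      obtain ⟨k, hk⟩ := IsPGroup.iff_card.1
        (hZp.to_subgroup ((⊤ : Subgroup ↥Z) ⊓ fixd (conjW Z ⟨g', hN2Z (pow_mem hg l)⟩)))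
      rw [Subgroup.card_top, hi, hk] at hhalf
      exact sq_ne_cube hb.prime.one_lt hhalf
  -- an `A₄` centralising the centre
  set M0 := N2 ⊓ centralizer (Z : Set G) with hM0
  haveI hM0n : (M0.map φ).Normal := ⟨by
    rintro _ ⟨m, hm, rfl⟩ d
    obtain ⟨n, hn, rfl⟩ := show d ∈ N2.map φ by rw [hcov2]; trivial
    refine ⟨n * m * n⁻¹, ⟨N2.mul_mem (N2.mul_mem hn hm.1) (N2.inv_mem hn), mem_centralizer_iff.2 fun z hz => ?_⟩,
      by rw [map_mul, map_mul, map_inv]⟩
    have h1 : Commute (n⁻¹ * z * n) m :=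
      mem_centralizer_iff.1 hm.2 _ (Grp.mem_conj_normalizer' (hN2Z hn) hz)
    calc z * (n * m * n⁻¹) = n * (n⁻¹ * z * n * m) * n⁻¹ := by group
      _ = n * (m * (n⁻¹ * z * n)) * n⁻¹ := by rw [h1.eq]
      _ = n * m * n⁻¹ * z := by group⟩
  obtain ⟨e, g, he, hg, h4⟩ := S.exists_a4_le hM0n (fun e1 => hc.prime.ne_one (by
    have : y0 ∈ M0.map φ := ⟨y, ⟨hyN, mem_centralizer_iff.2 fun z hz => (hyZ z hz).symm⟩, hyi⟩
    rw [e1, mem_bot] at this
    rw [← hy0, this, orderOf_one]))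
  obtain ⟨e', g', he', hg', h4', hei, hgi⟩ := h4.lift hB he hg
  set e2 := g' * e' * g'⁻¹ with he2
  set e3 := g' * e2 * g'⁻¹ with he3
  have he2M : e2 ∈ M0 := mul_mem (mul_mem hg' he') (inv_mem hg')
  have h3 : e3 = e' * e2 := h4'.third
  obtain ⟨w, hw, hQw⟩ := hcent e' g' he'.1 hg'.1 h4'
  have hZw : Z = zpowers w := eq_of_le_of_card_ge (fun z hz => hQw ▸ ⟨hZQ hz,
      mem_centralizer_singleton_iff.2 (mem_centralizer_iff.1 he'.2 z hz)⟩) (by
    rw [Nat.card_zpowers, hw, hi]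
    refine Nat.le_self_pow (fun e1 => hZ1 (Subgroup.card_eq_one.1 ?_)) b
    rw [hi, e1, pow_zero])
  have hQ0w : Q0 = zpowers w := by
    have h2sq : e2 * e2 = 1 := by
      rw [he2, show g' * e' * g'⁻¹ * (g' * e' * g'⁻¹) = g' * (e' * e') * g'⁻¹ by group, h4'.sq]; group
    set E := fourSub h4'.sq h2sq h4'.comm
    have he2ne : e2 ≠ 1 := fun e1 => h4'.ne (conj_eq_one_iff.1 e1)
    have hne12 : e' ≠ e2 := fun e1 => he2ne (by
      have := h3
      rw [← e1, h4'.sq, he3, conj_eq_one_iff] at this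
      exact this)
    have hEc : IsMulCommutative ↥E := by
      have hc' : Commute e' e2 := h4'.comm
      have mem : ∀ z, (z = 1 ∨ z = e' ∨ z = e2 ∨ z = e' * e2) → Commute e' z ∧ Commute e2 z := fun z hz => by
        rcases hz with rfl | rfl | rfl | rfl
        · exact ⟨Commute.one_right _, Commute.one_right _⟩
        · exact ⟨Commute.refl _, hc'.symm⟩
        · exact ⟨hc', Commute.refl _⟩
        · exact ⟨(Commute.refl _).mul_right hc', hc'.symm.mul_right (Commute.refl _)⟩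
      refine ⟨⟨?_⟩⟩
      rintro ⟨x, hx⟩ ⟨x', hx'⟩
      refine Subtype.ext (show x * x' = x' * x from ?_)
      rcases hx with rfl | rfl | rfl | rfl
      · rw [one_mul, mul_one]
      · exact (mem x' hx').1.eq
      · exact (mem x' hx').2.eq
      · exact ((mem x' hx').1.mul_left (mem x' hx').2).eq
    have hEsq : ∀ x ∈ E, x * x = 1 := by
      rintro x (rfl | rfl | rfl | rfl)
      · rw [one_mul]
      · exact h4'.sq
      · exact h2sq
      · rw [← h3, he3, show g' * e2 * g'⁻¹ * (g' * e2 * g'⁻¹) = g' * (e2 * e2) * g'⁻¹ by group, h2sq]; group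
    have hEnc : ¬ IsCyclic ↥E := fun hcy => by
      obtain ⟨⟨x, hx⟩, hgen⟩ := hcy.exists_generator
      have key : ∀ u ∈ E, u = 1 ∨ u = x := fun u hu => by
        obtain ⟨n, hn⟩ := mem_zpowers_iff.1 (hgen ⟨u, hu⟩)
        have hn' : x ^ n = u := congrArg Subtype.val hn
        have hx2 : x ^ (2 : ℤ) = 1 := by rw [zpow_two, hEsq x hx]
        rw [← Int.emod_add_mul_ediv n 2, zpow_add, zpow_mul, hx2, one_zpow, mul_one] at hn'
        rcases Int.emod_two_eq_zero_or_one n with h | h <;> rw [h] at hn'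
        · exact .inl (by simpa using hn'.symm)
        · exact .inr (by simpa using hn'.symm)
      exact hne12 ((key e' (.inr (.inl rfl))).resolve_left h4'.ne ▸ ((key e2 (.inr (.inr (.inl rfl)))).resolve_left he2ne).symm)
    have hE4 : Nat.card E ∣ 2 ^ 2 := by
      haveI : Fact (Nat.Prime 2) := ⟨Nat.prime_two⟩
      obtain ⟨n, hn⟩ := IsPGroup.iff_card.1 (show IsPGroup 2 ↥E from
        fun x => ⟨1, Subtype.ext (by simpa [pow_two] using hEsq x x.2)⟩)
      have hle : Nat.card E ≤ 4 := by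
        refine le_trans (Nat.card_le_card_of_surjective
          (fun k : Fin 4 => (⟨![1, e', e2, e' * e2] k, by
            fin_cases k
            · exact .inl rfl
            · exact .inr (.inl rfl)
            · exact .inr (.inr (.inl rfl))
            · exact .inr (.inr (.inr rfl))⟩ : ↥E)) ?_) (by rw [Nat.card_fin])
        rintro ⟨x, rfl | rfl | rfl | rfl⟩
        exacts [⟨0, rfl⟩, ⟨1, rfl⟩, ⟨2, rfl⟩, ⟨3, rfl⟩]
      rw [hn] at hle ⊢
      refine pow_dvd_pow 2 ?_
      exact (Nat.pow_le_pow_iff_right (by norm_num : 1 < 2)).1 hle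
    have hEN : E ≤ normalizer (Q0 : Set G) := by
      rintro x (rfl | rfl | rfl | rfl)
      exacts [one_mem _, hN2Q he'.1, hN2Q he2M.1, mul_mem (hN2Q he'.1) (hN2Q he2M.1)]
    have hgen := Grp.generated_by_centralizers E Q0 hEnc hEN
      (Nat.Coprime.of_dvd_left hE4 (hQodd.coprime_two_left.pow_left 2))
    refine le_antisymm ?_ (hZw ▸ hZQ)
    nth_rw 1 [← hgen]
    refine iSup₂_le fun x hx => ?_
    -- every nontrivial element of the four group is a conjugate of `e'`
    have conjle : ∀ n ∈ M0, Q0 ⊓ centralizer ({n * e' * n⁻¹} : Set G) ≤ zpowers w := fun n hn u hu => by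
      have h1 : n⁻¹ * u * n ∈ Q0 ⊓ centralizer ({e'} : Set G) := by
        refine ⟨Grp.mem_conj_normalizer' (hN2Q hn.1) hu.1, mem_centralizer_singleton_iff.2 ?_⟩
        calc n⁻¹ * u * n * e' = n⁻¹ * (u * (n * e' * n⁻¹)) * n := by group
          _ = n⁻¹ * (n * e' * n⁻¹ * u) * n := by rw [mem_centralizer_singleton_iff.1 hu.2]
          _ = e' * (n⁻¹ * u * n) := by group
      rw [hQw, ← hZw] at h1
      rw [← hZw]
      have := conj_mem_of_normalizer (hN2Z hn.1) h1
      rwa [show n * (n⁻¹ * u * n) * n⁻¹ = u by group] at this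
    rcases hx.1 with rfl | rfl | rfl | rfl
    · exact absurd rfl hx.2
    · exact hQw.le
    · exact conjle g' hg'
    · rw [← h3, he3, he2, show g' * (g' * e' * g'⁻¹) * g'⁻¹ = g' * g' * e' * (g' * g')⁻¹ by group]
      exact conjle _ (mul_mem hg' hg')
  have hw0 : w ∈ Q0 := hQ0w ▸ mem_zpowers w
  have hwT : w ∈ T := hQ0.le hw0
  -- no element of order `a` in the centraliser of `w`
  have hCa : ∀ x ∈ T, orderOf x = a → x * w = w * x → False := by
    intro x hx hxa hxw
    set X := T ⊓ centralizer ({w} : Set G)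
    haveI : Group.IsSolvable ↥X := Grp.isSolvable_of_le inf_le_left inferInstance
    have hwn : ∀ m ∈ M0, m ∈ normalizer (X : Set G) := fun m hm => mem_normalizer_fintype fun u hu => by
      refine ⟨conj_mem_of_normalizer (hN hm.1.1) hu.1, mem_centralizer_singleton_iff.2 ?_⟩
      have h1 : Commute m w := (mem_centralizer_iff.1 hm.2 w (hZw ▸ mem_zpowers w)).symm
      have h2 : Commute u w := mem_centralizer_singleton_iff.1 hu.2
      exact ((h1.mul_left h2).mul_left h1.inv_left).eq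
    obtain ⟨u, hu, hua, heu⟩ := h4'.dvd_fix (hwn _ he') (hwn _ hg')
      (hTodd.of_dvd_nat (Subgroup.card_dvd_of_le inf_le_left)) ha.prime
      (hxa ▸ X.orderOf_dvd_natCard ⟨hx, mem_centralizer_singleton_iff.2 hxw⟩)
    exact no_tri hB ha hb hab (.inl rfl) hua hw h4'.orderOf_eq (mem_centralizer_singleton_iff.1 hu.2) heu.symm
      (mem_centralizer_iff.1 he'.2 w (hZw ▸ mem_zpowers w))
  refine ⟨w, N2 ⊓ centralizer ({w} : Set G), inf_le_left.trans inf_le_left, hwT, hw,
    fun m hm => mem_centralizer_singleton_iff.1 hm.2, hP, fun g hg hd => ?_, ?_, fun d hd => ?_, ?_⟩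
  · obtain ⟨l, hl⟩ := SzSquare.exists_pow_orderOf (orderOf_pos g) hd
    obtain ⟨k, -, hk⟩ := hT.conj (zpowers (g ^ l)) (zpowers_le.2 (pow_mem hg l)) (piSub_zpowers fun p hp hpd => by
      rw [hl] at hpd
      rcases (Nat.Prime.dvd_mul hp).1 hpd with e | e
      · simp [(Nat.prime_dvd_prime_iff_eq hp ha.prime).1 e]
      · simp [(Nat.prime_dvd_prime_iff_eq hp hb.prime).1 e])
    obtain ⟨u, v, hua, hvb, huv⟩ := SzSquare.exists_commuting (G := ↥T) (g := ⟨_, hk _ (mem_zpowers _)⟩)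
      (a := a) (b := b) (by rw [Subgroup.orderOf_mk, SzSquare.orderOf_conj, hl])
    rw [← Subgroup.orderOf_coe] at hua hvb
    obtain ⟨t, ht, htv⟩ := hQ0.exists_conj_mem v.2 hb.prime hvb (by simp)
    have hz : zpowers (t * (v : G) * t⁻¹) = zpowers w := eq_of_le_of_card_ge
      (zpowers_le.2 (hQ0w ▸ htv)) (by rw [Nat.card_zpowers, Nat.card_zpowers, SzSquare.orderOf_conj, hvb, hw])
    obtain ⟨n, hn⟩ := mem_zpowers_iff.1 (hz ▸ mem_zpowers w : w ∈ zpowers (t * (v : G) * t⁻¹))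
    refine hCa (t * (u : G) * t⁻¹) (mul_mem (mul_mem ht u.2) (inv_mem ht))
      (by rw [SzSquare.orderOf_conj, hua]) ?_
    rw [← hn]
    exact ((show Commute _ _ from SzSquare.conj_commute t (congrArg Subtype.val huv)).zpow_right n).eq
  · rw [_root_.commutator_def, commutator_le]
    rintro x - y -
    obtain ⟨n1, hn1, rfl⟩ := show x ∈ N2.map φ by rw [hcov2]; trivial
    obtain ⟨n2, hn2, rfl⟩ := show y ∈ N2.map φ by rw [hcov2]; trivial
    refine ⟨n1 * n2 * n1⁻¹ * n2⁻¹, ⟨N2.mul_mem (N2.mul_mem (N2.mul_mem hn1 hn2) (N2.inv_mem hn1)) (N2.inv_mem hn2), ?_⟩, by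
      simp [commutatorElement_def]⟩
    have hnz : ∀ {n}, n ∈ N2 → n ∈ normalizer (zpowers w : Set G) := fun hn => hQ0w ▸ hN2Q hn
    refine centralizer_le (by simp [mem_zpowers]) (SzSquare.conj_comm_of_cyclic inferInstance (hnz hn1) (hnz hn2))
  · obtain ⟨x, hx, hxi, hxo⟩ := exists_lift φ hB (N := N2) (q := d) (by rw [hcov2]; trivial)
    exact ⟨x, ⟨hx, mem_centralizer_singleton_iff.2
      (cent_cyclic hb hc hbc hw (hxo.trans hd) (hQ0w ▸ hN2Q hx))⟩, hxi⟩
  · intro x hx hx1 hbigx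
    have hxT : x ∈ T → orderOf x = b ∧ x ∈ zpowers w := fun hxT => by
      rcases big_three ha hb hc hab hac hbc hbigx with e | e | e
      · exact (hCa x hxT e (mem_centralizer_singleton_iff.1 hx.2)).elim
      · exact ⟨e, hQ0w ▸ hQ0.mem_of_normalizer hxT hx.1.2 hb.prime e (by simp)⟩
      · exact absurd (e ▸ φ.ker.orderOf_dvd_natCard (MonoidHom.mem_ker.2 hx1)) hcK
    refine hxT (hT.mem_of_normalizer (MonoidHom.mem_ker.2 hx1) (hN hx.1.1) hbigx.prime rfl ?_)
    rcases big_three ha hb hc hab hac hbc hbigx with e | e | e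
    · simp [e]
    · simp [e]
    · exact absurd (e ▸ φ.ker.orderOf_dvd_natCard (MonoidHom.mem_ker.2 hx1)) hcK

theorem Setup.two [Finite G] (S : Setup φ) [Group.IsSolvable φ.ker] {a b c : ℕ} (ha : Big a) (hb : Big b)
    (hc : Big c) (hab : a ≠ b) (hac : a ≠ c) (hbc : b ≠ c) (hcK : ¬ c ∣ Nat.card φ.ker) {T : Subgroup G}
    (hT : IsHall {a, b} T φ.ker) {N : Subgroup G} (hTN : T ≤ N) (hN : N ≤ normalizer (T : Set G))
    (hcov : N.map φ = ⊤) (hy : YHyp Q c) (da : a ∣ Nat.card φ.ker) (db : b ∣ Nat.card φ.ker) :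
    (∃ q M, TwoOut φ a b c T N q M) ∨ ∃ q M, TwoOut φ b a c T N q M := by
  haveI := isSolvable_le_ker φ hT.le
  have hT1 : T ≠ ⊥ := fun e => by
    have h := hT.dvd_card ha.prime (by simp) da
    rw [e, Subgroup.card_bot] at h
    exact ha.prime.ne_one (Nat.dvd_one.1 h)
  obtain ⟨p, hp, hne⟩ := exists_OP_ne_bot hT1
  haveI := Fact.mk hp
  have hpm := hT.pi p hp (OP_dvd_card hne)
  rw [Finset.mem_insert, Finset.mem_singleton] at hpm
  rcases hpm with rfl | rfl
  · exact .inl (S.two_aux ha hb hc hab hac hbc hcK hT hTN hN hcov hy db hne)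
  · exact .inr (S.two_aux hb ha hc hab.symm hbc hac hcK (Finset.pair_comm a p ▸ hT) hTN hN hcov hy da hne)

/-- Two large primes in the radical and an `A₄` commuting with an element of the third order. -/
theorem Setup.two_false [Finite G] (S : Setup φ) [Group.IsSolvable φ.ker] {a b c : ℕ} (ha : Big a) (hb : Big b)
    (hc : Big c) (hab : a ≠ b) (hac : a ≠ c) (hbc : b ≠ c) (hcK : ¬ c ∣ Nat.card φ.ker)
    (da : a ∣ Nat.card φ.ker) (db : b ∣ Nat.card φ.ker) {y e g : Q} (hy : orderOf y = c) (h4 : A4El e g)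
    (hye : y * e = e * y) (hyg : y * g = g * y) : False := by
  obtain ⟨T, hT⟩ := exists_hallIn {a, b} φ.ker
  have key : ∀ {a' b' : ℕ}, Big b' → b' ≠ c → (∃ q M, TwoOut φ a' b' c T (normalizer (T : Set G)) q M) → False := by
    rintro a' b' hb' hne ⟨q, M, h⟩
    obtain ⟨x, hx, -, hxo⟩ := exists_lift φ S.bound (N := M) (q := y * e)
      (mul_mem (h.ord_c y hy) (h.comm_le h4.mem_commutator))
    rw [(show Commute y e from hye).orderOf_mul_eq_mul_orderOf_of_coprime (by
      rw [hy, h4.orderOf_eq]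
      exact (Nat.coprime_primes hc.prime Nat.prime_two).2 (hc.ne_small (.inl rfl))), hy, h4.orderOf_eq] at hxo
    haveI := Fact.mk hb'.prime
    refine no_fix_false S.bound h.oq (h.cent x hx) ?_ ?_
    · rw [hxo]
      exact Nat.Coprime.mul_left ((Nat.coprime_primes hc.prime hb'.prime).2 hne.symm)
        ((Nat.coprime_primes Nat.prime_two hb'.prime).2 (hb'.ne_small (.inl rfl)).symm)
    · rw [hxo, mul_right_comm]
      exact not_ok_two_big hc hb' hne.symm (.inl rfl)
  rcases S.two ha hb hc hab hac hbc hcK hT le_normalizer le_rfl (hT.covers S.surj)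
    ⟨y, hy, .inr (.inl ⟨e, g, h4, hye, hyg⟩)⟩ da db with h | h
  · exact key hb hbc h
  · exact key ha hac h

end Cfsg.Agent.Recog.JOneSquare
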