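import Cfsg.Agent.Lib.Recog.JOneSquare.Section
import Cfsg.Agent.Lib.Recog.JOneSquare.TwoBig

/-!
# No solvable kernel over `J₁ × J₁`
-/

set_option autoImplicit false
set_option linter.style.haveILetI false

open Subgroup Finset
open scoped IsMulCommutative

namespace Cfsg.Agent.Recog.JOneSquare

open SzSquare (zc fixd mem_fixd pres mem_pres_top OP)

universe u

theorem pres_fixd_comm {W : Type u} [CommGroup W] {a b : MulAut W} (h : a * b = b * a) : a ∈ pres (fixd b) := by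
  intro v
  rw [mem_fixd, mem_fixd]
  have e : b (a v) = a (b v) := (DFunLike.congr_fun h v).symm
  rw [e]
  exact a.injective.eq_iff

theorem perm_five {M : Type u} [CommMonoid M] (f : ℕ → M) : ∀ j < 5, j ≠ 0 →
    ∏ i ∈ range 5, f (i * j % 5) = ∏ i ∈ range 5, f i := by
  intro j hj hj0
  interval_cases j <;> simp [prod_range_succ] at * <;> ac_rfl

/-- Some element of two commuting operators of order five has fixed points. -/
theorem five_lines {W : Type u} [CommGroup W] [Finite W] {S : Subgroup W} (hS : S ≠ ⊥) (h5 : ¬ 5 ∣ Nat.card S)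
    {A B : MulAut W} (hA : A ^ 5 = 1) (hB : B ^ 5 = 1) (hAB : Commute A B) (hAS : A ∈ pres S) (hBS : B ∈ pres S) :
    S ⊓ fixd A ≠ ⊥ ∨ ∃ i : ℕ, S ⊓ fixd (A ^ i * B) ≠ ⊥ := by
  by_contra hcon
  push Not at hcon
  obtain ⟨hA0, hB0⟩ := hcon
  have norm0 : ∀ {C : MulAut W}, C ^ 5 = 1 → C ∈ pres S → S ⊓ fixd C = ⊥ → ∀ v ∈ S,
      ∏ j ∈ range 5, (C ^ j) v = 1 := fun hC hCS hf v hv => (Subgroup.eq_bot_iff_forall _).1 hf _
    ⟨Subgroup.prod_mem _ fun j _ => ((pow_mem hCS j) v).2 hv, SzSquare.norm_fixed hC v⟩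
  refine hS ((Subgroup.eq_bot_iff_forall _).2 fun v hv => ?_)
  have key : ∀ i, ∏ j ∈ range 5, (A ^ (i * j)) ((B ^ j) v) = 1 := fun i => by
    have := norm0 (C := A ^ i * B) (by
      rw [(hAB.pow_left i).mul_pow, ← pow_mul, mul_comm i 5, pow_mul, hA, one_pow, one_mul, hB])
      (mul_mem (pow_mem hAS i) hBS) (hB0 i) v hv
    refine Eq.trans (prod_congr rfl fun j _ => ?_) this
    rw [(hAB.pow_left i).mul_pow, ← pow_mul, MulAut.mul_apply]
  have h1 : ∏ i ∈ range 5, ∏ j ∈ range 5, (A ^ (i * j)) ((B ^ j) v) = 1 := prod_eq_one fun i _ => key i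
  rw [prod_comm, prod_range_succ', prod_eq_one fun j hj => ?_, one_mul] at h1
  swap
  · have hj' : j + 1 < 5 := by rw [mem_range] at hj; omega
    rw [← norm0 hA hAS hA0 ((B ^ (j + 1)) v) (((pow_mem hBS _) v).2 hv),
      ← perm_five (fun i => (A ^ i) ((B ^ (j + 1)) v)) (j + 1) hj' (by omega)]
    refine prod_congr rfl fun i _ => ?_
    rw [pow_eq_pow_mod (i * (j + 1)) hA]
  simp only [mul_zero, pow_zero, MulAut.one_apply, prod_const, card_range] at h1
  rcases (Nat.dvd_prime (by norm_num)).1 (orderOf_dvd_of_pow_eq_one h1) with e | e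
  · exact orderOf_eq_one_iff.1 e
  · exact absurd (e ▸ S.orderOf_dvd_natCard hv) h5

variable {G : Type u} [Group G] [Finite G] {Q : Type} [Group Q]

/-- An element of the quotient fixing a point of the kernel. -/
theorem fix_kill (hB : Bound G) {φ : G →* Q} (hφ : Function.Surjective φ) {V : Subgroup G} [hV : V.Normal]
    [IsMulCommutative ↥V] {p : ℕ} [hp : Fact p.Prime] (hVp : IsPGroup p ↥V) {ρ : Q →* MulAut ↥V}
    (hρ : ∀ g, ρ (φ g) = MulAut.conjNormal g) {z : Q} {n : ℕ} (hz : orderOf z = n) (hcop : n.Coprime p)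
    (hno : ¬ Ok (n * p)) {S : Subgroup ↥V} (hS : S ≠ ⊥) (hfix : ∀ v ∈ S, ρ z v = v) : False := by
  obtain ⟨v, hv, hvp⟩ := SzSquare.exists_order_mem (hVp.to_subgroup S) hS
  obtain ⟨g, -, rfl, hgo⟩ := exists_lift φ hB (N := ⊤) (q := z) (by rw [map_top_of_surjective φ hφ]; trivial)
  refine no_fix_false hB (x := g) (w := (v : G)) ((Subgroup.orderOf_coe v).trans hvp) ?_ (by rw [hgo, hz]; exact hcop)
    (by rw [hgo, hz]; exact hno)
  have h1 := congrArg Subtype.val (hρ g ▸ hfix v hv : (MulAut.conjNormal g) v = v)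
  rw [MulAut.conjNormal_apply] at h1
  exact mul_inv_eq_iff_eq_mul.1 h1

/-- Norms of an element of order `p` on a `p`-group in the kernel are trivial. -/
theorem norm_trivial (hB : Bound G) {φ : G →* Q} (hφ : Function.Surjective φ) {V : Subgroup G} [hV : V.Normal]
    [IsMulCommutative ↥V] {p : ℕ} [hp : Fact p.Prime] (hVp : IsPGroup p ↥V) (hVK : V ≤ φ.ker)
    {ρ : Q →* MulAut ↥V} (hρ : ∀ g, ρ (φ g) = MulAut.conjNormal g) {h : Q} (hh : orderOf h = p) (w : ↥V) :
    ∏ j ∈ range p, ((ρ h) ^ j) w = 1 := by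
  obtain ⟨g, -, hg, hgo⟩ := exists_lift φ hB (N := ⊤) (q := h) (by rw [map_top_of_surjective φ hφ]; trivial)
  rw [hh] at hgo
  have hn := SzSquare.mul_pow_norm g w p
  rw [← hgo, pow_orderOf_eq_one, mul_one, hgo] at hn
  have hmem : ((List.range p).map fun j => ((MulAut.conjNormal (g ^ j) w : ↥V) : G)).prod ∈ V :=
    list_prod_mem fun z hz => by
      obtain ⟨j, -, rfl⟩ := List.mem_map.1 hz
      exact (MulAut.conjNormal (g ^ j) w).2
  have h2 : ((w : G) * g) ^ p = 1 := hB.pow_prime hp.out (k := 2) (by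
    rw [pow_two, pow_mul, hn]
    exact hB.p_group_pow hVp hmem)
  rw [h2] at hn
  rw [← List.toFinset_range, List.prod_toFinset _ List.nodup_range]
  refine Subtype.ext ?_
  rw [Subgroup.val_list_prod, List.map_map, Subgroup.coe_one, hn]
  refine congrArg List.prod (List.map_congr_left fun j _ => ?_)
  show (((ρ h) ^ j) w : G) = _
  rw [← hg, hρ, ← map_pow]

theorem Prod.orderOf_pair {A B : Type} [Group A] [Group B] (a : A) (b : B) :
    orderOf (a, b) = Nat.lcm (orderOf a) (orderOf b) := Prod.orderOf_mk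

theorem commute_sides (a b : J) : Commute ((a, 1) : J × J) (1, b) := Prod.ext (by simp) (by simp)

theorem j_center {g : J} (h : ∀ z : J, z * g = g * z) : g = 1 := by
  haveI := jSimple
  rcases (inferInstance : (center J).Normal).eq_bot_or_eq_top with e | e
  · have := mem_center_iff.2 h
    rwa [e, mem_bot] at this
  · exact absurd ⟨⟨fun a b => mem_center_iff.1 (e ▸ mem_top b) a⟩⟩ jNotComm

/-- Two commuting copies of `J₁`. -/
structure Sides (i1 i2 : J →* Q) : Prop where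
  inj1 : Function.Injective i1
  inj2 : Function.Injective i2
  comm : ∀ a b, Commute (i1 a) (i2 b)
  ord : ∀ a b, orderOf (i1 a * i2 b) = Nat.lcm (orderOf a) (orderOf b)

theorem Sides.symm {i1 i2 : J →* Q} (h : Sides i1 i2) : Sides i2 i1 :=
  ⟨h.inj2, h.inj1, fun a b => (h.comm b a).symm, fun a b => by rw [(h.comm b a).symm.eq, h.ord, Nat.lcm_comm]⟩

theorem sides_prod : Sides (MonoidHom.inl J J) (MonoidHom.inr J J) where
  inj1 := fun _ _ h => congrArg Prod.fst h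
  inj2 := fun _ _ h => congrArg Prod.snd h
  comm := commute_sides
  ord := fun a b => by
    rw [MonoidHom.inl_apply, MonoidHom.inr_apply, Prod.mk_mul_mk, mul_one, one_mul, Prod.orderOf_pair]

theorem lcm_facts : Nat.lcm 3 10 = 30 ∧ Nat.lcm 3 2 = 6 ∧ Nat.lcm 7 11 = 7 * 11 := by decide

theorem hcard_of {V : Subgroup G} {p : ℕ} [hp : Fact p.Prime] (hVp : IsPGroup p ↥V) {c : ℕ} (hc : c.Prime)
    (hne : c ≠ p) (S : Subgroup ↥V) : ¬ c ∣ Nat.card S := fun hd => by
  obtain ⟨i, hi⟩ := IsPGroup.iff_card.1 (hVp.to_subgroup S)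
  exact hne ((Nat.prime_dvd_prime_iff_eq hc hp.out).1 (hc.dvd_of_dvd_pow (hi ▸ hd)))

section Big

variable {V : Subgroup G} [V.Normal] [IsMulCommutative ↥V] {p : ℕ} [hp : Fact p.Prime] {φ : G →* Q}
  {ρ : Q →* MulAut ↥V}

omit [V.Normal] in
theorem odd_of_big (hVp : IsPGroup p ↥V) (hbp : Big p) : Odd (Nat.card ↥V) := by
  rw [← Nat.not_even_iff_odd, even_iff_two_dvd]
  obtain ⟨i, hi⟩ := IsPGroup.iff_card.1 hVp
  rw [hi]
  exact fun hd => hbp.ne_small (.inl rfl) ((Nat.prime_dvd_prime_iff_eq Nat.prime_two hp.out).1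
    (Nat.prime_two.dvd_of_dvd_pow hd)).symm

theorem pure_fpf (hB : Bound G) (hφ : Function.Surjective φ) (hVp : IsPGroup p ↥V) (hbp : Big p)
    (hρ : ∀ g, ρ (φ g) = MulAut.conjNormal g) {i j : J →* Q} (hs : Sides i j) {b : ℕ} (hb : Big b) (hbp' : b ≠ p)
    {y : J} (hy : orderOf y = b) : fixd (ρ (i y)) = ⊥ := by
  by_contra hne
  obtain ⟨e0, g0, h4⟩ := jA4
  have hf := (h4.map j hs.inj2).fix_ne_bot ρ (odd_of_big hVp hbp) (S := fixd (ρ (i y)))
    (pres_fixd_comm (by rw [← map_mul, ← map_mul, (hs.comm y e0).eq]))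
    (pres_fixd_comm (by rw [← map_mul, ← map_mul, (hs.comm y g0).eq])) hne
  refine fix_kill hB hφ hVp hρ (n := b * 2) (z := i y * j e0) ?_ ?_ ?_ hf fun v hv => ?_
  · rw [hs.ord, hy, h4.orderOf_eq]
    exact Nat.Coprime.lcm_eq_mul ((Nat.coprime_primes hb.prime Nat.prime_two).2 (hb.ne_small (.inl rfl)))
  · exact Nat.Coprime.mul_left ((Nat.coprime_primes hb.prime hp.out).2 hbp')
      ((Nat.coprime_primes Nat.prime_two hp.out).2 (hbp.ne_small (.inl rfl)).symm)
  · rw [mul_right_comm]; exact not_ok_two_big hb hbp hbp' (.inl rfl)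
  · rw [map_mul, MulAut.mul_apply, show ρ (j e0) v = v from hv.2, show ρ (i y) v = v from hv.1]

/-- The fixed points of an element of order three of one side. -/
theorem exists_three (hB : Bound G) (hφ : Function.Surjective φ) (hVp : IsPGroup p ↥V) (hV1 : V ≠ ⊥) (hbp : Big p)
    (hρ : ∀ g, ρ (φ g) = MulAut.conjNormal g) {i1 i2 : J →* Q} (hs : Sides i1 i2) :
    ∃ x : J, orderOf x = 3 ∧ fixd (ρ (i1 x)) ≠ ⊥ := by
  obtain ⟨b, hb, hbp', hdeg⟩ : ∃ b, Big b ∧ b ≠ p ∧ jDeg b = 6 := by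
    by_cases h7 : p = 7
    · exact ⟨19, .inr (.inr rfl), by omega, rfl⟩
    · exact ⟨7, .inl rfl, fun e => h7 e.symm, rfl⟩
  obtain ⟨y, h, k, hho, hF⟩ := jFrob hb
  rw [hdeg] at hho hF
  have hF3 := hF.sub (m := 3) (l := 2) rfl
  refine ⟨h ^ 2, by rw [orderOf_pow_of_dvd (by norm_num) (by rw [hho]; norm_num), hho], ?_⟩
  have hy : i1 y ≠ 1 := fun e => hb.prime.ne_one (by rw [← hF.oy, hs.inj1 (e.trans (map_one i1).symm), orderOf_one])
  have := (hF3.map i1 hy).fix ρ (hcard_of hVp hb.prime hbp' ⊤) (mem_pres_top _) (mem_pres_top _)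
    (by rw [top_inf_eq]; exact pure_fpf hB hφ hVp hbp hρ hs hb hbp' hF.oy) (by
      haveI := (Subgroup.nontrivial_iff_ne_bot V).2 hV1
      exact top_ne_bot)
  rwa [top_inf_eq] at this

theorem pres_three {i1 i2 : J →* Q} (hs : Sides i1 i2) (ρ : Q →* MulAut ↥V) (x z : J) :
    ρ (i2 z) ∈ pres (fixd (ρ (i1 x))) :=
  pres_fixd_comm (by rw [← map_mul, ← map_mul, (hs.comm x z).eq])

theorem module_not_eleven (hB : Bound G) (hφ : Function.Surjective φ) (hVp : IsPGroup p ↥V) (hV1 : V ≠ ⊥)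
    (hbp : Big p) (h11 : p ≠ 11) (hρ : ∀ g, ρ (φ g) = MulAut.conjNormal g) {i1 i2 : J →* Q} (hs : Sides i1 i2) :
    False := by
  obtain ⟨x, hx, hW1⟩ := exists_three hB hφ hVp hV1 hbp hρ hs
  obtain ⟨y', h', k', hho', hF'⟩ := jFrob (c := 11) (.inr (.inl rfl))
  rw [show jDeg 11 = 10 from rfl] at hho' hF'
  have hy'1 : i2 y' ≠ 1 := fun e => by
    have := hF'.oy
    rw [hs.inj2 (e.trans (map_one i2).symm), orderOf_one] at this
    omega
  have hf := (hF'.map i2 hy'1).fix ρ (hcard_of hVp (by norm_num) h11.symm (fixd (ρ (i1 x))))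
    (pres_three hs ρ x y') (pres_three hs ρ x h')
    (le_bot_iff.1 (inf_le_right.trans (pure_fpf hB hφ hVp hbp hρ hs.symm (.inr (.inl rfl)) h11.symm hF'.oy).le)) hW1
  refine fix_kill hB hφ hVp hρ (n := 30) (z := i1 x * i2 h') (by rw [hs.ord, hx, hho', lcm_facts.1]) ?_
    (not_ok_thirty hbp) hf fun v hv => by
      rw [map_mul, MulAut.mul_apply, show ρ (i2 h') v = v from hv.2, show ρ (i1 x) v = v from hv.1]
  rcases hbp with rfl | rfl | rfl <;> norm_num

/-- An involution in the complement of a subgroup of order eleven has fixed points. -/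
theorem inv_fix {i2 : J →* Q} {W1 : Subgroup ↥V} (hodd : Odd (Nat.card ↥V)) (hW1 : W1 ≠ ⊥)
    (hpres : ∀ z : J, ρ (i2 z) ∈ pres W1) {u : J} (hu : orderOf u = 2) : W1 ⊓ fixd (ρ (i2 u)) ≠ ⊥ := by
  haveI := jSimple
  have hu1 : u ≠ 1 := fun e => by rw [e, orderOf_one] at hu; omega
  have huu : u * u = 1 := by rw [← pow_two, ← hu, pow_orderOf_eq_one]
  set ρ2 : J →* MulAut ↥V := ρ.comp i2
  have hp2 : ∀ z, ρ2 z ∈ pres W1 := hpres
  show W1 ⊓ fixd (ρ2 u) ≠ ⊥
  intro hbot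
  have hinv : ∀ v ∈ W1, ρ2 u v = v⁻¹ := fun v hv =>
    inverts (hodd.of_dvd_nat (card_subgroup_dvd_card W1)) (by rw [← map_mul, huu, map_one]) (hp2 u) hbot hv
  set K : Subgroup J := ⨅ v : ↥W1, (MulAction.stabilizer (MulAut ↥V) (v : ↥V)).comap ρ2
  have memK : ∀ z, z ∈ K ↔ ∀ v ∈ W1, ρ2 z v = v := fun z => by
    simp [K, Subgroup.mem_iInf, MulAction.mem_stabilizer_iff, MulAut.smul_def]
  have cancel : ∀ (g : J) (v : ↥V), ρ2 g (ρ2 g⁻¹ v) = v := fun g v => by
    rw [← MulAut.mul_apply, ← map_mul, mul_inv_cancel, map_one]; rfl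
  haveI : K.Normal := ⟨fun z hz g => (memK _).2 fun v hv => by
    rw [map_mul, map_mul, MulAut.mul_apply, MulAut.mul_apply, (memK z).1 hz _ ((hp2 g⁻¹ v).2 hv), cancel]⟩
  have hcu : ∀ g, ∀ v ∈ W1, ρ2 (u * g * u⁻¹ * g⁻¹) v = v := fun g v hv => by
    have h1 : ρ2 g⁻¹ v ∈ W1 := (hp2 g⁻¹ v).2 hv
    rw [inv_eq_of_mul_eq_one_right huu, map_mul, map_mul, map_mul, MulAut.mul_apply, MulAut.mul_apply,
      MulAut.mul_apply, hinv _ h1, hinv _ ((hp2 g _).2 (inv_mem h1)), map_inv (ρ2 g), inv_inv, cancel]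
  have hKt : K = ⊤ := by
    refine ((inferInstance : K.Normal).eq_bot_or_eq_top).resolve_left fun e => hu1 (j_center fun g => ?_)
    have h2 : u * g * u⁻¹ * g⁻¹ ∈ K := (memK _).2 (hcu g)
    rw [e, mem_bot, mul_inv_eq_one, mul_inv_eq_iff_eq_mul] at h2
    exact h2.symm
  obtain ⟨v, hv, hv1⟩ := (bot_or_exists_ne_one W1).resolve_left hW1
  exact hv1 ((Subgroup.eq_bot_iff_forall _).1 hbot v ⟨hv, (memK u).1 (hKt ▸ mem_top u) v hv⟩)

theorem module_eleven (hB : Bound G) (hφ : Function.Surjective φ) (hVp : IsPGroup p ↥V) (hV1 : V ≠ ⊥)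
    (h11 : p = 11) (hρ : ∀ g, ρ (φ g) = MulAut.conjNormal g) {i1 i2 : J →* Q} (hs : Sides i1 i2) : False := by
  have hbp : Big p := .inr (.inl h11)
  obtain ⟨x, hx, hW1⟩ := exists_three hB hφ hVp hV1 hbp hρ hs
  obtain ⟨y', h', k', hho', hF'⟩ := jFrob (c := 11) (.inr (.inl rfl))
  rw [show jDeg 11 = 10 from rfl] at hho'
  set W1 := fixd (ρ (i1 x))
  set u := h' ^ 5
  set f2 := h' ^ 2
  have hu : orderOf u = 2 := by rw [orderOf_pow_of_dvd (by norm_num) (by rw [hho']; norm_num), hho']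
  have hf2 : orderOf f2 = 5 := by rw [orderOf_pow_of_dvd (by norm_num) (by rw [hho']; norm_num), hho']
  have hS := inv_fix (i2 := i2) (odd_of_big hVp hbp) hW1 (pres_three hs ρ x) hu
  obtain ⟨f1, hf1, hxf⟩ := jFive hx
  have hxu1 : Commute (i1 x) (i1 f1) := (show Commute x f1 from hxf).map i1
  have hu2 : Commute (i2 u) (i2 f2) := ((Commute.refl h').pow_pow 5 2).map i2
  have hA5 : i1 f1 ^ 5 = 1 := by rw [← map_pow, ← hf1, pow_orderOf_eq_one, map_one]
  have hB5 : i2 f2 ^ 5 = 1 := by rw [← map_pow, ← hf2, pow_orderOf_eq_one, map_one]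
  have p1 : ∀ z : Q, Commute z (i1 x) → Commute z (i2 u) → ρ z ∈ pres (W1 ⊓ fixd (ρ (i2 u))) :=
    fun z z1 z2 v => and_congr (pres_fixd_comm (by rw [← map_mul, ← map_mul, z1.eq]) v)
      (pres_fixd_comm (by rw [← map_mul, ← map_mul, z2.eq]) v)
  have hlines := five_lines hS (hcard_of hVp (by norm_num : Nat.Prime 5) (by omega) _) (A := ρ (i1 f1))
    (B := ρ (i2 f2)) (by rw [← map_pow, hA5, map_one]) (by rw [← map_pow, hB5, map_one])
    ((hs.comm f1 f2).map ρ) (p1 _ hxu1.symm (hs.comm f1 u)) (p1 _ (hs.comm x f2).symm hu2.symm)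
  have kill : ∀ z : Q, z ^ 5 = 1 → z ≠ 1 → Commute (i1 x * i2 u) z →
      W1 ⊓ fixd (ρ (i2 u)) ⊓ fixd (ρ z) ≠ ⊥ → False := fun z hz5 hz1 hcz hne => by
    haveI : Fact (Nat.Prime 5) := ⟨by norm_num⟩
    have h6 : orderOf (i1 x * i2 u) = 6 := by rw [hs.ord, hx, hu, lcm_facts.2.1]
    have h5 : orderOf z = 5 := orderOf_eq_prime hz5 hz1
    refine fix_kill hB hφ hVp hρ (n := 30) (z := i1 x * i2 u * z)
      (by rw [hcz.orderOf_mul_eq_mul_orderOf_of_coprime (by rw [h6, h5]; norm_num), h6, h5])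
      (by rw [h11]; norm_num) (not_ok_thirty hbp) hne fun v hv => ?_
    rw [map_mul, map_mul, MulAut.mul_apply, MulAut.mul_apply, show ρ z v = v from hv.2,
      show ρ (i2 u) v = v from hv.1.2, show ρ (i1 x) v = v from hv.1.1]
  rcases hlines with h | ⟨i, h⟩
  · refine kill (i1 f1) hA5 (fun e => ?_) (hxu1.mul_left (hs.comm f1 u).symm) h
    rw [hs.inj1 (e.trans (map_one i1).symm), orderOf_one] at hf1
    omega
  · rw [← map_pow, ← map_mul] at h
    refine kill (i1 f1 ^ i * i2 f2) ?_ (fun e => ?_) ?_ h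
    · rw [((hs.comm f1 f2).pow_left i).mul_pow, hB5, ← pow_mul, mul_comm i, pow_mul, hA5, one_pow, mul_one]
    · rw [← map_pow] at e
      have h2 := hs.ord (f1 ^ i) f2
      rw [e, orderOf_one, hf2] at h2
      have := h2 ▸ Nat.dvd_lcm_right (orderOf (f1 ^ i)) 5
      norm_num at this
    · exact Commute.mul_right ((hxu1.mul_left (hs.comm f1 u).symm).pow_right i) ((hs.comm x f2).mul_left hu2)

theorem module_small (hB : Bound G) (hφ : Function.Surjective φ) (hVp : IsPGroup p ↥V) (hV1 : V ≠ ⊥)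
    (hVK : V ≤ φ.ker) (hsmall : p = 2 ∨ p = 3 ∨ p = 5) (hρ : ∀ g, ρ (φ g) = MulAut.conjNormal g) {i1 i2 : J →* Q}
    (hs : Sides i1 i2) : False := by
  haveI := jSimple
  obtain ⟨c, y, h, k, hc, ho, hF⟩ := jFrob_small hsmall
  have triv : ∀ i : J →* Q, Function.Injective i → ∀ z, ρ (i z) = 1 := fun i hi z => by
    have hy : i y ≠ 1 := fun e => hc.prime.ne_one (by rw [← hF.oy, hi (e.trans (map_one i).symm), orderOf_one])
    have h1 : ρ (i y) = 1 := (hF.map i hy).act_trivial ρ (fun hd => hcard_of hVp hc.prime (hc.ne_small hsmall) ⊤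
      (by rwa [Subgroup.card_top]))
      fun w => norm_trivial hB hφ hVp hVK hρ ((orderOf_injective i hi h).trans ho) w
    have htop : (ρ.comp i).ker = ⊤ :=
      ((inferInstance : (ρ.comp i).ker.Normal).eq_bot_or_eq_top).resolve_left fun e => hy (by
        have h2 : y ∈ (ρ.comp i).ker := MonoidHom.mem_ker.2 h1
        rw [e, mem_bot] at h2
        rw [h2, map_one])
    exact MonoidHom.mem_ker.1 (htop ▸ mem_top z : z ∈ (ρ.comp i).ker)
  obtain ⟨a, ha⟩ := jOrd_exists (show 7 ∈ jOrds by decide)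
  obtain ⟨b, hb⟩ := jOrd_exists (show 11 ∈ jOrds by decide)
  refine fix_kill hB hφ hVp hρ (n := 7 * 11) (z := i1 a * i2 b) ?_ ?_
    (not_ok_two_big (.inl rfl) (.inr (.inl rfl)) (by omega) hsmall) (S := ⊤) ?_ fun v _ => ?_
  · rw [hs.ord, ha, hb, lcm_facts.2.2]
  · rcases hsmall with rfl | rfl | rfl <;> norm_num
  · haveI := (Subgroup.nontrivial_iff_ne_bot V).2 hV1
    exact top_ne_bot
  · rw [map_mul, triv _ hs.inj1, triv _ hs.inj2, one_mul]
    rfl

/-- The module cannot exist. -/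
theorem module_false (hB : Bound G) (hφ : Function.Surjective φ) (hVp : IsPGroup p ↥V) (hV1 : V ≠ ⊥)
    (hVK : V ≤ φ.ker) (hρ : ∀ g, ρ (φ g) = MulAut.conjNormal g) {i1 i2 : J →* Q} (hs : Sides i1 i2) : False := by
  have hpd : p ∣ Nat.card G := by
    obtain ⟨v, hv, hvp⟩ := SzSquare.exists_order_mem hVp hV1
    exact hvp ▸ orderOf_dvd_natCard v
  rcases hB.prime_dvd_card hp.out hpd with e | e | e | hbp
  · exact module_small hB hφ hVp hV1 hVK (.inl e) hρ hs
  · exact module_small hB hφ hVp hV1 hVK (.inr (.inl e)) hρ hs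
  · exact module_small hB hφ hVp hV1 hVK (.inr (.inr e)) hρ hs
  · by_cases h11 : p = 11
    · exact module_eleven hB hφ hVp hV1 h11 hρ hs
    · exact module_not_eleven hB hφ hVp hV1 hbp h11 hρ hs

end Big

/-- No solvable kernel over `J₁ × J₁`. -/
theorem jsquare_injective : ∀ (n : ℕ) (G : Type u) [Group G] [Finite G], Nat.card G ≤ n → Bound G →
    ∀ φ : G →* J × J, Function.Surjective φ → Group.IsSolvable φ.ker → Function.Injective φ := by
  intro n
  induction n with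
  | zero => intro G _ _ h; exact absurd h (not_le.2 Nat.card_pos)
  | succ n ih =>
    intro G _ _ hn hB φ hφ hsol
    rw [← MonoidHom.ker_eq_bot_iff]
    by_contra hne
    obtain ⟨p, hp, hP⟩ := SzSquare.exists_OP_ne_bot hne
    haveI := Fact.mk hp
    set P := OP p φ.ker
    have hPn : normalizer (P : Set G) = ⊤ := top_le_iff.1
      ((normalizer_eq_top_iff.2 (inferInstance : φ.ker.Normal)).ge.trans (normalizer_le_OP p φ.ker))
    set V := zc P
    haveI : IsMulCommutative ↥V := SzSquare.zc_isMulCommutative P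
    haveI hVn : V.Normal := normalizer_eq_top_iff.1 (top_le_iff.1 (hPn.ge.trans (SzSquare.normalizer_le_zc P)))
    have hV1 : V ≠ ⊥ := SzSquare.zc_ne_bot (SzSquare.OP_isPGroup p φ.ker) hP
    have hVK : V ≤ φ.ker := (SzSquare.zc_le P).trans (SzSquare.OP_le p φ.ker)
    let φ' : G ⧸ V →* J × J := QuotientGroup.lift V φ hVK
    have hlt : Nat.card (G ⧸ V) ≤ n := by
      have h1 := V.card_eq_card_quotient_mul_card_subgroup
      have h2 : 1 < Nat.card V := (one_lt_card_iff_ne_bot V).2 hV1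
      have h3 : 0 < Nat.card (G ⧸ V) := Nat.card_pos
      nlinarith
    have hsol' : Group.IsSolvable φ'.ker := by
      haveI := hsol
      refine Group.isSolvable_of_surjective (f := ((QuotientGroup.mk' V).comp φ.ker.subtype).codRestrict φ'.ker fun x =>
        MonoidHom.mem_ker.2 (MonoidHom.mem_ker.1 x.2 : φ x = 1)) ?_
      rintro ⟨x, hx⟩
      obtain ⟨w, rfl⟩ := QuotientGroup.mk'_surjective V x
      exact ⟨⟨w, hx⟩, rfl⟩
    have hinj := ih (G ⧸ V) hlt (hB.quotient V) φ' (fun j => by obtain ⟨x, rfl⟩ := hφ j; exact ⟨x, rfl⟩) hsol'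
    have hKV : φ.ker ≤ V := fun x hx => (QuotientGroup.eq_one_iff x).1 (hinj (by
      rw [map_one]; exact (MonoidHom.mem_ker.1 hx : φ x = 1)))
    let ρX : G →* MulAut ↥V := MulAut.conjNormal
    have hker : φ.ker ≤ ρX.ker := fun x hx => MonoidHom.mem_ker.2 (MulEquiv.ext fun v => Subtype.ext (by
      show x * (v : G) * x⁻¹ = v
      rw [show x * (v : G) = (v : G) * x from
        congrArg Subtype.val (mul_comm (⟨x, hKV hx⟩ : ↥V) v), mul_inv_cancel_right]))
    exact module_false hB hφ ((SzSquare.OP_isPGroup p φ.ker).to_le (SzSquare.zc_le P)) hV1 hVK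
      (ρ := φ.liftOfSurjective hφ ⟨ρX, hker⟩) (fun g => φ.liftOfRightInverse_comp_apply _ _ ⟨ρX, hker⟩ g) sides_prod

end Cfsg.Agent.Recog.JOneSquare
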