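import Cfsg.Agent.Lib.Recog.JOneSquare.Arith

/-!
# Lifts through a homomorphism of a group with squarefree element orders
-/

set_option autoImplicit false
set_option linter.style.haveILetI false

open Subgroup
open scoped commutatorElement

namespace Cfsg.Agent.Recog.JOneSquare

open SzSquare (exists_hallSub)

universe u v

variable {G : Type u} [Group G] {Q : Type v} [Group Q]

/-- All prime divisors of the order lie in `π`. -/
def PiSub (π : Finset ℕ) (T : Subgroup G) : Prop := ∀ q : ℕ, q.Prime → q ∣ Nat.card T → q ∈ π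

/-- A `π`-subgroup of `M` into which all others are conjugate. -/
structure IsHall (π : Finset ℕ) (T M : Subgroup G) : Prop where
  le : T ≤ M
  pi : PiSub π T
  conj : ∀ S ≤ M, PiSub π S → ∃ k ∈ M, ∀ x ∈ S, k * x * k⁻¹ ∈ T

theorem piSub_zpowers {π : Finset ℕ} {x : G} (h : ∀ q : ℕ, q.Prime → q ∣ orderOf x → q ∈ π) :
    PiSub π (zpowers x) := fun q hq hd => h q hq (Nat.card_zpowers x ▸ hd)

theorem piSub_zpowers_prime {π : Finset ℕ} {x : G} {p : ℕ} (hp : p.Prime) (hx : orderOf x = p) (hm : p ∈ π) :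
    PiSub π (zpowers x) := piSub_zpowers fun q hq hd => by
  rw [hx] at hd
  rwa [(Nat.prime_dvd_prime_iff_eq hq hp).1 hd]

theorem PiSub.to_pGroup [Finite G] {p : ℕ} [hp : Fact p.Prime] {T : Subgroup G} (h : PiSub {p} T) :
    IsPGroup p ↥T := by
  refine IsPGroup.of_card (n := (Nat.card T).primeFactorsList.length) ?_
  refine Nat.eq_prime_pow_of_unique_prime_dvd Nat.card_pos.ne' fun {q} hq hd => ?_
  simpa using h q hq hd

theorem piSub_of_pGroup [Finite G] {p : ℕ} [hp : Fact p.Prime] {T : Subgroup G} (h : IsPGroup p ↥T) :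
    PiSub {p} T := fun q hq hd => by
  obtain ⟨n, hn⟩ := IsPGroup.iff_card.1 h
  rw [hn] at hd
  simpa using (Nat.prime_dvd_prime_iff_eq hq hp.out).1 (hq.dvd_of_dvd_pow hd)

theorem exists_hallIn [Finite G] (π : Finset ℕ) (M : Subgroup G) [Group.IsSolvable ↥M] :
    ∃ T, IsHall π T M := by
  obtain ⟨H, hH, hHc⟩ := exists_hallSub (G := ↥M) π
  refine ⟨H.map M.subtype, map_subtype_le H, fun q hq hd => hH q hq ?_, fun S hS hSp => ?_⟩
  · rwa [card_map_of_injective M.subtype_injective] at hd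
  obtain ⟨k, hk⟩ := hHc (S.subgroupOf M) fun q hq hd => hSp q hq (by
    rwa [Nat.card_congr (subgroupOfEquivOfLe hS).toEquiv] at hd)
  exact ⟨k, k.2, fun x hx => ⟨_, hk ⟨x, hS hx⟩ hx, rfl⟩⟩

/-- Sylow subgroups of any subgroup. -/
theorem exists_sylowIn [Finite G] (p : ℕ) [hp : Fact p.Prime] (M : Subgroup G) : ∃ T, IsHall {p} T M := by
  obtain ⟨P⟩ : Nonempty (Sylow p ↥M) := inferInstance
  refine ⟨(P : Subgroup ↥M).map M.subtype, map_subtype_le _, piSub_of_pGroup (P.isPGroup'.map _),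
    fun S hS hSp => ?_⟩
  have hS' : IsPGroup p ↥(S.subgroupOf M) := hSp.to_pGroup.of_equiv (subgroupOfEquivOfLe hS).symm
  obtain ⟨R, hR⟩ := hS'.exists_le_sylow
  obtain ⟨k, hk⟩ := MulAction.exists_smul_eq ↥M R P
  refine ⟨k, k.2, fun x hx => ⟨k * ⟨x, hS hx⟩ * k⁻¹, ?_, rfl⟩⟩
  show k * ⟨x, hS hx⟩ * k⁻¹ ∈ (P : Subgroup ↥M)
  rw [← hk, Sylow.coe_subgroup_smul, ← Grp.map_conj_eq_smul]
  exact mem_map_of_mem _ (hR hx)

theorem IsHall.card_le [Finite G] {π : Finset ℕ} {T M S : Subgroup G} (h : IsHall π T M) (hS : S ≤ M)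
    (hSp : PiSub π S) : Nat.card S ≤ Nat.card T := by
  obtain ⟨k, -, hk⟩ := h.conj S hS hSp
  calc Nat.card S = Nat.card (S.map (MulAut.conj k).toMonoidHom) :=
        (card_map_of_injective (MulAut.conj k).injective).symm
    _ ≤ Nat.card T := card_le_of_le (by rintro _ ⟨x, hx, rfl⟩; exact hk x hx)

theorem IsHall.exists_conj_mem [Finite G] {π : Finset ℕ} {T M : Subgroup G} (h : IsHall π T M) {x : G} (hx : x ∈ M)
    {p : ℕ} (hp : p.Prime) (hxp : orderOf x = p) (hm : p ∈ π) : ∃ k ∈ M, k * x * k⁻¹ ∈ T := by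
  obtain ⟨k, hk, h2⟩ := h.conj (zpowers x) (zpowers_le.2 hx) (piSub_zpowers_prime hp hxp hm)
  exact ⟨k, hk, h2 x (mem_zpowers x)⟩

theorem IsHall.dvd_card [Finite G] {π : Finset ℕ} {T M : Subgroup G} (h : IsHall π T M) {p : ℕ} (hp : p.Prime)
    (hm : p ∈ π) (hd : p ∣ Nat.card M) : p ∣ Nat.card T := by
  haveI := Fact.mk hp
  obtain ⟨⟨x, hx⟩, hxp⟩ := exists_prime_orderOf_dvd_card' p hd
  rw [Subgroup.orderOf_mk] at hxp
  obtain ⟨k, -, hk⟩ := h.exists_conj_mem hx hp hxp hm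
  have h2 := T.orderOf_dvd_natCard hk
  rwa [SzSquare.orderOf_conj, hxp] at h2

theorem IsHall.mem_of_normalizer [Finite G] {π : Finset ℕ} {T M : Subgroup G} (h : IsHall π T M) {x : G}
    (hx : x ∈ M) (hn : x ∈ normalizer (T : Set G)) {p : ℕ} (hp : p.Prime) (hxp : orderOf x = p) (hm : p ∈ π) :
    x ∈ T := by
  have hd : Nat.card ↥(zpowers x ⊔ T) ∣ Nat.card (zpowers x) * Nat.card T :=
    Grp.card_sup_dvd_mul (zpowers_le.2 hn)
  have hle := h.card_le (sup_le (zpowers_le.2 hx) h.le) fun q hq hq2 => by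
    rcases (Nat.Prime.dvd_mul hq).1 (hq2.trans hd) with e | e
    · exact piSub_zpowers_prime hp hxp hm q hq e
    · exact h.pi q hq e
  exact (eq_of_le_of_card_ge le_sup_right hle).ge (mem_sup_left (mem_zpowers x))

/-- The Frattini argument. -/
theorem IsHall.frattini [Finite G] {π : Finset ℕ} {T M : Subgroup G} (h : IsHall π T M) {g : G}
    (hg : ∀ x ∈ M, g * x * g⁻¹ ∈ M) : ∃ k ∈ M, k * g ∈ normalizer (T : Set G) := by
  obtain ⟨k, hk, h2⟩ := h.conj (T.map (MulAut.conj g).toMonoidHom)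
    (by rintro _ ⟨x, hx, rfl⟩; exact hg x (h.le hx))
    (fun q hq hd => h.pi q hq (by rwa [card_map_of_injective (MulAut.conj g).injective] at hd))
  refine ⟨k, hk, mem_normalizer_fintype fun x hx => ?_⟩
  show k * g * x * (k * g)⁻¹ ∈ T
  rw [show k * g * x * (k * g)⁻¹ = k * (g * x * g⁻¹) * k⁻¹ by group]
  exact h2 _ ⟨x, hx, rfl⟩

/-- Conjugation by a normalising element. -/
theorem conj_mem_of_normalizer {T : Subgroup G} {g x : G} (hg : g ∈ normalizer (T : Set G)) (hx : x ∈ T) :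
    g * x * g⁻¹ ∈ T := Grp.mem_conj_normalizer hg hx

variable (φ : G →* Q)

/-- Frattini for a subgroup `N` normalising its part of the kernel: the image is kept. -/
theorem IsHall.map_frattini [Finite G] {π : Finset ℕ} {T M N : Subgroup G} (h : IsHall π T M) (hMK : M ≤ φ.ker)
    (hMN : M ≤ N) (hn : N ≤ normalizer (M : Set G)) : (N ⊓ normalizer (T : Set G)).map φ = N.map φ := by
  refine le_antisymm (map_mono inf_le_left) ?_
  rintro _ ⟨g, hg, rfl⟩
  obtain ⟨k, hk, hkg⟩ := h.frattini fun x hx => conj_mem_of_normalizer (hn hg) hx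
  exact ⟨k * g, ⟨mul_mem (hMN hk) hg, hkg⟩, by rw [map_mul, MonoidHom.mem_ker.1 (hMK hk), one_mul]⟩

/-- A power with the same image and the same order as the image. -/
theorem exact_pow (hB : Bound G) (g : G) : ∃ i : ℕ, orderOf (g ^ i) = orderOf (φ g) ∧ φ (g ^ i) = φ g := by
  set m := orderOf (φ g)
  obtain ⟨l, hl⟩ := orderOf_map_dvd φ g
  have hcop : m.Coprime l := Nat.coprime_of_squarefree_mul (hl ▸ hB.squarefree g)
  obtain ⟨i, hi1, hi2⟩ := Nat.chineseRemainder hcop 1 0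
  have hφ : φ (g ^ i) = φ g := by
    rw [map_pow]
    conv_rhs => rw [← pow_one (φ g)]
    exact pow_eq_pow_iff_modEq.2 hi1
  refine ⟨i, Nat.dvd_antisymm (orderOf_dvd_of_pow_eq_one ?_) ?_, hφ⟩
  · rw [← pow_mul, ← orderOf_dvd_iff_pow_eq_one, hl, mul_comm i m]
    exact Nat.mul_dvd_mul_left _ (Nat.modEq_zero_iff_dvd.1 hi2)
  · show orderOf (φ g) ∣ _
    conv_lhs => rw [← hφ]
    exact orderOf_map_dvd φ _

/-- An element of the image lifts with the same order. -/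
theorem exists_lift (hB : Bound G) {N : Subgroup G} {q : Q} (hq : q ∈ N.map φ) :
    ∃ g ∈ N, φ g = q ∧ orderOf g = orderOf q := by
  obtain ⟨g, hg, rfl⟩ := hq
  obtain ⟨i, h1, h2⟩ := exact_pow φ hB g
  exact ⟨g ^ i, pow_mem hg i, h2, h1⟩

theorem inj_of_coprime [Finite G] {c : ℕ} [hc : Fact c.Prime] (hcK : ¬ c ∣ Nat.card φ.ker) {P : Subgroup G}
    (hP : IsPGroup c ↥P) {x : G} (hx : x ∈ P) (h1 : φ x = 1) : x = 1 := by
  by_contra hne
  obtain ⟨k, hk⟩ := IsPGroup.iff_orderOf.1 hP ⟨x, hx⟩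
  rw [Subgroup.orderOf_mk] at hk
  refine hcK (dvd_trans ?_ (φ.ker.orderOf_dvd_natCard (MonoidHom.mem_ker.2 h1)))
  rw [hk]
  refine dvd_pow_self c fun e => hne ?_
  rw [e, pow_zero] at hk
  exact orderOf_eq_one_iff.1 hk

/-- Elements normalising the image of a subgroup of prime order lift to elements normalising it. -/
theorem norm_covers [Finite G] {N : Subgroup G} {y : G} (hyN : y ∈ N) {c : ℕ} (hc : c.Prime)
    (hy : orderOf y = c) (hcK : ¬ c ∣ Nat.card φ.ker) {d : Q} (hd : d ∈ N.map φ) {k : ℕ}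
    (hk : d * φ y * d⁻¹ = φ y ^ k) : ∃ g ∈ N, φ g = d ∧ g * y * g⁻¹ = y ^ k := by
  haveI := Fact.mk hc
  obtain ⟨g0, hg0, rfl⟩ := hd
  have hy1 : φ y ≠ 1 := fun e => hcK (hy ▸ φ.ker.orderOf_dvd_natCard (MonoidHom.mem_ker.2 e))
  have hoy : orderOf (φ y) = c := orderOf_eq_prime (by rw [← map_pow, ← hy, pow_orderOf_eq_one, map_one]) hy1
  set M := N ⊓ (zpowers (φ y)).comap φ
  have hyM : y ∈ M := ⟨hyN, mem_zpowers _⟩
  obtain ⟨P, hP⟩ := exists_sylowIn c M
  have hPp := hP.pi.to_pGroup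
  haveI : Finite ↥(zpowers (φ y)) := Nat.finite_of_card_ne_zero (by rw [Nat.card_zpowers, hoy]; exact hc.ne_zero)
  have hcard : Nat.card P ≤ c := by
    rw [← hoy, ← Nat.card_zpowers]
    refine Nat.card_le_card_of_injective (fun x : ↥P => (⟨φ x, (hP.le x.2).2⟩ : ↥(zpowers (φ y)))) fun a b e => ?_
    refine Subtype.ext (mul_inv_eq_one.1 (inj_of_coprime φ hcK hPp (mul_mem a.2 (inv_mem b.2)) ?_))
    rw [map_mul, map_inv, mul_inv_eq_one]
    exact congrArg Subtype.val e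
  have hyP : PiSub {c} (zpowers y) := piSub_zpowers_prime hc hy (by simp)
  obtain ⟨k1, hk1, hc1⟩ := hP.conj _ (zpowers_le.2 hyM) hyP
  have hP' : ∀ z ∈ P, k1⁻¹ * z * k1 ∈ zpowers y := by
    have he : (zpowers y).map (MulAut.conj k1).toMonoidHom = P := eq_of_le_of_card_ge
      (by rintro _ ⟨x, hx, rfl⟩; exact hc1 x hx)
      (by rw [card_map_of_injective (MulAut.conj k1).injective, Nat.card_zpowers, hy]; exact hcard)
    intro z hz
    rw [← he] at hz
    obtain ⟨x, hx, rfl⟩ := hz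
    simpa [mul_assoc] using hx
  obtain ⟨k2, hk2, hc2⟩ := hP.conj (zpowers (g0 * y * g0⁻¹))
    (zpowers_le.2 ⟨N.mul_mem (N.mul_mem hg0 hyN) (N.inv_mem hg0), by
      show φ (g0 * y * g0⁻¹) ∈ zpowers (φ y)
      rw [map_mul, map_mul, map_inv, hk]; exact npow_mem_zpowers _ _⟩)
    (piSub_zpowers_prime hc (by rw [SzSquare.orderOf_conj, hy]) (by simp))
  set m := k1⁻¹ * k2
  have hm : m ∈ M := mul_mem (inv_mem hk1) hk2
  have hconj : m * (g0 * y * g0⁻¹) * m⁻¹ ∈ zpowers y := by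
    have := hP' _ (hc2 _ (mem_zpowers _))
    rwa [show m * (g0 * y * g0⁻¹) * m⁻¹ = k1⁻¹ * (k2 * (g0 * y * g0⁻¹) * k2⁻¹) * k1 by simp [m]; group]
  obtain ⟨i, hi⟩ := mem_zpowers_iff.1 hm.2
  obtain ⟨l, hl⟩ := mem_zpowers_iff.1 hconj
  refine ⟨(y ^ i)⁻¹ * m * g0, N.mul_mem (N.mul_mem (N.inv_mem (N.zpow_mem hyN i)) hm.1) hg0, ?_, ?_⟩
  · rw [map_mul, map_mul, map_inv, map_zpow, hi, inv_mul_cancel, one_mul]
  · have e1 : (y ^ i)⁻¹ * m * g0 * y * ((y ^ i)⁻¹ * m * g0)⁻¹ = y ^ l := by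
      rw [show (y ^ i)⁻¹ * m * g0 * y * ((y ^ i)⁻¹ * m * g0)⁻¹ = (y ^ i)⁻¹ * (m * (g0 * y * g0⁻¹) * m⁻¹) * y ^ i by
        group, ← hl]
      group
    rw [e1, ← zpow_natCast]
    refine zpow_eq_zpow_iff_modEq.2 ?_
    rw [hy, ← hoy]
    refine zpow_eq_zpow_iff_modEq.1 ?_
    rw [zpow_natCast, ← map_zpow, ← e1, map_mul, map_inv, map_mul, map_mul, map_mul, map_inv, map_zpow, hi,
      inv_mul_cancel, one_mul, hk]

theorem cent_covers [Finite G] {N : Subgroup G} {y : G} (hyN : y ∈ N) {c : ℕ} (hc : c.Prime)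
    (hy : orderOf y = c) (hcK : ¬ c ∣ Nat.card φ.ker) {d : Q} (hd : d ∈ N.map φ) (hk : d * φ y = φ y * d) :
    d ∈ (N ⊓ centralizer ({y} : Set G)).map φ := by
  obtain ⟨g, hg, hgd, hgy⟩ := norm_covers φ hyN hc hy hcK hd (k := 1) (by rw [pow_one, hk, mul_inv_cancel_right])
  exact ⟨g, ⟨hg, mem_centralizer_singleton_iff.2 (by rwa [pow_one, mul_inv_eq_iff_eq_mul] at hgy)⟩, hgd⟩

/-- The data of a subgroup isomorphic to `A₄`. -/
structure A4El (e g : G) : Prop where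
  ne : e ≠ 1
  sq : e * e = 1
  cube : g * g * g = 1
  comm : e * (g * e * g⁻¹) = g * e * g⁻¹ * e
  prod : e * (g * e * g⁻¹) * (g * (g * e * g⁻¹) * g⁻¹) = 1

variable {φ}

theorem A4El.map {e g : G} (h : A4El e g) (f : G →* Q) (hf : Function.Injective f) : A4El (f e) (f g) where
  ne := fun h1 => h.ne ((map_eq_one_iff f hf).1 h1)
  sq := by rw [← map_mul, h.sq, map_one]
  cube := by rw [← map_mul, ← map_mul, h.cube, map_one]
  comm := by simp only [← map_mul, ← map_inv, h.comm]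
  prod := by simp only [← map_mul, ← map_inv, h.prod, map_one]

theorem A4El.orderOf_eq {e g : G} (h : A4El e g) : orderOf e = 2 :=
  orderOf_eq_prime (by rw [pow_two]; exact h.sq) h.ne

theorem A4El.third {e g : G} (h : A4El e g) : g * (g * e * g⁻¹) * g⁻¹ = e * (g * e * g⁻¹) := by
  have e1 := eq_inv_of_mul_eq_one_right h.prod
  rw [e1, mul_inv_rev, show (g * e * g⁻¹)⁻¹ = g * e * g⁻¹ from by
    rw [mul_inv_rev, mul_inv_rev, inv_inv, inv_eq_of_mul_eq_one_right h.sq, mul_assoc],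
    inv_eq_of_mul_eq_one_right h.sq, h.comm]

theorem A4El.mem_commutator {e g : G} (h : A4El e g) : e ∈ commutator G := by
  have h3 : e * (g * e * g⁻¹) ∈ commutator G := by
    have : e * (g * e * g⁻¹) = ⁅e, g⁆⁻¹⁻¹ := by
      rw [inv_inv, commutatorElement_def, inv_eq_of_mul_eq_one_right h.sq]; group
    rw [this, inv_inv]
    exact commutator_mem_commutator (mem_top e) (mem_top g)
  have h1 := (inferInstance : (commutator G).Normal).conj_mem _ h3 g
  have e2 : g * (e * (g * e * g⁻¹)) * g⁻¹ = e := by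
    have e3 := h.third
    calc g * (e * (g * e * g⁻¹)) * g⁻¹ = g * (g * (g * e * g⁻¹) * g⁻¹) * g⁻¹ := by rw [e3]
      _ = (g * g * g) * e * (g * g * g)⁻¹ := by group
      _ = e := by rw [h.cube, one_mul, inv_one, mul_one]
  rwa [e2] at h1

/-- An `A₄` of the image lifts. -/
theorem A4El.lift [Finite G] (hB : Bound G) {N : Subgroup G} {e g : Q} (h : A4El e g) (he : e ∈ N.map φ)
    (hg : g ∈ N.map φ) : ∃ e' g' : G, e' ∈ N ∧ g' ∈ N ∧ A4El e' g' ∧ φ e' = e ∧ φ g' = g := by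
  haveI : Fact (Nat.Prime 2) := ⟨Nat.prime_two⟩
  set e2 := g * e * g⁻¹ with he2
  set V := closure ({e, e2} : Set Q)
  have hV := isMulCommutative_closure (k := ({e, e2} : Set Q)) (by
    rintro a (rfl | rfl) b (rfl | rfl) <;> first | rfl | exact h.comm | exact h.comm.symm)
  have he2V : e2 ∈ V := subset_closure (Set.mem_insert_of_mem _ rfl)
  have heV : e ∈ V := subset_closure (Set.mem_insert _ _)
  set M := N ⊓ V.comap φ
  obtain ⟨T, hT⟩ := exists_sylowIn 2 M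
  have hT2 : ∀ x ∈ T, x * x = 1 := fun x hx => by rw [← pow_two]; exact hB.p_group_pow hT.pi.to_pGroup hx
  have hTc : ∀ x ∈ T, ∀ y ∈ T, x * y = y * x := fun x hx y hy => by
    rw [← inv_eq_of_mul_eq_one_right (hT2 _ (mul_mem hx hy)), mul_inv_rev, inv_eq_of_mul_eq_one_right (hT2 x hx),
      inv_eq_of_mul_eq_one_right (hT2 y hy)]
  -- an involution of the Sylow subgroup over `e2`
  obtain ⟨t0, ht0, ht0e, ht0o⟩ := exists_lift φ hB (q := e2) (mul_mem (mul_mem hg he) (inv_mem hg))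
  have hoe2 : orderOf e2 = 2 := by rw [he2, SzSquare.orderOf_conj, h.orderOf_eq]
  obtain ⟨k, hk, hkt⟩ := hT.exists_conj_mem (x := t0) ⟨ht0, show φ t0 ∈ V by rw [ht0e]; exact he2V⟩ Nat.prime_two (ht0o.trans hoe2) (by simp)
  set t := k * t0 * k⁻¹
  have hte : φ t = e2 := by
    have hc : φ k * e2 = e2 * φ k :=
      congrArg Subtype.val (hV.is_comm.comm (⟨φ k, hk.2⟩ : ↥V) ⟨e2, he2V⟩)
    show φ (k * t0 * k⁻¹) = e2
    rw [map_mul, map_mul, map_inv, ht0e, hc, mul_inv_cancel_right]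
  -- an element of order three normalising it
  obtain ⟨g0, hg0, rfl⟩ := hg
  have hgV : ∀ x ∈ M, g0 * x * g0⁻¹ ∈ M := fun x hx => ⟨N.mul_mem (N.mul_mem hg0 hx.1) (N.inv_mem hg0), by
    show φ (g0 * x * g0⁻¹) ∈ V
    rw [map_mul, map_mul, map_inv]
    have hle : V ≤ V.comap (MulAut.conj (φ g0)).toMonoidHom := (closure_le _).2 (by
      rintro a (rfl | rfl)
      · exact he2V
      · show φ g0 * e2 * (φ g0)⁻¹ ∈ V
        rw [he2, h.third]
        exact mul_mem heV he2V)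
    exact hle hx.2⟩
  obtain ⟨k2, hk2, hkg⟩ := hT.frattini hgV
  -- correct the image
  obtain ⟨s, hs, hse⟩ : ∃ s ∈ T, φ s = φ k2 := by
    set D := T.map φ
    have h2 : e2 ∈ D := ⟨t, hkt, hte⟩
    have hD : ∀ x ∈ D, φ (k2 * g0) * x * (φ (k2 * g0))⁻¹ ∈ D := by
      rintro _ ⟨x, hx, rfl⟩
      exact ⟨_, conj_mem_of_normalizer hkg hx, by rw [map_mul, map_mul, map_inv]⟩
    have hconj : ∀ x ∈ V, φ k2 * x * (φ k2)⁻¹ = x := fun x hx => by
      have hc : φ k2 * x = x * φ k2 := congrArg Subtype.val (hV.is_comm.comm (⟨φ k2, hk2.2⟩ : ↥V) ⟨x, hx⟩)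
      rw [hc, mul_inv_cancel_right]
    have h3 : e * e2 ∈ D := by
      have := hD e2 h2
      rwa [map_mul, show φ k2 * φ g0 * e2 * (φ k2 * φ g0)⁻¹ = φ k2 * (φ g0 * e2 * (φ g0)⁻¹) * (φ k2)⁻¹ by group,
        he2, h.third, hconj _ (mul_mem heV he2V)] at this
    have h1 : e ∈ D := by
      have := mul_mem h3 (inv_mem h2)
      rwa [mul_inv_cancel_right] at this
    exact mem_map.1 ((closure_le (K := D)).2 (by rintro a (rfl | rfl); exacts [h1, h2]) hk2.2)
  obtain ⟨i, hi1, hi2⟩ := exact_pow φ hB (s⁻¹ * (k2 * g0))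
  set g' := (s⁻¹ * (k2 * g0)) ^ i
  have hgn : g' ∈ normalizer (T : Set G) :=
    pow_mem (mul_mem (inv_mem (le_normalizer hs)) hkg) i
  have hgN : g' ∈ N := N.pow_mem (N.mul_mem (N.inv_mem (hT.le hs).1) (N.mul_mem hk2.1 hg0)) i
  have hgimg : φ g' = φ g0 := by
    rw [hi2, map_mul, map_mul, map_inv, hse, inv_mul_cancel_left]
  have hg3 : g' * g' * g' = 1 := by
    have hd : orderOf g' ∣ 3 := by
      show orderOf ((s⁻¹ * (k2 * g0)) ^ i) ∣ 3
      rw [hi1, ← hi2, hgimg]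
      exact orderOf_dvd_of_pow_eq_one (by rw [pow_succ, pow_two]; exact h.cube)
    rw [← pow_two, ← pow_succ]
    exact orderOf_dvd_iff_pow_eq_one.1 hd
  have hct : g' * t * g'⁻¹ ∈ T := conj_mem_of_normalizer hgn hkt
  set e' := t * (g' * t * g'⁻¹)
  have he'T : e' ∈ T := mul_mem hkt hct
  have he2sq : e2 * e2 = 1 := by
    rw [he2, show φ g0 * e * (φ g0)⁻¹ * (φ g0 * e * (φ g0)⁻¹) = φ g0 * (e * e) * (φ g0)⁻¹ by group, h.sq, mul_one,
      mul_inv_cancel]
  have he'i : φ e' = e := by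
    show φ (t * (g' * t * g'⁻¹)) = e
    rw [map_mul φ t, map_mul φ (g' * t), map_mul φ g' t, map_inv, hgimg, hte]
    calc e2 * (φ g0 * e2 * (φ g0)⁻¹) = e2 * (e * e2) := by rw [he2, h.third]
      _ = e2 * (e2 * e) := by rw [he2, h.comm]
      _ = e := by rw [← mul_assoc, he2sq, one_mul]
  refine ⟨e', g', (hT.le he'T).1, hgN,
    ⟨fun e1 => h.ne ?_, hT2 _ he'T, hg3, hTc _ he'T _ (conj_mem_of_normalizer hgn he'T), ?_⟩, he'i, hgimg⟩
  · rw [← he'i, e1, map_one]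
  · have e3 : g' * (g' * (g' * t * g'⁻¹) * g'⁻¹) * g'⁻¹ = t := by
      calc g' * (g' * (g' * t * g'⁻¹) * g'⁻¹) * g'⁻¹ = (g' * g' * g') * t * (g' * g' * g')⁻¹ := by group
        _ = t := by rw [hg3, one_mul, inv_one, mul_one]
    set a := g' * t * g'⁻¹ with ha
    set b := g' * a * g'⁻¹
    show t * a * (g' * (t * a) * g'⁻¹) * (g' * (g' * (t * a) * g'⁻¹) * g'⁻¹) = 1
    have e4 : g' * (t * a) * g'⁻¹ = a * b := by simp only [b, ha]; group
    rw [e4, show g' * (a * b) * g'⁻¹ = b * (g' * b * g'⁻¹) by simp only [b]; group,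
      show g' * b * g'⁻¹ = t from e3]
    calc t * a * (a * b) * (b * t) = t * (a * a) * (b * b) * t := by group
      _ = 1 := by rw [hT2 a hct, hT2 b (conj_mem_of_normalizer hgn hct), mul_one, mul_one, hT2 t hkt]

end Cfsg.Agent.Recog.JOneSquare
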