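import Cfsg.Agent.Lib.Recog.JOneSquare.One
import Cfsg.Agent.Lib.Recog.JOneSquare.CaseII
import Cfsg.Agent.Lib.Recog.SzSquare.Criterion

/-!
# `J₁ × J₁` is recognised by its spectrum
-/

set_option autoImplicit false
set_option linter.style.haveILetI false

open Subgroup

namespace Cfsg.Agent.Recog.JOneSquare

universe u

theorem four_facts : ∀ i j : Fin 4, i ≠ j → ∃ a ∈ jOrds, ∃ b ∈ jOrds,
    ![2, 7, 11, 19] i * ![2, 7, 11, 19] j ∣ Nat.lcm a b := by decide +kernel

theorem four_tri : ∀ i j k : Fin 4, i ≠ j → i ≠ k → j ≠ k →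
    ¬ Ok (![2, 7, 11, 19] i * ![2, 7, 11, 19] j * ![2, 7, 11, 19] k) := by decide +kernel

theorem Spec.not_solvable {G : Type u} [Group G] [Finite G] (hS : Spec G) : ¬ Group.IsSolvable G := fun hs => by
  haveI := hs
  refine SzSquare.FourPrimes.false (G := G) (p := ![2, 7, 11, 19]) ⟨fun i => by fin_cases i <;> norm_num,
    by decide, rfl, fun i j hij => ?_, fun i j k a b c g => hS.bound.not_dvd (four_tri i j k a b c)⟩
  obtain ⟨a, ha, b, hb, hd⟩ := four_facts i j hij
  obtain ⟨g, hg⟩ := hS.occ a ha b hb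
  exact ⟨g, hg ▸ hd⟩

theorem spec_of_range {G : Type u} [Group G] [Finite G]
    (h : Set.range (orderOf : G → ℕ) = Set.range (orderOf : J × J → ℕ)) : Spec G where
  bound g := by
    obtain ⟨⟨a, b⟩, e⟩ := h ▸ Set.mem_range_self (f := (orderOf : G → ℕ)) g
    exact ⟨orderOf a, jOrd a, orderOf b, jOrd b, by rw [← e, Prod.orderOf_mk]⟩
  occ a ha b hb := by
    obtain ⟨x, hx⟩ := jOrd_exists ha
    obtain ⟨y, hy⟩ := jOrd_exists hb
    obtain ⟨g, hg⟩ := h.symm ▸ Set.mem_range_self (f := (orderOf : J × J → ℕ)) (x, y)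
    exact ⟨g, by rw [hg, Prod.orderOf_mk, hx, hy]⟩

/-- `J₁ × J₁` is determined by its set of element orders. -/
theorem recognition {G : Type u} [Group G] [Finite G]
    (h : Set.range (orderOf : G → ℕ) = Set.range (orderOf : J × J → ℕ)) : Nonempty (G ≃* J × J) := by
  have hS := spec_of_range h
  obtain ⟨K, -, hK⟩ := (Set.toFinite {N : Subgroup G | N.Normal ∧ Group.IsSolvable ↥N}).exists_le_maximal
    (a := ⊥) ⟨inferInstance, inferInstance⟩
  obtain ⟨hKn, hKs⟩ := hK.1
  haveI := hKn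
  haveI := hKs
  let φ : G →* G ⧸ K := QuotientGroup.mk' K
  haveI : Group.IsSolvable ↥φ.ker := Grp.isSolvable_of_le (QuotientGroup.ker_mk' K).le hKs
  have hrad : RadFree (G ⧸ K) := by
    intro N hN hs
    set M := N.comap (QuotientGroup.mk' K)
    have hKM : K ≤ M := fun x hx => by
      show QuotientGroup.mk' K x ∈ N
      rw [show QuotientGroup.mk' K x = 1 from (QuotientGroup.eq_one_iff x).2 hx]
      exact one_mem N
    haveI := hs
    have hMs : Group.IsSolvable ↥M := Group.isSolvable_of_ker_le_range (Subgroup.inclusion hKM)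
      ((QuotientGroup.mk' K).subgroupComap N) (fun x hx => by
        have e := congrArg Subtype.val (MonoidHom.mem_ker.1 hx)
        exact ⟨⟨x, (QuotientGroup.eq_one_iff (x : G)).1 e⟩, Subtype.ext rfl⟩)
    rw [← map_comap_eq_self_of_surjective (QuotientGroup.mk'_surjective K) N, Subgroup.map_eq_bot_iff,
      QuotientGroup.ker_mk']
    exact hK.2 ⟨hN.comap _, hMs⟩ hKM
  have S : Setup φ := ⟨hS.bound, QuotientGroup.mk'_surjective K, hrad, by
    by_contra hn
    rw [not_nontrivial_iff_subsingleton] at hn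
    refine hS.not_solvable (Group.isSolvable_of_ker_le_range K.subtype (QuotientGroup.mk' K) ?_)
    rw [QuotientGroup.ker_mk', K.range_subtype]⟩
  have hBQ := S.bound_img
  by_cases hJ : ∃ L : Subgroup (G ⧸ K), Comp L ∧ Nonempty (J ≃* ↥L)
  · obtain ⟨L, hL, ⟨E⟩⟩ := hJ
    by_cases h2 : ∃ T : Subgroup (G ⧸ K), T ≤ centralizer (L : Set (G ⧸ K)) ∧ Comp T ∧ Nonempty (J ≃* ↥T)
    · obtain ⟨T, hT, hTc, ⟨E'⟩⟩ := h2
      exact S.two_j_iso hL E hTc E' hT
    push Not at h2
    rcases eq_or_ne (centralizer (L : Set (G ⧸ K))) ⊥ with hD | hD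
    · have htop : L = ⊤ := eq_top_iff.2 fun z _ => by
        obtain ⟨x, hx, d, hd, rfl⟩ := decomp E (j_normal hBQ hL E) z
        rw [hD, mem_bot] at hd
        rwa [hd, mul_one]
      exact (S.one_false hS.occ ((E.trans ((MulEquiv.subgroupCongr htop).trans topEquiv)).symm)).elim
    · exact (S.j_cent_false hS.occ hL E hD fun T hT hTc h => (h2 T hT hTc).false h.some).elim
  · push Not at hJ
    exact (S.no_j hBQ (fun L hL h => (hJ L hL).false h.some) hS.occ).elim

end Cfsg.Agent.Recog.JOneSquare
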