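import Cfsg.Agent.Lib.Recog.JOneSquare.SmallFix

/-!
# The image `J₁` alone
-/

set_option autoImplicit false
set_option linter.style.haveILetI false

open Subgroup
open scoped IsMulCommutative

namespace Cfsg.Agent.Recog.JOneSquare

open SzSquare (zc fixd mem_fixd pres mem_pres_top OP OP_le OP_isPGroup)

universe u v

theorem IsHall.trans {G : Type u} [Group G] [Finite G] {π π' : Finset ℕ} (hπ : π ⊆ π') {T H M : Subgroup G}
    (h1 : IsHall π T H) (h2 : IsHall π' H M) : IsHall π T M := by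
  refine ⟨h1.le.trans h2.le, h1.pi, fun S hS hSp => ?_⟩
  obtain ⟨k, hk, hkS⟩ := h2.conj S hS fun q hq hd => hπ (hSp q hq hd)
  obtain ⟨l, hl, hlS⟩ := h1.conj (S.map (MulAut.conj k).toMonoidHom) (by rintro _ ⟨x, hx, rfl⟩; exact hkS x hx)
    (fun q hq hd => hSp q hq (by rwa [card_map_of_injective (MulAut.conj k).injective] at hd))
  refine ⟨l * k, M.mul_mem (h2.le hl) hk, fun x hx => ?_⟩
  rw [show l * k * x * (l * k)⁻¹ = l * (k * x * k⁻¹) * l⁻¹ by group]
  exact hlS _ ⟨x, hx, rfl⟩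

theorem comp_small : ∀ c ∈ ([7, 11, 19] : List ℕ), ∃ r ∈ ([3, 5] : List ℕ), Nat.lcm (jDeg c) r = 30 ∧
    15 % r = 0 ∧ (∀ n ∈ jOrds, c ∣ n → ¬ r ∣ n) ∧ jDeg c * r = 30 := by decide

theorem root_one : ∀ c ∈ ([7, 11, 19] : List ℕ), ∀ t < c, t * t % c = 1 → t = 1 ∨ t = c - 1 := by decide

/-- An involution of the complement inverts. -/
theorem Frob.inv_half {Γ : Type v} [Group Γ] {y h : Γ} {c n k l : ℕ} (hc : Big c) (hF : Frob y h c n k)
    (hn : n = 2 * l) : h ^ l * y * (h ^ l)⁻¹ = y⁻¹ := by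
  have hl : 0 < l := Nat.pos_of_mul_pos_left (hn ▸ hF.pos)
  rw [hF.conj_pow]
  have hone : y ^ (k ^ n) = y := by rw [← hF.conj_pow, hF.hh, one_mul, inv_one, mul_one]
  have hsq : k ^ l % c * (k ^ l % c) % c = 1 := by
    rw [← Nat.mul_mod, ← pow_add, ← two_mul, ← hn]
    nth_rw 2 [← pow_one y] at hone
    rw [pow_eq_pow_iff_modEq, hF.oy] at hone
    exact Eq.trans hone (Nat.mod_eq_of_lt hc.prime.one_lt)
  rcases root_one c (big_list c hc) _ (Nat.mod_lt _ hc.prime.pos) hsq with e | e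
  · refine absurd ?_ (hF.dist l (by omega) 0 hF.pos (by omega))
    rw [pow_eq_pow_iff_modEq, hF.oy, pow_zero]
    exact e.trans (Nat.mod_eq_of_lt hc.prime.one_lt).symm
  · rw [← pow_mod_orderOf, hF.oy, e]
    refine eq_inv_of_mul_eq_one_left ?_
    rw [← pow_succ, Nat.sub_add_cancel hc.prime.one_le, ← hF.oy, pow_orderOf_eq_one]

variable {G Q : Type u} [Group G] [Finite G] [Group Q] {φ : G →* Q}

/-- Two large primes with the data of the structure theorem. -/
theorem Setup.one_aux (S : Setup φ) [Group.IsSolvable φ.ker] (E : Q ≃* J) {a b c r : ℕ} (ha : Big a) (hb : Big b)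
    (hc : Big c) (hab : a ≠ b) (hac : a ≠ c) (hbc : b ≠ c) (hr : r = 2 ∨ r = 3 ∨ r = 5) (h30 : jDeg c * r = 30)
    (hcK : ¬ c ∣ Nat.card φ.ker) {π : Finset ℕ} (hπ : ∀ p ∈ π, p = a ∨ p = b ∨ p = r) {T H : Subgroup G}
    (hH : IsHall π H φ.ker) (hT : T ≤ H) (dr : r ∣ Nat.card H) {N : Subgroup G}
    (hNH : N ≤ normalizer (H : Set G)) (hNT : N ≤ normalizer (T : Set G)) {q : G} {M : Subgroup G}
    (h : TwoOut φ a b c T N q M) : False := by
  haveI := Fact.mk ha.prime
  haveI := jSimple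
  have hB := S.bound
  have hJc : commutator J = ⊤ := ((inferInstance : (commutator J).Normal).eq_bot_or_eq_top).resolve_left fun e =>
    jNotComm ⟨⟨fun x y => mem_center_iff.1 ((commutator_eq_bot_iff_center_eq_top J).1 e ▸ mem_top y) x⟩⟩
  have hM : M.map φ = ⊤ := by
    refine top_le_iff.1 (le_trans ?_ h.comm_le)
    have := congrArg (Subgroup.map E.symm.toMonoidHom) hJc
    rw [_root_.commutator_def, map_commutator, map_top_of_surjective _ E.symm.surjective,
      ← _root_.commutator_def] at this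
    rw [this]
  obtain ⟨s, sinj, hsM, -⟩ := exists_section hB φ E hM fun x hx hx1 hbx z hz => by
    obtain ⟨-, hq⟩ := h.ker_big x hx hx1 hbx
    obtain ⟨i, rfl⟩ := mem_zpowers_iff.1 hq
    exact ((show Commute q z from (h.cent z hz).symm).zpow_left i).eq
  have hsH : ∀ j, s j ∈ normalizer (H : Set G) := fun j => hNH (h.M_le (hsM j))
  haveI hHsol : Group.IsSolvable ↥H := isSolvable_le_ker φ hH.le
  obtain ⟨y, y1, k, ho, hF⟩ := jFrob hc
  have hcH : ¬ c ∣ Nat.card H := fun hd => hcK (hd.trans (Subgroup.card_dvd_of_le hH.le))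
  have hdegH : (jDeg c).Coprime (Nat.card H) := Nat.coprime_of_dvd fun p hp hpd hpH => by
    rcases hc with rfl | rfl | rfl <;>
      (rcases hπ p (hH.pi p hp hpH) with rfl | rfl | rfl) <;>
      (try rcases ha with rfl | rfl | rfl) <;> (try rcases hb with rfl | rfl | rfl) <;>
      (try rcases hr with rfl | rfl | rfl) <;> simp_all [jDeg]
  obtain ⟨xy, hxy, hxyr, hcy⟩ := small_fix hB hr s y _ H le_rfl hHsol hsH dr
    (by rw [hF.oy]; exact hc.prime.coprime_iff_not_dvd.2 hcH)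
  obtain ⟨xh, hxh, hxhr, hch⟩ := small_fix hB hr s y1 _ H le_rfl hHsol hsH dr (by rw [ho]; exact hdegH)
  set P := OP a T
  set W := zc P
  haveI : IsMulCommutative ↥W := SzSquare.zc_isMulCommutative P
  have hPp : IsPGroup a ↥P := OP_isPGroup a T
  have hWp : IsPGroup a ↥W := hPp.to_le (SzSquare.zc_le P)
  have hW1 : W ≠ ⊥ := SzSquare.zc_ne_bot hPp h.core
  have hWH : W ≤ H := ((SzSquare.zc_le P).trans (OP_le a T)).trans hT
  have hsW : ∀ j, s j ∈ normalizer (W : Set G) := fun j =>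
    SzSquare.normalizer_le_zc P (normalizer_le_OP a T (hNT (h.M_le (hsM j))))
  have hqH : q ∈ H := hT h.q_mem
  have noab : ∀ x ∈ H, ∀ z ∈ H, orderOf x = a → orderOf z = b → x * z = z * x → False :=
    fun x hx z hz ox oz hxz => h.no_ab (x * z) (mul_mem (hH.le hx) (hH.le hz))
      (SzSquare.mul_dvd_orderOf ha.prime hb.prime hab ox oz hxz)
  have witness : ∀ {j : J} {X : Subgroup ↥W}, X ≠ ⊥ →
      (∀ v ∈ X, conjW W ⟨s j, hsW j⟩ v = v) → ∃ v ∈ H ⊓ centralizer ({s j} : Set G), orderOf v = a := by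
    intro j X hX hfix
    obtain ⟨v, hv, hva⟩ := SzSquare.exists_order_mem (hWp.to_subgroup X) hX
    exact ⟨v, ⟨hWH v.2, mem_centralizer_singleton_iff.2 ((mem_fixd_conjW (hsW j)).1 (hfix v hv)).symm⟩,
      (Subgroup.orderOf_coe v).trans hva⟩
  have hy : orderOf (s y) = c := (orderOf_injective s sinj y).trans hF.oy
  -- no fixed points of the kernel
  have fpf : fixd (conjW W ⟨s y, hsW y⟩) = ⊥ := by
    by_contra hne
    obtain ⟨v, hv, hva⟩ := witness hne fun v hv => hv
    haveI : Group.IsSolvable ↥(H ⊓ centralizer ({s y} : Set G)) := Grp.isSolvable_of_le inf_le_left hHsol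
    have cy : ∀ {x : G}, x ∈ H ⊓ centralizer ({s y} : Set G) → x * s y = s y * x := fun hx =>
      mem_centralizer_singleton_iff.1 hx.2
    exact three_in ha.prime hb.prime (small_prime hr) hab (ha.ne_small hr) (hb.ne_small hr) ⟨v, hv, hva⟩
      ⟨q, ⟨hqH, mem_centralizer_singleton_iff.2 (h.cent _ (hsM y)).symm⟩, h.oq⟩
      ⟨xy, ⟨hxy, mem_centralizer_singleton_iff.2 hcy.symm⟩, hxyr⟩
      (fun x hx z hz => noab x hx.1 z hz.1)
      (fun x hx z hz ox oz hxz => no_tri hB ha hc hac hr ox hy oz (cy hx) hxz (cy hz).symm)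
      (fun x hx z hz ox oz hxz => no_tri hB hb hc hbc hr ox hy oz (cy hx) hxz (cy hz).symm)
  -- the complement has fixed points
  have hy1 : (s.codRestrict _ hsW) y ≠ 1 := fun e => hc.prime.ne_one (by
    rw [← hy, show s y = 1 from congrArg Subtype.val e, orderOf_one])
  have hfix := ((hF.map (s.codRestrict _ hsW) hy1)).fix (conjW W) (S := ⊤)
    (hcard_of hWp hc.prime hac.symm ⊤) (mem_pres_top _) (mem_pres_top _)
    (by rw [top_inf_eq]; exact fpf) (by
      haveI := (Subgroup.nontrivial_iff_ne_bot W).2 hW1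
      exact top_ne_bot)
  rw [top_inf_eq] at hfix
  obtain ⟨v, hv, hva⟩ := witness (j := y1) hfix fun v hv => hv
  haveI : Group.IsSolvable ↥(H ⊓ centralizer ({s y1} : Set G)) := Grp.isSolvable_of_le inf_le_left hHsol
  have cy : ∀ {x : G}, x ∈ H ⊓ centralizer ({s y1} : Set G) → Commute x (s y1) := fun hx =>
    mem_centralizer_singleton_iff.1 hx.2
  have kill : ∀ {p : ℕ}, Big p → ∀ x ∈ H ⊓ centralizer ({s y1} : Set G), ∀ z ∈ H ⊓ centralizer ({s y1} : Set G),
      orderOf x = p → orderOf z = r → x * z = z * x → False := fun {p} hp x hx z hz ox oz hxz => by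
    haveI := Fact.mk hp.prime
    have hcop : (orderOf (s y1)).Coprime (orderOf z) := by
      rw [orderOf_injective s sinj, ho, oz]
      rcases hc with rfl | rfl | rfl <;> (rcases hr with rfl | rfl | rfl) <;> simp [jDeg] at h30 <;> decide
    have h30' : orderOf (s y1 * z) = 30 := by
      rw [(cy hz).symm.orderOf_mul_eq_mul_orderOf_of_coprime hcop, orderOf_injective s sinj, ho, oz, h30]
    refine no_fix_false hB (x := s y1 * z) ox ((cy hx).symm.mul_left (show Commute z x from hxz.symm)).eq ?_ ?_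
    · rw [h30']; rcases hp with rfl | rfl | rfl <;> norm_num
    · rw [h30']; exact not_ok_thirty hp
  exact three_in ha.prime hb.prime (small_prime hr) hab (ha.ne_small hr) (hb.ne_small hr) ⟨v, hv, hva⟩
    ⟨q, ⟨hqH, mem_centralizer_singleton_iff.2 (h.cent _ (hsM y1)).symm⟩, h.oq⟩
    ⟨xh, ⟨hxh, mem_centralizer_singleton_iff.2 hch.symm⟩, hxhr⟩
    (fun x hx z hz => noab x hx.1 z hz.1) (kill ha) (kill hb)

/-- The image cannot be `J₁` alone. -/
theorem Setup.one_false (S : Setup φ) [Group.IsSolvable φ.ker]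
    (occ : ∀ a ∈ jOrds, ∀ b ∈ jOrds, ∃ g : G, orderOf g = Nat.lcm a b) (E : Q ≃* J) : False := by
  have img : ∀ g : G, orderOf (φ g) ∈ jOrds := fun g => by rw [← E.orderOf_eq]; exact jOrd _
  have pairK : ∀ {a b : ℕ}, Big a → Big b → a ≠ b → a ∣ Nat.card φ.ker ∨ b ∣ Nat.card φ.ker := by
    intro a b ha hb hab
    by_contra h
    push Not at h
    obtain ⟨g, hg⟩ := occ a (big_mem_jOrds ha) b (big_mem_jOrds hb)
    exact j_no_prod _ (img g) a (big_list a ha) b (big_list b hb) hab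
      (dvd_image ha.prime h.1 (hg ▸ Nat.dvd_lcm_left a b)) (dvd_image hb.prime h.2 (hg ▸ Nat.dvd_lcm_right a b))
  obtain ⟨c, hc, hcK⟩ : ∃ c, Big c ∧ ¬ c ∣ Nat.card φ.ker := by
    by_contra h
    push Not at h
    exact S.three h
  obtain ⟨a, b, ha, hb, hab, hac, hbc⟩ : ∃ a b, Big a ∧ Big b ∧ a ≠ b ∧ a ≠ c ∧ b ≠ c := by
    rcases hc with rfl | rfl | rfl
    · exact ⟨11, 19, .inr (.inl rfl), .inr (.inr rfl), by omega, by omega, by omega⟩
    · exact ⟨7, 19, .inl rfl, .inr (.inr rfl), by omega, by omega, by omega⟩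
    · exact ⟨7, 11, .inl rfl, .inr (.inl rfl), by omega, by omega, by omega⟩
  have da := (pairK ha hc hac).resolve_right hcK
  have db := (pairK hb hc hbc).resolve_right hcK
  obtain ⟨r, hr', -, hr15, hno, h30⟩ := comp_small c (big_list c hc)
  have hr : r = 2 ∨ r = 3 ∨ r = 5 := by
    rw [List.mem_cons, List.mem_singleton] at hr'
    omega
  have drK : r ∣ Nat.card φ.ker := by
    by_contra h
    obtain ⟨g, hg⟩ := occ 15 (by decide) c (big_mem_jOrds hc)
    exact hno _ (img g) (dvd_image hc.prime hcK (hg ▸ Nat.dvd_lcm_right 15 c))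
      (dvd_image (small_prime hr) h (hg ▸ (Nat.dvd_of_mod_eq_zero hr15).trans (Nat.dvd_lcm_left 15 c)))
  obtain ⟨H, hH⟩ := exists_hallIn {a, b, r} φ.ker
  haveI := isSolvable_le_ker φ hH.le
  obtain ⟨T, hT⟩ := exists_hallIn {a, b} H
  set N := normalizer (H : Set G) ⊓ normalizer (T : Set G) with hN
  have hcov : N.map φ = ⊤ := by rw [hN, hT.map_frattini φ hH.le le_normalizer le_rfl, hH.covers S.surj]
  have hTK : IsHall {a, b} T φ.ker := hT.trans (by intro x; simp; tauto) hH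
  have hTN : T ≤ N := le_inf (hT.le.trans le_normalizer) le_normalizer
  have hy : YHyp Q c := by
    obtain ⟨y, h, k, ho, hF⟩ := jFrob hc
    obtain ⟨l, hl⟩ : ∃ l, jDeg c = 2 * l := by
      exact ⟨jDeg c / 2, by rcases hc with rfl | rfl | rfl <;> rfl⟩
    refine ⟨E.symm y, by rw [E.symm.orderOf_eq, hF.oy], .inr (.inr ⟨E.symm (h ^ l), ?_, ?_⟩)⟩
    · have hl0 : l ≠ 0 := fun e => by have := hF.pos; omega
      rw [E.symm.orderOf_eq, orderOf_pow_of_dvd hl0 (by rw [ho, hl]; exact dvd_mul_left _ _), ho, hl,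
        Nat.mul_div_cancel _ (Nat.pos_of_ne_zero hl0)]
    · rw [← map_inv, ← map_mul, ← map_mul, hF.inv_half hc hl, map_inv]
  have dr : r ∣ Nat.card H := hH.dvd_card (small_prime hr) (by simp) drK
  have hπ : ∀ p ∈ ({a, b, r} : Finset ℕ), p = a ∨ p = b ∨ p = r := fun p hp => by simpa using hp
  rcases S.two ha hb hc hab hac hbc hcK hTK hTN inf_le_right hcov hy da db with ⟨q, M, h⟩ | ⟨q, M, h⟩
  · exact S.one_aux E ha hb hc hab hac hbc hr h30 hcK hπ hH hT.le dr inf_le_left inf_le_right h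
  · exact S.one_aux E hb ha hc hab.symm hbc hac hr h30 hcK (fun p hp => by have := hπ p hp; tauto) hH hT.le dr
      inf_le_left inf_le_right h

end Cfsg.Agent.Recog.JOneSquare
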