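import Cfsg.Agent.Lib.Recog.JOneSquare.Three
import Cfsg.Agent.Lib.Grp.SchurM.Basic
import Cfsg.Agent.Lib.Recog.SzSquare.TwoModule

/-!
# Groups over `J₁` with big order kernel elements central contain `J₁`
-/

set_option autoImplicit false
set_option linter.style.haveILetI false

open Subgroup Finset
open scoped IsMulCommutative

namespace Cfsg.Agent.Recog.JOneSquare

open SzSquare (zc)

universe u

theorem small_frob : ∀ r ∈ ([2, 3, 5] : List ℕ), ∃ c ∈ ([7, 11] : List ℕ), jDeg c % r = 0 := by decide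

/-- A Frobenius subgroup of `J₁` with complement of given small order. -/
theorem jFrob_small {r : ℕ} (hr : r = 2 ∨ r = 3 ∨ r = 5) :
    ∃ (c : ℕ) (y h : J) (k : ℕ), Big c ∧ orderOf h = r ∧ Frob y h c r k := by
  obtain ⟨c, hc, hd⟩ := small_frob r (small_list r hr)
  have hbig : Big c := by
    rw [List.mem_cons, List.mem_singleton] at hc
    rcases hc with rfl | rfl
    exacts [.inl rfl, .inr (.inl rfl)]
  obtain ⟨l, hl⟩ := Nat.dvd_of_mod_eq_zero hd
  obtain ⟨y, h, k, ho, hF⟩ := jFrob hbig
  have hl0 : l ≠ 0 := fun e => by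
    have := hF.pos
    rw [hl, e, mul_zero] at this
    omega
  refine ⟨c, y, h ^ l, k ^ l, hbig, ?_, hF.sub hl⟩
  rw [orderOf_pow_of_dvd hl0 (by rw [ho, hl]; exact dvd_mul_left _ _), ho, hl,
    Nat.mul_div_cancel _ (Nat.pos_of_ne_zero hl0)]

theorem j_nontrivial : Nontrivial J := by
  haveI := jSimple
  infer_instance

/-- A central extension without proper supplements. -/
theorem ker_bot_of_central {X : Type u} [Group X] [Finite X] (φ : X →* J) (hφ : Function.Surjective φ)
    (hc : φ.ker ≤ center X) (hmin : ∀ U : Subgroup X, U.map φ = ⊤ → U = ⊤) : φ.ker = ⊥ := by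
  have hJ : commutator J = ⊤ := by
    haveI := jSimple
    exact ((inferInstance : (commutator J).Normal).eq_bot_or_eq_top).resolve_left fun e => jNotComm
      ⟨⟨fun a b => mem_center_iff.1 ((commutator_eq_bot_iff_center_eq_top J).1 e ▸ mem_top b) a⟩⟩
  have hX : commutator X = ⊤ := hmin _ (by
    rw [_root_.commutator_def, map_commutator, map_top_of_surjective φ hφ, ← _root_.commutator_def, hJ])
  have := Grp.SchurM.inf_commutator_eq_bot J1Cert.multiplier φ hφ hc
  rwa [hX, inf_top_eq] at this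

/-- The kernel in a group without proper supplements: some nontrivial central subgroup inside it. -/
theorem exists_central {X : Type u} [Group X] [Finite X] (φ : X →* J) (hφ : Function.Surjective φ) (hB : Bound X)
    (hbig : ∀ x, φ x = 1 → Big (orderOf x) → ∀ z, x * z = z * x)
    (hmin : ∀ U : Subgroup X, U.map φ = ⊤ → U = ⊤) (hne : φ.ker ≠ ⊥) :
    ∃ V : Subgroup X, V ≤ φ.ker ∧ V ≠ ⊥ ∧ V ≤ center X := by
  obtain ⟨r, hr, hd⟩ := Nat.exists_prime_and_dvd (fun e => hne (Subgroup.card_eq_one.1 e))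
  haveI := Fact.mk hr
  obtain ⟨T, hT⟩ := exists_sylowIn r φ.ker
  have hnor : ∀ {q : ℕ} [Fact q.Prime] {U : Subgroup X}, IsHall {q} U φ.ker → U.Normal := fun hU =>
    normalizer_eq_top_iff.1 (hmin _ (hU.covers hφ))
  haveI hTn : T.Normal := hnor hT
  have hTp := hT.pi.to_pGroup
  have hT1 : T ≠ ⊥ := fun e => by
    have h := hT.dvd_card hr (by simp) hd
    rw [e, Subgroup.card_bot] at h
    exact hr.ne_one (Nat.dvd_one.1 h)
  set V := zc T
  haveI : IsMulCommutative ↥V := SzSquare.zc_isMulCommutative T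
  have hV1 : V ≠ ⊥ := SzSquare.zc_ne_bot hTp hT1
  have hVK : V ≤ φ.ker := (SzSquare.zc_le T).trans hT.le
  haveI hVn : V.Normal := normalizer_eq_top_iff.1 (top_le_iff.1
    ((normalizer_eq_top_iff.2 hTn).ge.trans (SzSquare.normalizer_le_zc T)))
  refine ⟨V, hVK, hV1, ?_⟩
  have hexp : ∀ v ∈ V, v ^ r = 1 := fun v hv => hB.p_group_pow hTp (SzSquare.zc_le T hv)
  rcases hB.prime_dvd_card hr (hd.trans (card_subgroup_dvd_card _)) with e | e | e | hbr
  case inr.inr.inr =>
    intro v hv
    rcases eq_or_ne v 1 with rfl | h1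
    · exact one_mem _
    · exact mem_center_iff.2 fun z => (hbig v (MonoidHom.mem_ker.1 (hVK hv))
        ((orderOf_eq_prime (hexp v hv) h1).symm ▸ hbr) z).symm
  all_goals
    have hsmall : r = 2 ∨ r = 3 ∨ r = 5 := by omega
    -- the kernel centralises
    have hKV : φ.ker ≤ centralizer (V : Set X) := by
      refine (Grp.le_of_forall_sylow (H := φ.ker ⊓ centralizer (V : Set X)) inf_le_left fun q hq => ?_).trans
        inf_le_right
      rcases eq_or_ne q r with rfl | hqr
      · obtain ⟨U, hU⟩ := Grp.exists_isSylowIn q φ.ker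
        obtain ⟨k, hk, hc⟩ := hT.conj U hU.1 (piSub_of_pGroup hU.2.1)
        refine ⟨U, hU, le_inf hU.1 fun x hx => mem_centralizer_iff.2 fun v hv => ?_⟩
        have hx' : x ∈ T := by
          have := hTn.conj_mem _ (hc x hx) k⁻¹
          simpa [mul_assoc] using this
        exact SzSquare.zc_comm hv hx'
      · obtain ⟨U, hU⟩ := exists_sylowIn q φ.ker
        haveI : U.Normal := hnor hU
        have hdis : U ⊓ T = ⊥ := Grp.inf_eq_bot_of_coprime (by
          obtain ⟨i, hi⟩ := IsPGroup.iff_card.1 hU.pi.to_pGroup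
          obtain ⟨j, hj⟩ := IsPGroup.iff_card.1 hTp
          rw [hi, hj]
          exact (((Nat.coprime_primes (Fact.out : q.Prime) hr).2 hqr).pow_left i).pow_right j)
        obtain ⟨U', hU'⟩ := Grp.exists_isSylowIn q φ.ker
        obtain ⟨k, hk, hc⟩ := hU.conj U' hU'.1 (piSub_of_pGroup hU'.2.1)
        refine ⟨U', hU', le_inf hU'.1 fun x hx => mem_centralizer_iff.2 fun v hv => ?_⟩
        have hx' : x ∈ U := by
          have := (inferInstance : U.Normal).conj_mem _ (hc x hx) k⁻¹
          simpa [mul_assoc] using this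
        exact (commute_of_normal_of_disjoint _ _ inferInstance hTn (disjoint_iff.2 hdis) x v hx'
          (SzSquare.zc_le T hv)).eq.symm
    let ρX : X →* MulAut ↥V := MulAut.conjNormal
    have hker : φ.ker ≤ ρX.ker := fun x hx => MonoidHom.mem_ker.2 (MulEquiv.ext fun v => Subtype.ext (by
      show x * (v : X) * x⁻¹ = v
      rw [← mem_centralizer_iff.1 (hKV hx) v v.2, mul_inv_cancel_right]))
    let ρ : J →* MulAut ↥V := φ.liftOfSurjective hφ ⟨ρX, hker⟩
    have hρ : ∀ x, ρ (φ x) = ρX x := fun x => φ.liftOfRightInverse_comp_apply _ _ ⟨ρX, hker⟩ x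
    obtain ⟨c, y, h, k, hc, ho, hF⟩ := jFrob_small hsmall
    have hy1 : ρ y = 1 := by
      refine hF.act_trivial ρ (fun hd' => ?_) fun w => ?_
      · obtain ⟨i, hi⟩ := IsPGroup.iff_card.1 (hTp.to_le (SzSquare.zc_le T) : IsPGroup r ↥V)
        rw [hi] at hd'
        exact hc.ne_small hsmall ((Nat.prime_dvd_prime_iff_eq hc.prime hr).1 (hc.prime.dvd_of_dvd_pow hd'))
      · obtain ⟨g, -, hg, hgo⟩ := exists_lift φ hB (N := ⊤) (q := h) (by
          rw [map_top_of_surjective φ hφ]; trivial)
        rw [ho] at hgo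
        have hφv : φ ((w : X) * g) = h := by rw [map_mul, MonoidHom.mem_ker.1 (hVK w.2), one_mul, hg]
        have hn := SzSquare.mul_pow_norm g w r
        rw [← hgo, pow_orderOf_eq_one, mul_one, hgo] at hn
        have hmem : ((List.range r).map fun j => ((MulAut.conjNormal (g ^ j) w : ↥V) : X)).prod ∈ V :=
          list_prod_mem fun z hz => by
            obtain ⟨j, -, rfl⟩ := List.mem_map.1 hz
            exact (MulAut.conjNormal (g ^ j) w).2
        have h2 : ((w : X) * g) ^ r = 1 := hB.pow_prime hr (k := 2) (by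
          rw [pow_two, pow_mul, hn]
          exact hexp _ hmem)
        rw [h2] at hn
        rw [← List.toFinset_range, List.prod_toFinset _ List.nodup_range]
        refine Subtype.ext ?_
        rw [Subgroup.val_list_prod, List.map_map, Subgroup.coe_one, hn]
        refine congrArg List.prod (List.map_congr_left fun j _ => ?_)
        show (((ρ h) ^ j) w : X) = _
        rw [← hg, hρ, ← map_pow]
    have htop : ρ.ker = ⊤ := by
      haveI := jSimple
      refine ((inferInstance : ρ.ker.Normal).eq_bot_or_eq_top).resolve_left fun e => hF.prime.ne_one ?_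
      have : y ∈ ρ.ker := MonoidHom.mem_ker.2 hy1
      rw [e, mem_bot] at this
      rw [← hF.oy, this, orderOf_one]
    intro v hv
    refine mem_center_iff.2 fun x => mul_inv_eq_iff_eq_mul.1 ?_
    have h1 : ρX x = 1 := by
      rw [← hρ]
      exact MonoidHom.mem_ker.1 (htop ▸ mem_top (φ x))
    exact congrArg Subtype.val (DFunLike.congr_fun h1 ⟨v, hv⟩)

/-- A group over `J₁` whose kernel elements of big prime order are central contains `J₁` as a section. -/
theorem section_split : ∀ (n : ℕ) (X : Type u) [Group X] [Finite X], Nat.card X ≤ n → ∀ φ : X →* J,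
    Function.Surjective φ → Bound X → (∀ x, φ x = 1 → Big (orderOf x) → ∀ z, x * z = z * x) →
    ∃ s : J →* X, ∀ j, φ (s j) = j := by
  intro n
  induction n with
  | zero => intro X _ _ h; exact absurd h (not_le.2 Nat.card_pos)
  | succ n ih =>
    intro X _ _ hn φ hφ hB hbig
    by_cases hmin : ∀ U : Subgroup X, U.map φ = ⊤ → U = ⊤
    · rcases eq_or_ne φ.ker ⊥ with hk | hne
      · let e := MulEquiv.ofBijective φ ⟨(MonoidHom.ker_eq_bot_iff φ).1 hk, hφ⟩
        exact ⟨e.symm.toMonoidHom, e.apply_symm_apply⟩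
      obtain ⟨V, hVK, hV1, hVc⟩ := exists_central φ hφ hB hbig hmin hne
      haveI hVn : V.Normal := ⟨fun v hv g => by
        rw [mem_center_iff.1 (hVc hv) g, mul_inv_cancel_right]; exact hv⟩
      let φ' : X ⧸ V →* J := QuotientGroup.lift V φ hVK
      have hlt : Nat.card (X ⧸ V) ≤ n := by
        have h1 := V.card_eq_card_quotient_mul_card_subgroup
        have h2 : 1 < Nat.card V := (one_lt_card_iff_ne_bot V).2 hV1
        have h3 : 0 < Nat.card (X ⧸ V) := Nat.card_pos
        nlinarith
      obtain ⟨s, hs⟩ := ih (X ⧸ V) hlt φ' (fun j => by obtain ⟨x, rfl⟩ := hφ j; exact ⟨x, rfl⟩) (hB.quotient V) (by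
        intro x hx hxb z
        obtain ⟨w, rfl⟩ := QuotientGroup.mk'_surjective V x
        obtain ⟨u, rfl⟩ := QuotientGroup.mk'_surjective V z
        obtain ⟨i, hi1, hi2⟩ := exact_pow (QuotientGroup.mk' V) hB w
        have hφw : φ w = 1 := hx
        have := hbig (w ^ i) (by rw [map_pow, hφw, one_pow]) (hi1 ▸ hxb) u
        rw [← hi2, ← map_mul, ← map_mul, this])
      have hr : s.range.comap (QuotientGroup.mk' V) = ⊤ := hmin _ (eq_top_iff.2 fun j _ => by
        obtain ⟨x, hx⟩ := QuotientGroup.mk'_surjective V (s j)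
        refine ⟨x, ⟨j, hx.symm⟩, ?_⟩
        rw [← hs j, ← hx]; rfl)
      have hker : φ.ker ≤ center X := by
        intro x hx
        obtain ⟨j, hj⟩ := show x ∈ s.range.comap (QuotientGroup.mk' V) from hr ▸ mem_top x
        have h1 : φ' (s j) = φ x := by rw [hj]; rfl
        rw [hs, MonoidHom.mem_ker.1 hx] at h1
        rw [h1, map_one] at hj
        exact hVc ((QuotientGroup.eq_one_iff x).1 hj.symm)
      exact absurd (ker_bot_of_central φ hφ hker hmin) hne
    · push Not at hmin
      obtain ⟨U, hU, hUt⟩ := hmin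
      have hlt : Nat.card ↥U ≤ n := by
        by_contra hcon
        exact hUt (eq_top_of_le_card _ (by omega))
      obtain ⟨s, hs⟩ := ih ↥U hlt (φ.comp U.subtype) (fun j => by
        obtain ⟨x, hx, rfl⟩ := (hU ▸ mem_top j : j ∈ U.map φ)
        exact ⟨⟨x, hx⟩, rfl⟩) (hB.subgroup U) (fun x hx hxb z =>
          Subtype.ext (hbig x hx (by rwa [Subgroup.orderOf_coe]) z))
      exact ⟨U.subtype.comp s, hs⟩

/-- The same inside a subgroup. -/
theorem exists_section {G Q : Type u} [Group G] [Finite G] [Group Q] (hB : Bound G) (φ : G →* Q) (E : Q ≃* J)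
    {M : Subgroup G} (hM : M.map φ = ⊤)
    (hbig : ∀ x ∈ M, φ x = 1 → Big (orderOf x) → ∀ z ∈ M, x * z = z * x) :
    ∃ s : J →* G, Function.Injective s ∧ (∀ j, s j ∈ M) ∧ ∀ j, E (φ (s j)) = j := by
  obtain ⟨s, hs⟩ := section_split (Nat.card ↥M) ↥M le_rfl (E.toMonoidHom.comp (φ.comp M.subtype)) (fun j => by
    obtain ⟨x, hx, hx'⟩ := (hM ▸ mem_top (E.symm j) : E.symm j ∈ M.map φ)
    exact ⟨⟨x, hx⟩, show E (φ x) = j by rw [hx', E.apply_symm_apply]⟩) (hB.subgroup M) (fun x hx hxb z =>
      Subtype.ext (hbig x x.2 (E.map_eq_one_iff.1 hx) (by rwa [Subgroup.orderOf_coe]) z z.2))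
  exact ⟨M.subtype.comp s, fun a b e => by rw [← hs a, ← hs b]; exact congrArg _ (Subtype.ext e), fun j => (s j).2, hs⟩

end Cfsg.Agent.Recog.JOneSquare
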