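import Cfsg.Agent.Lib.Recog.JOneSquare.CaseI

/-!
# `J₁` acting on a solvable group fixes elements of small order
-/

set_option autoImplicit false
set_option linter.style.haveILetI false

open Subgroup Finset
open scoped IsMulCommutative commutatorElement

namespace Cfsg.Agent.Recog.JOneSquare

open SzSquare (fixd mem_fixd pres mem_pres_top)

universe u

theorem mul_pow_conjW {G : Type u} [Group G] {W : Subgroup G} [IsMulCommutative ↥W]
    (g : ↥(normalizer (W : Set G))) (w : ↥W) : ∀ n : ℕ,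
    ((w : G) * g) ^ n = ((∏ j ∈ range n, ((conjW W g) ^ j) w : ↥W) : G) * (g : G) ^ n
  | 0 => by simp
  | n + 1 => by
    rw [pow_succ, mul_pow_conjW g w n, prod_range_succ, Subgroup.coe_mul, ← map_pow, conjW_apply, pow_succ (g : G)]
    push_cast
    group

/-- An abelian group of small prime exponent normalised by `J₁` is centralised. -/
theorem small_centralised {G : Type u} [Group G] [Finite G] (hB : Bound G) {r : ℕ} (hr : r = 2 ∨ r = 3 ∨ r = 5)
    {W : Subgroup G} [IsMulCommutative ↥W] (hW : IsPGroup r ↥W) (s : J →* G)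
    (hs : ∀ j, s j ∈ normalizer (W : Set G)) (j : J) {w : G} (hw : w ∈ W) : s j * w = w * s j := by
  haveI := Fact.mk (small_prime hr)
  haveI := jSimple
  let ρ : J →* MulAut ↥W := (conjW W).comp (s.codRestrict _ hs)
  obtain ⟨c, y, h, k, hc, ho, hF⟩ := jFrob_small hr
  have hexp : ∀ v ∈ W, v ^ r = 1 := fun v hv => hB.p_group_pow hW hv
  have hy1 : ρ y = 1 := by
    refine hF.act_trivial ρ (hcard_of hW hc.prime (hc.ne_small hr) ⊤ ∘ fun hd => by rwa [Subgroup.card_top]) fun v => ?_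
    have hgr : ((⟨s h, hs h⟩ : ↥(normalizer (W : Set G))) : G) ^ r = 1 := by
      show s h ^ r = 1
      rw [← map_pow, ← ho, pow_orderOf_eq_one, map_one]
    have hn := mul_pow_conjW ⟨s h, hs h⟩ v r
    rw [hgr, mul_one] at hn
    have h2 : ((v : G) * s h) ^ r = 1 := hB.pow_prime (small_prime hr) (k := 2) (by
      rw [pow_two, pow_mul, hn]
      exact hexp _ (SetLike.coe_mem _))
    rw [h2] at hn
    exact Subtype.ext (by rw [Subgroup.coe_one, hn]; rfl)
  have htop : ρ.ker = ⊤ := by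
    refine ((inferInstance : ρ.ker.Normal).eq_bot_or_eq_top).resolve_left fun e => hF.prime.ne_one ?_
    have : y ∈ ρ.ker := MonoidHom.mem_ker.2 hy1
    rw [e, mem_bot] at this
    rw [← hF.oy, this, orderOf_one]
  have h1 : ρ j = 1 := MonoidHom.mem_ker.1 (htop ▸ mem_top j)
  have h2 : ((ρ j ⟨w, hw⟩ : ↥W) : G) = w := by rw [h1]; rfl
  have h3 : s j * w * (s j)⁻¹ = w := h2
  exact mul_inv_eq_iff_eq_mul.1 h3

/-- The last step: the small prime lies in the abelian top. -/
theorem small_fix_top {G : Type u} [Group G] [Finite G] (hB : Bound G) {r : ℕ} (hr : r = 2 ∨ r = 3 ∨ r = 5)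
    {X X' : Subgroup G} [Group.IsSolvable ↥X] (hX' : X' ≤ X) (hder : ⁅X, X⁆ ≤ X') (s : J →* G)
    (hs : ∀ j, s j ∈ normalizer (X : Set G)) (hs' : ∀ j, s j ∈ normalizer (X' : Set G)) (hd : r ∣ Nat.card X)
    (hd' : ¬ r ∣ Nat.card X') (z : J) (hcop : (orderOf z).Coprime (Nat.card X)) :
    ∃ x ∈ X, orderOf x = r ∧ s z * x = x * s z := by
  haveI := Fact.mk (small_prime hr)
  have hXn : X ≤ normalizer (X' : Set G) := fun g hg => mem_normalizer_fintype fun x hx => by
    have h1 : ⁅g, x⁆ ∈ X' := hder (commutator_mem_commutator hg (hX' hx))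
    have := mul_mem h1 hx
    rwa [commutatorElement_def, inv_mul_cancel_right] at this
  set G1 := normalizer (X' : Set G)
  haveI : (X'.subgroupOf G1).Normal := normal_subgroupOf_of_le_normalizer le_rfl
  let π := QuotientGroup.mk' (X'.subgroupOf G1)
  have memπ : ∀ a : ↥G1, π a = 1 ↔ (a : G) ∈ X' := fun a => (QuotientGroup.eq_one_iff a).trans mem_subgroupOf
  let s1 : J →* ↥G1 := s.codRestrict _ hs'
  let s2 : J →* ↥G1 ⧸ X'.subgroupOf G1 := π.comp s1
  set Xb := (X.subgroupOf G1).map π with hXb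
  haveI hXbc : IsMulCommutative ↥Xb := ⟨⟨by
    rintro ⟨_, a, ha, rfl⟩ ⟨_, b, hb, rfl⟩
    refine Subtype.ext (show π a * π b = π b * π a from ?_)
    rw [← commutatorElement_eq_one_iff_mul_comm, ← map_commutatorElement, memπ]
    exact hder (commutator_mem_commutator ha hb)⟩⟩
  set W : Subgroup (↥G1 ⧸ X'.subgroupOf G1) :=
    { carrier := {w | w ∈ Xb ∧ w ^ r = 1}
      one_mem' := ⟨one_mem _, one_pow r⟩
      mul_mem' := fun {a b} ha hb => ⟨mul_mem ha.1 hb.1, by
        have h : Commute a b := congrArg Subtype.val (hXbc.is_comm.comm ⟨a, ha.1⟩ ⟨b, hb.1⟩)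
        rw [h.mul_pow, ha.2, hb.2, one_mul]⟩
      inv_mem' := fun {a} ha => ⟨inv_mem ha.1, by rw [inv_pow, ha.2, inv_one]⟩ }
  haveI : IsMulCommutative ↥W := ⟨⟨fun a b => Subtype.ext
    (show (a : ↥G1 ⧸ X'.subgroupOf G1) * b = b * a from
      congrArg Subtype.val (hXbc.is_comm.comm ⟨_, a.2.1⟩ ⟨_, b.2.1⟩))⟩⟩
  have hWp : IsPGroup r ↥W := fun w => ⟨1, Subtype.ext (by simpa using w.2.2)⟩
  have hsW : ∀ j, s2 j ∈ normalizer (W : Set (↥G1 ⧸ X'.subgroupOf G1)) := fun j => mem_normalizer_fintype fun w hw => by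
    obtain ⟨⟨a, ha, rfl⟩, hwr⟩ := hw
    refine ⟨⟨s1 j * a * (s1 j)⁻¹, ?_, by simp [s2, map_mul]⟩, by rw [conj_pow, hwr, mul_one, mul_inv_cancel]⟩
    show s j * (a : G) * (s j)⁻¹ ∈ X
    exact conj_mem_of_normalizer (hs j) ha
  -- an element of order `r` of the top
  obtain ⟨⟨u1, hu1⟩, hu1o⟩ := exists_prime_orderOf_dvd_card' r hd
  rw [Subgroup.orderOf_mk] at hu1o
  have huX' : u1 ∉ X' := fun h => hd' (hu1o ▸ X'.orderOf_dvd_natCard h)
  set u : ↥G1 := ⟨u1, hXn hu1⟩
  have hwW : π u ∈ W := ⟨⟨u, hu1, rfl⟩, by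
    rw [← map_pow, show u ^ r = 1 from Subtype.ext (by simpa [u, ← hu1o] using pow_orderOf_eq_one u1), map_one]⟩
  have hcomm := small_centralised (hB.subgroup G1 |>.quotient _) hr hWp s2 hsW z hwW
  -- the group above `X'`
  set C := (centralizer ({s2 z} : Set (↥G1 ⧸ X'.subgroupOf G1))).comap π
  have hC : ∀ y ∈ X' ⊔ zpowers u1, y ∈ C.map G1.subtype := fun y hy =>
    (sup_le (fun x hx => ⟨⟨x, le_normalizer hx⟩, mem_centralizer_singleton_iff.2 (by
        rw [(memπ ⟨x, le_normalizer hx⟩).2 hx, one_mul, mul_one]), rfl⟩)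
      (zpowers_le.2 ⟨u, mem_centralizer_singleton_iff.2 hcomm.symm, rfl⟩) : X' ⊔ zpowers u1 ≤ C.map G1.subtype) hy
  set Y := X' ⊔ zpowers u1 with hYdef
  have hYX : Y ≤ X := sup_le hX' (zpowers_le.2 hu1)
  set A := zpowers (s z)
  have key : ∀ y ∈ Y, s z * y * (s z)⁻¹ * y⁻¹ ∈ X' := fun y hy => by
    obtain ⟨y1, hy1, rfl⟩ := hC y hy
    have h1 : π (s1 z * y1 * (s1 z)⁻¹ * y1⁻¹) = 1 := by
      rw [map_mul, map_mul, map_mul, map_inv, map_inv]
      have h2 : π y1 * π (s1 z) = π (s1 z) * π y1 := mem_centralizer_singleton_iff.1 hy1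
      rw [← h2, mul_inv_cancel_right, mul_inv_cancel]
    exact (memπ _).1 h1
  have hAY : A ≤ normalizer (Y : Set G) := zpowers_le.2 (mem_normalizer_fintype fun y hy => by
    have := mul_mem (mem_sup_left (T := zpowers u1) (key y hy)) hy
    rwa [inv_mul_cancel_right] at this)
  have hcardY : Nat.card Y ∣ Nat.card X' * r := by
    have := Grp.card_sup_dvd_mul (H := zpowers u1) (N := X') (zpowers_le.2 (hXn hu1))
    rwa [sup_comm, Nat.card_zpowers, hu1o, mul_comm r] at this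
  have hAcop : (Nat.card A).Coprime (Nat.card Y) := by
    refine Nat.Coprime.coprime_dvd_left ?_ (hcop.coprime_dvd_right (Subgroup.card_dvd_of_le hYX))
    rw [Nat.card_zpowers]; exact orderOf_map_dvd s z
  obtain ⟨R, hR, hAR⟩ := Grp.exists_invariant_sylow A Y hAY hAcop (.inl inferInstance) r
  have hR1 : R ≠ ⊥ := fun e => hR.2.2 (by
    rw [e, Subgroup.relIndex_bot_left]
    exact hu1o ▸ Y.orderOf_dvd_natCard (mem_sup_right (mem_zpowers u1)))
  obtain ⟨x, hx, hxo⟩ := SzSquare.exists_order_mem hR.2.1 hR1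
  refine ⟨x, hYX (hR.1 hx), hxo, ?_⟩
  have hdis : R ⊓ X' = ⊥ := Grp.inf_eq_bot_of_coprime (by
    obtain ⟨n, hn⟩ := IsPGroup.iff_card.1 hR.2.1
    rw [hn]
    exact ((small_prime hr).coprime_iff_not_dvd.2 hd').pow_left n)
  have hm : s z * x * (s z)⁻¹ * x⁻¹ ∈ R ⊓ X' :=
    mem_inf.2 ⟨mul_mem (conj_mem_of_normalizer (hAR (mem_zpowers _)) hx) (inv_mem hx), key x (hR.1 hx)⟩
  rw [hdis, mem_bot, mul_inv_eq_one, mul_inv_eq_iff_eq_mul] at hm
  exact hm

/-- `J₁` acting on a solvable group: coprime elements fix elements of every small order. -/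
theorem small_fix {G : Type u} [Group G] [Finite G] (hB : Bound G) {r : ℕ} (hr : r = 2 ∨ r = 3 ∨ r = 5)
    (s : J →* G) (z : J) : ∀ (n : ℕ) (X : Subgroup G), Nat.card X ≤ n → Group.IsSolvable ↥X →
    (∀ j, s j ∈ normalizer (X : Set G)) → r ∣ Nat.card X → (orderOf z).Coprime (Nat.card X) →
    ∃ x ∈ X, orderOf x = r ∧ s z * x = x * s z := by
  intro n
  induction n with
  | zero => intro X h; exact absurd h (not_le.2 Nat.card_pos)
  | succ n ih =>
    intro X hn hsol hs hd hcop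
    have hle : ⁅X, X⁆ ≤ X := commutator_le.2 fun a ha b hb =>
      mul_mem (mul_mem (mul_mem ha hb) (inv_mem ha)) (inv_mem hb)
    have hne : X ≠ ⊥ := fun e => by
      rw [e, Subgroup.card_bot] at hd
      exact (small_prime hr).ne_one (Nat.dvd_one.1 hd)
    have hlt : ⁅X, X⁆ ≠ X := by
      haveI := hsol
      haveI := (Subgroup.nontrivial_iff_ne_bot X).2 hne
      intro e
      refine (Group.IsSolvable.commutator_lt_top_of_nontrivial (G := ↥X)).ne ?_
      refine map_injective X.subtype_injective ?_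
      rw [_root_.commutator_def, map_commutator, ← MonoidHom.range_eq_map, X.range_subtype, e]
    have hs' : ∀ j, s j ∈ normalizer ((⁅X, X⁆ : Subgroup G) : Set G) := fun j => mem_normalizer_fintype fun x hx => by
      have e : (⁅X, X⁆ : Subgroup G).map (MulAut.conj (s j)).toMonoidHom ≤ ⁅X, X⁆ := by
        rw [map_commutator]
        have hX : X.map (MulAut.conj (s j)).toMonoidHom ≤ X := by
          rintro _ ⟨y, hy, rfl⟩; exact conj_mem_of_normalizer (hs j) hy
        exact commutator_mono hX hX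
      exact e ⟨x, hx, rfl⟩
    by_cases hd' : r ∣ Nat.card (⁅X, X⁆ : Subgroup G)
    · have hlt' : Nat.card (⁅X, X⁆ : Subgroup G) < Nat.card X := lt_of_not_ge fun h =>
        hlt (eq_of_le_of_card_ge hle h)
      obtain ⟨x, hx, h1, h2⟩ := ih _ (by omega) (Grp.isSolvable_of_le hle hsol) hs' hd'
        (hcop.coprime_dvd_right (Subgroup.card_dvd_of_le hle))
      exact ⟨x, hle hx, h1, h2⟩
    · haveI := hsol
      exact small_fix_top hB hr hle le_rfl s hs hs' hd hd' z hcop

end Cfsg.Agent.Recog.JOneSquare
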