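import Cfsg.Agent.Lib.Recog.JOneSquare.Comps

/-!
# The solvable radical does not have all three large primes
-/

set_option autoImplicit false
set_option linter.style.haveILetI false

open Subgroup

namespace Cfsg.Agent.Recog.JOneSquare

universe u v

variable {G : Type u} [Group G] {Q : Type v} [Group Q]

theorem Big.ne_small {a r : ℕ} (ha : Big a) (hr : r = 2 ∨ r = 3 ∨ r = 5) : a ≠ r := by
  rcases ha with rfl | rfl | rfl <;> omega

theorem small_prime {r : ℕ} (hr : r = 2 ∨ r = 3 ∨ r = 5) : r.Prime := by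
  rcases hr with rfl | rfl | rfl <;> norm_num

/-- Commuting elements of two large orders and a small one. -/
theorem no_tri (hB : Bound G) {a b r : ℕ} (ha : Big a) (hb : Big b) (hab : a ≠ b) (hr : r = 2 ∨ r = 3 ∨ r = 5)
    {x y z : G} (hx : orderOf x = a) (hy : orderOf y = b) (hz : orderOf z = r) (hxy : x * y = y * x)
    (hxz : x * z = z * x) (hyz : y * z = z * y) : False :=
  SzSquare.T3.false (fun _ => hB.not_dvd (not_ok_two_big ha hb hab hr)) ha.prime hb.prime (small_prime hr) hab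
    (ha.ne_small hr) (hb.ne_small hr) hx hy hz hxy hxz hyz

/-- Lucido's lemma inside a solvable subgroup. -/
theorem three_in [Finite G] {C : Subgroup G} [Group.IsSolvable ↥C] {a b c : ℕ} (ha : a.Prime) (hb : b.Prime)
    (hc : c.Prime) (hab : a ≠ b) (hac : a ≠ c) (hbc : b ≠ c) (xa : ∃ x ∈ C, orderOf x = a)
    (xb : ∃ x ∈ C, orderOf x = b) (xc : ∃ x ∈ C, orderOf x = c)
    (h1 : ∀ x ∈ C, ∀ y ∈ C, orderOf x = a → orderOf y = b → x * y = y * x → False)
    (h2 : ∀ x ∈ C, ∀ y ∈ C, orderOf x = a → orderOf y = c → x * y = y * x → False)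
    (h3 : ∀ x ∈ C, ∀ y ∈ C, orderOf x = b → orderOf y = c → x * y = y * x → False) : False := by
  have card : ∀ {p : ℕ}, (∃ x ∈ C, orderOf x = p) → p ∣ Nat.card C := fun ⟨x, hx, e⟩ =>
    e ▸ C.orderOf_dvd_natCard hx
  have key : ∀ {p q : ℕ}, (∀ x ∈ C, ∀ y ∈ C, orderOf x = p → orderOf y = q → x * y = y * x → False) →
      ∀ g : ↥C, ¬ p * q ∣ orderOf g := fun {p q} h g hg => by
    obtain ⟨x, y, hx, hy, hxy⟩ := SzSquare.exists_commuting hg
    exact h x x.2 y y.2 ((Subgroup.orderOf_coe x).trans hx) ((Subgroup.orderOf_coe y).trans hy)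
      (congrArg Subtype.val hxy)
  exact SzSquare.no_three ha hb hc hab hac hbc (card xa) (card xb) (card xc) (key h1) (key h2) (key h3)

theorem PiSub.odd {π : Finset ℕ} {T : Subgroup G} [Finite G] (h : PiSub π T) (h2 : 2 ∉ π) : Odd (Nat.card T) := by
  rw [← Nat.not_even_iff_odd, even_iff_two_dvd]
  exact fun hd => h2 (h 2 Nat.prime_two hd)

theorem isSolvable_le_ker (φ : G →* Q) [Group.IsSolvable φ.ker] {T : Subgroup G} (h : T ≤ φ.ker) :
    Group.IsSolvable ↥T := Grp.isSolvable_of_le h inferInstance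

/-- The normaliser of a Hall subgroup of the kernel covers. -/
theorem IsHall.covers [Finite G] {φ : G →* Q} (hs : Function.Surjective φ) {π : Finset ℕ} {T : Subgroup G}
    (h : IsHall π T φ.ker) : (normalizer (T : Set G)).map φ = ⊤ := by
  have e := h.map_frattini φ (N := ⊤) le_rfl le_top (fun g _ => by rw [normalizer_eq_top]; trivial)
  rwa [top_inf_eq, map_top_of_surjective φ hs] at e

/-- A group without solvable normal subgroups over a solvable kernel. -/
structure Setup (φ : G →* Q) : Prop where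
  bound : Bound G
  surj : Function.Surjective φ
  rad : RadFree Q
  ntriv : Nontrivial Q

theorem Setup.exists_comp [Finite G] {φ : G →* Q} (S : Setup φ) : ∃ L : Subgroup Q, Comp L := by
  haveI := S.ntriv
  haveI := Finite.of_surjective φ S.surj
  obtain ⟨L, -, hL⟩ := JOneSquare.exists_comp S.rad (N := (⊤ : Subgroup Q)) top_ne_bot
  exact ⟨L, hL⟩

theorem Setup.bound_img {φ : G →* Q} (S : Setup φ) : Bound Q := S.bound.of_surjective φ S.surj

theorem Setup.three [Finite G] {φ : G →* Q} (S : Setup φ) [Group.IsSolvable φ.ker]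
    (hall : ∀ p, Big p → p ∣ Nat.card φ.ker) : False := by
  haveI := Finite.of_surjective φ S.surj
  obtain ⟨T, hT⟩ := exists_hallIn {7, 11, 19} φ.ker
  haveI := isSolvable_le_ker φ hT.le
  obtain ⟨L, hL⟩ := S.exists_comp
  obtain ⟨e, g, -, -, h4⟩ := hL.exists_a4 S.bound_img
  have hN := hT.covers S.surj
  obtain ⟨e', g', he, hg, h4', -, -⟩ := h4.lift S.bound (N := normalizer (T : Set G)) (φ := φ)
    (hN ▸ mem_top e) (hN ▸ mem_top g)
  haveI : Group.IsSolvable ↥(T ⊓ centralizer ({e'} : Set G)) := Grp.isSolvable_of_le inf_le_left inferInstance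
  have wit : ∀ p, Big p → ∃ w ∈ T ⊓ centralizer ({e'} : Set G), orderOf w = p := fun p hp => by
    obtain ⟨w, hw, hwp, hew⟩ := h4'.dvd_fix he hg (hT.pi.odd (by decide)) hp.prime
      (hT.dvd_card hp.prime (by simpa [Big] using hp) (hall p hp))
    exact ⟨w, ⟨hw, mem_centralizer_singleton_iff.2 hew.symm⟩, hwp⟩
  have kill : ∀ p q, Big p → Big q → p ≠ q → ∀ x ∈ T ⊓ centralizer ({e'} : Set G),
      ∀ y ∈ T ⊓ centralizer ({e'} : Set G), orderOf x = p → orderOf y = q → x * y = y * x → False :=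
    fun p q hp hq hpq x hx y hy ox oy hxy => no_tri S.bound hp hq hpq (.inl rfl) ox oy h4'.orderOf_eq hxy
      (mem_centralizer_singleton_iff.1 hx.2) (mem_centralizer_singleton_iff.1 hy.2)
  exact three_in (by norm_num : Nat.Prime 7) (by norm_num : Nat.Prime 11) (by norm_num : Nat.Prime 19) (by omega)
    (by omega) (by omega) (wit 7 (.inl rfl)) (wit 11 (.inr (.inl rfl))) (wit 19 (.inr (.inr rfl)))
    (kill 7 11 (.inl rfl) (.inr (.inl rfl)) (by omega)) (kill 7 19 (.inl rfl) (.inr (.inr rfl)) (by omega))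
    (kill 11 19 (.inr (.inl rfl)) (.inr (.inr rfl)) (by omega))

end Cfsg.Agent.Recog.JOneSquare
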